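import Groth.Prelude.Def_SGA1
import Groth.Agent.EGA41Two.MonicVarsRegular
import Groth.Agent.Ega4Algebra1.RegularLocal
import Groth.Agent.Ega4Algebra1.RegularNormal
import Mathlib.LinearAlgebra.Dimension.OrzechProperty
import Mathlib.FieldTheory.IsAlgClosed.AlgebraicClosure

/-!
# Regularity of Kummer algebras over regular local rings
-/

universe u

set_option autoImplicit false
set_option linter.style.haveILetI false
set_option linter.unusedSectionVars false

open IsLocalRing SGA1

namespace Groth.Pi1Tame

variable (A : Type u) [CommRing A] {r : ℕ} (f : Fin r → A) (n : Fin r → ℕ)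

/-- The `i`th root in a Kummer algebra. -/
noncomputable def root (i : Fin r) : kummerAlg A f n := Ideal.Quotient.mk _ (MvPolynomial.X i)

theorem root_pow (i : Fin r) : root A f n i ^ n i = algebraMap A (kummerAlg A f n) (f i) := by
  rw [root, ← map_pow]
  exact Ideal.Quotient.eq.2 (Ideal.subset_span ⟨i, rfl⟩)

variable {A f n}

/-- The map out of a Kummer algebra given by roots. -/
noncomputable def lift {S : Type*} [CommRing S] (g : A →+* S) (y : Fin r → S) (hy : ∀ i, y i ^ n i = g (f i)) :
    kummerAlg A f n →+* S :=
  Ideal.Quotient.lift _ (MvPolynomial.eval₂Hom g y) (fun z hz => by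
    have hle : Ideal.span (Set.range fun i => (MvPolynomial.X i : MvPolynomial (Fin r) A) ^ n i - MvPolynomial.C (f i)) ≤
        RingHom.ker (MvPolynomial.eval₂Hom g y) := by
      refine Ideal.span_le.2 ?_
      rintro _ ⟨i, rfl⟩
      simp [hy i]
    exact hle hz)

theorem lift_root {S : Type*} [CommRing S] (g : A →+* S) (y : Fin r → S) (hy : ∀ i, y i ^ n i = g (f i))
    (i : Fin r) : lift g y hy (root A f n i) = y i := by
  simp [lift, root]

theorem lift_algebraMap {S : Type*} [CommRing S] (g : A →+* S) (y : Fin r → S) (hy : ∀ i, y i ^ n i = g (f i))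
    (a : A) : lift g y hy (algebraMap A _ a) = g a := by
  change Ideal.Quotient.lift _ _ _ (Ideal.Quotient.mk _ (MvPolynomial.C a)) = g a
  rw [Ideal.Quotient.lift_mk, MvPolynomial.eval₂Hom_C]

/-- Induction on a Kummer algebra. -/
theorem induction_on {P : kummerAlg A f n → Prop} (z : kummerAlg A f n) (hC : ∀ a, P (algebraMap A _ a))
    (hadd : ∀ u v, P u → P v → P (u + v)) (hmul : ∀ u i, P u → P (u * root A f n i)) : P z := by
  obtain ⟨p, rfl⟩ := Ideal.Quotient.mk_surjective z
  induction p using MvPolynomial.induction_on with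
  | C a => exact hC a
  | add p q hp hq => rw [map_add]; exact hadd _ _ hp hq
  | mul_X p i hp => rw [map_mul]; exact hmul _ i hp

theorem hom_ext {S : Type*} [CommRing S] {g h : kummerAlg A f n →+* S}
    (hC : ∀ a, g (algebraMap A _ a) = h (algebraMap A _ a)) (hX : ∀ i, g (root A f n i) = h (root A f n i)) :
    g = h := RingHom.ext fun z => induction_on (P := fun z => g z = h z) z hC (fun u v hu hv => by rw [map_add, map_add, hu, hv])
      fun u i hu => by rw [map_mul, map_mul, hu, hX]

variable (f n) in
/-- The defining monic polynomials. -/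
noncomputable def polys (i : Fin r) : Polynomial A := Polynomial.X ^ n i - Polynomial.C (f i)

open Groth.EGA41Two.MonicVars

variable (f n) in
theorem finIdeal_polys : finIdeal (polys f n) =
    Ideal.span (Set.range fun i => (MvPolynomial.X i : MvPolynomial (Fin r) A) ^ n i - MvPolynomial.C (f i)) := by
  unfold finIdeal polys
  congr 2
  ext i : 1
  simp

theorem module_finite (hn : ∀ i, 1 ≤ n i) : Module.Finite A (kummerAlg A f n) := by
  haveI : Algebra.IsIntegral A (kummerAlg A f n) := ⟨fun z => induction_on z (fun a => isIntegral_algebraMap)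
    (fun u v hu hv => hu.add hv)
    (fun u i hu => hu.mul (IsIntegral.of_pow (hn i) (by rw [root_pow]; exact isIntegral_algebraMap)))⟩
  exact Algebra.IsIntegral.finite

theorem module_free [Nontrivial A] (hn : ∀ i, 1 ≤ n i) : Module.Free A (kummerAlg A f n) := by
  have h := (free_finrank (polys f n) fun i => Polynomial.monic_X_pow_sub_C _ (by have := hn i; omega)).1
  rw [finIdeal_polys] at h
  exact h

theorem injective_algebraMap [Nontrivial A] (hn : ∀ i, 1 ≤ n i) : Function.Injective (algebraMap A (kummerAlg A f n)) := by
  have h := algebraMap_injective (polys f n) (fun i => Polynomial.monic_X_pow_sub_C _ (by have := hn i; omega))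
    fun i => by rw [polys, Polynomial.natDegree_X_pow_sub_C]; exact hn i
  rw [finIdeal_polys] at h
  exact h

/-- The prime below a root. -/
theorem comap_span_root (hn : ∀ i, 1 ≤ n i) (i : Fin r) [(Ideal.span {f i}).IsPrime] :
    (Ideal.span {root A f n i}).comap (algebraMap A (kummerAlg A f n)) = Ideal.span {f i} := by
  classical
  refine le_antisymm (fun a ha => ?_) ?_
  · let g : A →+* AlgebraicClosure (FractionRing (A ⧸ Ideal.span {f i})) :=
      (algebraMap (FractionRing (A ⧸ Ideal.span {f i})) _).comp
        ((algebraMap (A ⧸ Ideal.span {f i}) _).comp (Ideal.Quotient.mk _))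
    have hg : ∀ b, g b = 0 → b ∈ Ideal.span {f i} := fun b hb => Ideal.Quotient.eq_zero_iff_mem.1
      ((map_eq_zero_iff _ (IsFractionRing.injective _ (FractionRing (A ⧸ Ideal.span {f i})))).1
        ((map_eq_zero (algebraMap (FractionRing (A ⧸ Ideal.span {f i}))
          (AlgebraicClosure (FractionRing (A ⧸ Ideal.span {f i}))))).1 hb))
    choose y hy using fun k => IsAlgClosed.exists_pow_nat_eq (g (f k)) (hn k)
    have hyi : y i = 0 := by
      refine eq_zero_of_pow_eq_zero (n := n i) ?_
      rw [hy i]
      simp [g, Ideal.Quotient.eq_zero_iff_mem.2 (Ideal.mem_span_singleton_self (f i))]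
    obtain ⟨c, hc⟩ := Ideal.mem_span_singleton.1 (Ideal.mem_comap.1 ha)
    apply hg
    rw [← lift_algebraMap g y hy, hc, map_mul, lift_root, hyi, zero_mul]
  · rw [Ideal.span_le, Set.singleton_subset_iff, SetLike.mem_coe, Ideal.mem_comap, ← root_pow]
    exact Ideal.pow_mem_of_mem _ (Ideal.mem_span_singleton_self _) _ (hn i)

variable [IsRegularLocalRing A] {hm : ∀ i, f i ∈ maximalIdeal A}
  (hf : LinearIndependent (ResidueField A) (fun i => (maximalIdeal A).toCotangent ⟨f i, hm i⟩))
  (hn₁ : ∀ i, 1 ≤ n i)

include hm hn₁ in
theorem isLocalRing_kummer_of_one_le : IsLocalRing (kummerAlg A f n) := by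
  have h := Groth.EGA41Two.MonicVars.isLocalRing (polys f n) (fun i => Polynomial.monic_X_pow_sub_C _ (by have := hn₁ i; omega))
    n (fun i => by have := hn₁ i; omega) fun i => by
      simp [polys, Polynomial.map_sub, (residue_eq_zero_iff _).2 (hm i)]
  rw [finIdeal_polys] at h
  exact h

include hm hn₁ in
theorem ringKrullDim_kummer_of_one_le : ringKrullDim A = ringKrullDim (kummerAlg A f n) := by
  haveI : Algebra.IsIntegral A (kummerAlg A f n) :=
    haveI := module_finite (A := A) (f := f) hn₁
    inferInstance
  exact Groth.EGA41Two.ringKrullDim_eq_of_isIntegral_of_injective (injective_algebraMap hn₁)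

include hm hn₁ in
theorem maximalIdeal_kummer_of_one_le [IsLocalRing (kummerAlg A f n)] :
    maximalIdeal (kummerAlg A f n) =
      (maximalIdeal A).map (algebraMap A _) ⊔ Ideal.span (Set.range (root A f n)) := by
  set N := (maximalIdeal A).map (algebraMap A (kummerAlg A f n)) ⊔ Ideal.span (Set.range (root A f n))
  haveI := module_finite (A := A) (f := f) (n := n) fun i => by have := hn₁ i; omega
  have hle : N ≤ maximalIdeal (kummerAlg A f n) := by
    have hA : (maximalIdeal (kummerAlg A f n)).comap (algebraMap A _) = maximalIdeal A :=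
      IsLocalRing.eq_maximalIdeal (Ideal.isMaximal_comap_of_isIntegral_of_isMaximal _)
    refine sup_le (Ideal.map_le_iff_le_comap.2 hA.ge) (Ideal.span_le.2 ?_)
    rintro _ ⟨i, rfl⟩
    refine (maximalIdeal.isMaximal _).isPrime.mem_of_pow_mem (n i) ?_
    rw [root_pow]
    exact hA.ge (hm i)
  refine le_antisymm (fun z hz => ?_) hle
  have hex : ∀ z : kummerAlg A f n, ∃ a : A, z - algebraMap A _ a ∈ N := fun z =>
    induction_on (P := fun z => ∃ a : A, z - algebraMap A _ a ∈ N) z (fun a => ⟨a, by rw [sub_self]; exact zero_mem _⟩)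
      (fun u v ⟨a, ha⟩ ⟨b, hb⟩ => ⟨a + b, by rw [map_add, add_sub_add_comm]; exact add_mem ha hb⟩)
      (fun u i _ => ⟨0, by
        rw [map_zero, sub_zero]; exact Ideal.mul_mem_left _ _ (Ideal.mem_sup_right (Ideal.subset_span ⟨i, rfl⟩))⟩)
  obtain ⟨a, ha⟩ := hex z
  have h1 : algebraMap A _ a ∈ maximalIdeal (kummerAlg A f n) := by
    have := sub_mem hz (hle ha)
    rwa [sub_sub_cancel] at this
  have h2 : algebraMap A (kummerAlg A f n) a ∈ N := Ideal.mem_sup_left (Ideal.mem_map_of_mem _ (by
    by_contra hu
    exact (mem_maximalIdeal _).1 h1 ((IsLocalRing.notMem_maximalIdeal.1 hu).map _)))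
  simpa using add_mem ha h2

include hf hn₁ in
/-- Kummer algebras on part of a regular system of parameters are regular, with the roots independent modulo the
square of the maximal ideal. -/
theorem kummer_regular_of_one_le : IsRegularLocalRing (kummerAlg A f n) ∧
    ∀ [IsLocalRing (kummerAlg A f n)], ∃ hT : ∀ i, root A f n i ∈ maximalIdeal (kummerAlg A f n),
      LinearIndependent (ResidueField (kummerAlg A f n))
        (fun i => (maximalIdeal (kummerAlg A f n)).toCotangent ⟨root A f n i, hT i⟩) := by
  classical
  haveI := isLocalRing_kummer_of_one_le (hm := hm) hn₁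
  let x : Fin r → maximalIdeal A := fun i => ⟨f i, hm i⟩
  let W := Submodule.span (ResidueField A) (Set.range fun i => (maximalIdeal A).toCotangent (x i))
  obtain ⟨U, hU⟩ := exists_isCompl W
  let u := Module.finBasis (ResidueField A) U
  choose y hy using fun j => (maximalIdeal A).toCotangent_surjective ((u j : CotangentSpace A))
  have hspan : Submodule.span A (Set.range x ∪ Set.range y) = (⊤ : Submodule A (maximalIdeal A)) := by
    rw [← CotangentSpace.span_image_eq_top_iff, Set.image_union, ← Set.range_comp, ← Set.range_comp,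
      Submodule.span_union]
    have hUspan : Submodule.span (ResidueField A) (Set.range ((maximalIdeal A).toCotangent ∘ y)) = U := by
      rw [show (maximalIdeal A).toCotangent ∘ y = U.subtype ∘ u from funext hy, Set.range_comp,
        Submodule.span_image, u.span_eq, Submodule.map_top, Submodule.range_subtype]
    rw [hUspan]
    exact hU.sup_eq_top
  have hT : ∀ i, root A f n i ∈ maximalIdeal (kummerAlg A f n) := fun i =>
    (maximalIdeal_kummer_of_one_le (hm := hm) hn₁).ge (Ideal.mem_sup_right (Ideal.subset_span ⟨i, rfl⟩))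
  have hy' : ∀ j, algebraMap A (kummerAlg A f n) (y j) ∈ maximalIdeal (kummerAlg A f n) := fun j =>
    (maximalIdeal_kummer_of_one_le (hm := hm) hn₁).ge (Ideal.mem_sup_left (Ideal.mem_map_of_mem _ (y j).2))
  let g : Fin r ⊕ Fin (Module.finrank (ResidueField A) U) → maximalIdeal (kummerAlg A f n) :=
    Sum.elim (fun i => ⟨root A f n i, hT i⟩) (fun j => ⟨_, hy' j⟩)
  have hgen : maximalIdeal (kummerAlg A f n) = Ideal.span (Set.range fun s => (g s : kummerAlg A f n)) := by
    refine le_antisymm ?_ (Ideal.span_le.2 (by rintro _ ⟨s, rfl⟩; exact (g s).2))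
    refine (maximalIdeal_kummer_of_one_le (hm := hm) hn₁).le.trans ?_
    refine sup_le (Ideal.map_le_iff_le_comap.2 fun a ha => ?_) (Ideal.span_le.2 ?_)
    · have ha' : (⟨a, ha⟩ : maximalIdeal A) ∈ Submodule.span A (Set.range x ∪ Set.range y) := hspan ▸ trivial
      suffices h : ∀ z ∈ Submodule.span A (Set.range x ∪ Set.range y),
          algebraMap A (kummerAlg A f n) (z : A) ∈ Ideal.span (Set.range fun s => (g s : kummerAlg A f n)) from
        Ideal.mem_comap.2 (h _ ha')
      intro z hz
      induction hz using Submodule.span_induction with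
      | mem z hz =>
        rcases hz with ⟨i, rfl⟩ | ⟨j, rfl⟩
        · change algebraMap A (kummerAlg A f n) (f i) ∈ _
          rw [← root_pow]
          have hi : root A f n i ∈ Ideal.span (Set.range fun s => (g s : kummerAlg A f n)) :=
            Ideal.subset_span ⟨Sum.inl i, rfl⟩
          exact Ideal.pow_mem_of_mem _ hi _ (by have := hn₁ i; omega)
        · exact Ideal.subset_span ⟨Sum.inr j, rfl⟩
      | zero => simp
      | add z w _ _ ihz ihw => rw [Submodule.coe_add, map_add]; exact add_mem ihz ihw
      | smul c z _ ihz => rw [SetLike.val_smul, smul_eq_mul, map_mul]; exact Ideal.mul_mem_left _ _ ihz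
    · rintro _ ⟨i, rfl⟩
      exact Ideal.subset_span ⟨Sum.inl i, rfl⟩
  have hWr : Module.finrank (ResidueField A) W = r := by rw [finrank_span_eq_card hf, Fintype.card_fin]
  have hcard : r + Module.finrank (ResidueField A) U = Module.finrank (ResidueField A) (CotangentSpace A) := by
    rw [← Submodule.finrank_add_eq_of_isCompl hU, hWr]
  have hdA := IsRegularLocalRing.spanFinrank_maximalIdeal (R := A)
  rw [spanFinrank_maximalIdeal_eq_finrank_cotangentSpace, ← hcard, ringKrullDim_kummer_of_one_le (hm := hm) hn₁] at hdA
  haveI := module_finite (A := A) (f := f) (n := n) fun i => by have := hn₁ i; omega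
  haveI : IsNoetherianRing (kummerAlg A f n) := IsNoetherianRing.of_finite A _
  have hreg : IsRegularLocalRing (kummerAlg A f n) := by
    refine IsRegularLocalRing.of_spanFinrank_maximalIdeal_le _ ?_
    rw [← hdA]
    norm_cast
    rw [hgen]
    refine (Submodule.spanFinrank_span_le_ncard_of_finite (Set.finite_range _)).trans ?_
    refine (Finite.card_range_le _).trans_eq ?_
    simp
  refine ⟨hreg, fun {_} => ⟨hT, ?_⟩⟩
  have hc := IsRegularLocalRing.spanFinrank_maximalIdeal (R := kummerAlg A f n)
  rw [spanFinrank_maximalIdeal_eq_finrank_cotangentSpace, ← hdA, Nat.cast_inj] at hc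
  have hli : LinearIndependent (ResidueField (kummerAlg A f n))
      (fun s => (maximalIdeal (kummerAlg A f n)).toCotangent (g s)) := by
    refine linearIndependent_of_top_le_span_of_card_eq_finrank ?_ ?_
    · rw [show (fun s => (maximalIdeal (kummerAlg A f n)).toCotangent (g s)) =
        (maximalIdeal (kummerAlg A f n)).toCotangent ∘ g from rfl, Set.range_comp,
        CotangentSpace.span_image_eq_top_iff.2]
      apply Submodule.map_injective_of_injective (maximalIdeal (kummerAlg A f n)).subtype_injective
      rw [Submodule.map_top, Submodule.range_subtype, Submodule.map_span, ← Set.range_comp]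
      exact hgen.symm
    · rw [hc]; simp
  exact hli.comp Sum.inl Sum.inl_injective

variable (hn : ∀ i, 2 ≤ n i)

include hm hn in
theorem isLocalRing_kummer : IsLocalRing (kummerAlg A f n) :=
  isLocalRing_kummer_of_one_le (hm := hm) fun i => le_trans one_le_two (hn i)

include hm hn in
theorem ringKrullDim_kummer : ringKrullDim A = ringKrullDim (kummerAlg A f n) :=
  ringKrullDim_kummer_of_one_le (hm := hm) fun i => le_trans one_le_two (hn i)

include hm hn in
theorem maximalIdeal_kummer [IsLocalRing (kummerAlg A f n)] :
    maximalIdeal (kummerAlg A f n) =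
      (maximalIdeal A).map (algebraMap A _) ⊔ Ideal.span (Set.range (root A f n)) :=
  maximalIdeal_kummer_of_one_le (hm := hm) fun i => le_trans one_le_two (hn i)

include hf hn in
/-- Kummer algebras on part of a regular system of parameters are regular, with the roots independent modulo the
square of the maximal ideal. -/
theorem kummer_regular : IsRegularLocalRing (kummerAlg A f n) ∧
    ∀ [IsLocalRing (kummerAlg A f n)], ∃ hT : ∀ i, root A f n i ∈ maximalIdeal (kummerAlg A f n),
      LinearIndependent (ResidueField (kummerAlg A f n))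
        (fun i => (maximalIdeal (kummerAlg A f n)).toCotangent ⟨root A f n i, hT i⟩) :=
  kummer_regular_of_one_le hf fun i => le_trans one_le_two (hn i)

include hf hn in
theorem isDomain_kummer : IsDomain (kummerAlg A f n) :=
  haveI := (kummer_regular hf hn).1
  Groth.Ega4Algebra1.isDomain_of_isRegularLocalRing _

include hf hn in
theorem isPrime_span_root (i : Fin r) : (Ideal.span {root A f n i}).IsPrime := by
  haveI := (kummer_regular hf hn).1
  obtain ⟨hT, hli⟩ := (kummer_regular hf hn).2
  have h2 : root A f n i ∉ maximalIdeal (kummerAlg A f n) ^ 2 := fun h =>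
    hli.ne_zero i ((Ideal.toCotangent_eq_zero _ _).2 h)
  obtain ⟨h, -⟩ := Groth.Ega4Algebra1.isRegularLocalRing_quotient_span_singleton (hT i) h2
  haveI := h
  haveI := Groth.Ega4Algebra1.isDomain_of_isRegularLocalRing (kummerAlg A f n ⧸ Ideal.span {root A f n i})
  exact (Ideal.Quotient.isDomain_iff_prime _).1 inferInstance

include hf hn in
theorem root_ne_zero (i : Fin r) : root A f n i ≠ 0 := by
  haveI := (kummer_regular hf hn).1
  obtain ⟨hT, hli⟩ := (kummer_regular hf hn).2
  exact fun h => hli.ne_zero i (by simp only [h]; exact map_zero _)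

end Groth.Pi1Tame
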