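import Groth.Prelude.Def_EtRam
import Mathlib.RingTheory.Unramified.LocalRing
import Mathlib.RingTheory.Kaehler.Basic
import Mathlib.RingTheory.UniqueFactorizationDomain.Multiplicity
import Mathlib.FieldTheory.SeparableClosure
import Mathlib.RingTheory.DiscreteValuationRing.Basic
import Mathlib.RingTheory.Localization.AtPrime.Basic
import Mathlib.RingTheory.Polynomial.Quotient

/-!
# Valuations of tame Kummer extensions

If `F = L(x, y₁, …)` with `y_k^{d_k}` units of a discrete valuation ring `V` of `L`, `d_k` invertible in the residue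
field, and `x^m = ϖ w` with `w` a unit in `L(y₁, …)`, then every valuation ring of `F` over `V` has maximal ideal
generated by `x` and separable residue field extension.
-/

universe u v

set_option autoImplicit false
set_option linter.style.haveILetI false
set_option linter.unusedVariables false

open IsLocalRing

namespace Groth.Pi1Tame

/-- An algebra generated by roots of units of invertible order is formally unramified. -/
theorem formallyUnramified_adjoin {R T : Type u} [CommRing R] [CommRing T] [Algebra R T] {σ : Type v}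
    (y : σ → T) (d : σ → ℕ) (hd : ∀ k, IsUnit (d k : R)) (b : σ → Rˣ)
    (hy : ∀ k, y k ^ d k = algebraMap R T (b k : R)) :
    Algebra.FormallyUnramified R (Algebra.adjoin R (Set.range y)) := by
  set C := Algebra.adjoin R (Set.range y)
  have hD : ∀ c : C, KaehlerDifferential.D R C c = 0 := by
    rintro ⟨c, hc⟩
    induction hc using Algebra.adjoin_induction with
    | mem z hz =>
      obtain ⟨k, rfl⟩ := hz
      set y' : C := ⟨y k, Algebra.subset_adjoin ⟨k, rfl⟩⟩
      have hy' : y' ^ d k = algebraMap R C (b k : R) := Subtype.ext (by simpa [y'] using hy k)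
      rcases eq_or_ne (d k) 0 with h0 | h0
      · have : Subsingleton R := by
          have := hd k
          rw [h0, Nat.cast_zero] at this
          exact isUnit_zero_iff.1 this |> subsingleton_of_zero_eq_one
        have : Subsingleton C := (algebraMap R C).codomain_trivial
        exact (Module.subsingleton C _).elim _ _
      have hu : IsUnit ((d k : C) * y' ^ (d k - 1)) := by
        refine IsUnit.mul ?_ (IsUnit.pow _ ((isUnit_pow_iff h0).1 ?_))
        · simpa using (hd k).map (algebraMap R C)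
        · rw [hy']; exact ((b k).isUnit).map _
      have h := (KaehlerDifferential.D R C).leibniz_pow y' (d k)
      rw [hy', Derivation.map_algebraMap] at h
      rw [← Nat.cast_smul_eq_nsmul C, smul_smul] at h
      exact (hu.smul_eq_zero).1 h.symm
    | algebraMap r => exact Derivation.map_algebraMap _ r
    | add a a' ha ha' iha iha' =>
      rw [show (⟨a + a', _⟩ : C) = ⟨a, ha⟩ + ⟨a', ha'⟩ from rfl, map_add, iha, iha', add_zero]
    | mul a a' ha ha' iha iha' =>
      rw [show (⟨a * a', _⟩ : C) = ⟨a, ha⟩ * ⟨a', ha'⟩ from rfl, Derivation.leibniz, iha, iha', smul_zero,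
        smul_zero, add_zero]
  refine ⟨subsingleton_of_forall_eq 0 fun z => ?_⟩
  have hz : z ∈ Submodule.span C (Set.range (KaehlerDifferential.D R C)) := by
    rw [KaehlerDifferential.span_range_derivation]; trivial
  have : Submodule.span C (Set.range (KaehlerDifferential.D R C)) = ⊥ :=
    Submodule.span_eq_bot.2 (by rintro _ ⟨c, rfl⟩; exact hD c)
  rwa [this, Submodule.mem_bot] at hz

variable {L F : Type u} [Field L] [Field F] [Algebra L F] (W : ValuationSubring F)

/-- The induced algebra structure of a valuation subring over its restriction. -/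
@[reducible] noncomputable def comapAlgebra : Algebra (W.comap (algebraMap L F)) W :=
  (EtRam.inclOfComap W (algebraMap L F)).toAlgebra

variable {W}

theorem valuation_zpow_mul_le {x u : F} (hx0 : x ≠ 0) (hx : W.valuation x < 1) (hu : W.valuation u = 1) {j : ℤ}
    (h : W.valuation (x ^ j * u) < 1) : 0 < j := by
  rw [map_mul, hu, mul_one, map_zpow₀] at h
  by_contra hj
  exact absurd h (not_lt.2 (one_le_zpow_of_nonpos₀ (zero_lt_iff.2 (by simpa using hx0)) hx.le (not_lt.1 hj)))

theorem zpow_eq_zero_of_valuation {x u : F} (hx0 : x ≠ 0) (hx : W.valuation x < 1) (hu : W.valuation u = 1) {j : ℤ}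
    (h : W.valuation (x ^ j * u) = 1) : j = 0 := by
  rw [map_mul, hu, mul_one, map_zpow₀] at h
  exact (zpow_eq_one_iff_right₀ zero_le hx.ne).1 h

/-- A unit of `W` whose residue is separable over the residue field downstairs. -/
def SepUnit (W : ValuationSubring F) (u : F) : Prop :=
  letI := comapAlgebra (L := L) W
  haveI : IsLocalHom (algebraMap (W.comap (algebraMap L F)) W) := EtRam.isLocalHom_inclOfComap W _
  ∃ h : u ∈ W, IsUnit (⟨u, h⟩ : W) ∧
    residue W ⟨u, h⟩ ∈ separableClosure (ResidueField (W.comap (algebraMap L F))) (ResidueField W)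

theorem SepUnit.valuation_eq_one {u : F} (h : SepUnit (L := L) W u) : W.valuation u = 1 :=
  (W.valuation_eq_one_iff ⟨u, h.1⟩).1 h.2.1

theorem SepUnit.ne_zero {u : F} (h : SepUnit (L := L) W u) : u ≠ 0 := by
  rintro rfl; simpa using h.valuation_eq_one

theorem SepUnit.mul {u u' : F} (h : SepUnit (L := L) W u) (h' : SepUnit (L := L) W u') :
    SepUnit (L := L) W (u * u') := by
  letI := comapAlgebra (L := L) W
  haveI : IsLocalHom (algebraMap (W.comap (algebraMap L F)) W) := EtRam.isLocalHom_inclOfComap W _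
  refine ⟨mul_mem h.1 h'.1, h.2.1.mul h'.2.1, ?_⟩
  rw [show (⟨u * u', mul_mem h.1 h'.1⟩ : W) = ⟨u, h.1⟩ * ⟨u', h'.1⟩ from rfl, map_mul]
  exact mul_mem h.2.2 h'.2.2

theorem SepUnit.one : SepUnit (L := L) W (1 : F) := by
  letI := comapAlgebra (L := L) W
  haveI : IsLocalHom (algebraMap (W.comap (algebraMap L F)) W) := EtRam.isLocalHom_inclOfComap W _
  exact ⟨one_mem W, isUnit_one, by rw [show (⟨1, one_mem W⟩ : W) = 1 from rfl, map_one]; exact one_mem _⟩

theorem SepUnit.inv {u : F} (h : SepUnit (L := L) W u) : SepUnit (L := L) W u⁻¹ := by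
  letI := comapAlgebra (L := L) W
  haveI : IsLocalHom (algebraMap (W.comap (algebraMap L F)) W) := EtRam.isLocalHom_inclOfComap W _
  obtain ⟨v, hv⟩ := h.2.1
  have hv' : ((↑v⁻¹ : W) : F) = u⁻¹ := by
    refine eq_inv_of_mul_eq_one_right ?_
    have := congrArg (fun z : W => (z : F)) v.mul_inv
    simpa [hv] using this
  refine ⟨hv' ▸ (↑v⁻¹ : W).2, ?_, ?_⟩
  · rw [show (⟨u⁻¹, hv' ▸ (↑v⁻¹ : W).2⟩ : W) = ↑v⁻¹ from Subtype.ext hv'.symm]; exact v⁻¹.isUnit
  · rw [show (⟨u⁻¹, hv' ▸ (↑v⁻¹ : W).2⟩ : W) = ↑v⁻¹ from Subtype.ext hv'.symm, map_units_inv, hv]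
    exact inv_mem h.2.2

theorem SepUnit.zpow {u : F} (h : SepUnit (L := L) W u) (N : ℤ) : SepUnit (L := L) W (u ^ N) := by
  induction N using Int.induction_on with
  | zero => simpa using SepUnit.one
  | succ n ih => rw [zpow_add_one₀ h.ne_zero]; exact ih.mul h
  | pred n ih => rw [zpow_sub_one₀ h.ne_zero]; exact ih.mul h.inv

variable (W) in
/-- Every element is a power of `x` times a unit with separable residue. -/
theorem exists_eq_zpow_mul [IsDiscreteValuationRing (W.comap (algebraMap L F))] {σ : Type v} [Finite σ]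
    (y : σ → F) (d : σ → ℕ) (hd : ∀ k, IsUnit (d k : W.comap (algebraMap L F)))
    (b : σ → (W.comap (algebraMap L F))ˣ)
    (hy : ∀ k, y k ^ d k = algebraMap L F ((b k : W.comap (algebraMap L F)) : L))
    (ϖ : W.comap (algebraMap L F)) (hϖ : Irreducible ϖ) (x w : F) (m : ℕ) (hm : 1 ≤ m)
    (hx : x ^ m = algebraMap L F (ϖ : L) * w) (hw : w ∈ Algebra.adjoin L (Set.range y))
    (hwu : W.valuation w = 1) (hgen : Algebra.adjoin L (insert x (Set.range y)) = ⊤)
    (z : F) (hz : z ≠ 0) :
    x ≠ 0 ∧ W.valuation x < 1 ∧ ∃ (j : ℤ) (u : F), SepUnit (L := L) W u ∧ z = x ^ j * u := by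
  classical
  letI := comapAlgebra (L := L) W
  haveI : IsLocalHom (algebraMap (W.comap (algebraMap L F)) W) := EtRam.isLocalHom_inclOfComap W _
  let V := W.comap (algebraMap L F)
  -- basic facts about the uniformizer
  have hϖm : ϖ ∈ maximalIdeal V := (mem_maximalIdeal _).2 hϖ.not_isUnit
  let π : F := algebraMap L F (ϖ : L)
  have hπW : π ∈ W := ϖ.2
  have hπ0 : π ≠ 0 := by simpa [π] using hϖ.ne_zero
  have hπ1 : W.valuation π < 1 :=
    (W.valuation_lt_one_iff (algebraMap V W ϖ)).1
      ((mem_maximalIdeal _).2 fun hu => hϖ.not_isUnit (IsUnit.of_map (algebraMap V W) _ hu))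
  have hxv : W.valuation x < 1 := by
    by_contra h
    have := congrArg W.valuation hx
    rw [map_pow, map_mul, hwu, mul_one] at this
    exact absurd (this ▸ one_le_pow₀ (not_lt.1 h)) (not_le.2 hπ1)
  have hx0 : x ≠ 0 := by
    rintro rfl
    rw [zero_pow (by omega), eq_comm, mul_eq_zero] at hx
    rcases hx with h | h
    · exact hπ0 h
    · simp [h] at hwu
  refine ⟨hx0, hxv, ?_⟩
  -- the unramified subalgebra generated by the roots of units
  have hyW : ∀ k, y k ∈ W := fun k => by
    by_contra h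
    rw [← W.valuation_le_one_iff, not_le] at h
    have h1 := congrArg W.valuation (hy k)
    rw [map_pow] at h1
    rcases eq_or_ne (d k) 0 with h0 | h0
    · have := hd k
      rw [h0, Nat.cast_zero] at this
      exact not_isUnit_zero this
    · have := (W.valuation_le_one (algebraMap V W (b k : V))).trans_lt (one_lt_pow₀ h h0)
      exact this.ne (by rw [h1]; rfl)
  let y' : σ → W := fun k => ⟨y k, hyW k⟩
  have hy' : ∀ k, y' k ^ d k = algebraMap V W (b k : V) := fun k => Subtype.ext (hy k)
  let C := Algebra.adjoin V (Set.range y')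
  haveI : Algebra.FormallyUnramified V C := formallyUnramified_adjoin y' d hd b hy'
  haveI : Module.Finite V C := Module.Finite.iff_fg.2 (fg_adjoin_of_finite (Set.finite_range y') (by
    rintro _ ⟨k, rfl⟩
    refine ⟨Polynomial.X ^ d k - Polynomial.C (b k : V), Polynomial.monic_X_pow_sub_C _ ?_, ?_⟩
    · intro h0
      have := hd k
      rw [h0, Nat.cast_zero] at this
      exact not_isUnit_zero this
    · simp [Polynomial.eval₂_sub, hy' k]))
  haveI : IsNoetherianRing C := IsNoetherianRing.of_finite V C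
  let M : Ideal C := Ideal.comap C.val (maximalIdeal W)
  haveI : M.IsPrime := Ideal.comap_isPrime _ _
  haveI : M.LiesOver (maximalIdeal V) := ⟨by
    refine le_antisymm (fun a ha => ?_) (le_maximalIdeal (Ideal.IsPrime.ne_top inferInstance))
    change algebraMap V W a ∈ maximalIdeal W
    exact (mem_maximalIdeal _).2 fun hu => (mem_maximalIdeal _).1 ha (IsUnit.of_map (algebraMap V W) _ hu)⟩
  let := Localization.AtPrime.algebraOfLiesOver (maximalIdeal V) M
  have hmap := ((Algebra.isUnramifiedAt_iff_map_eq V (maximalIdeal V) M).1 inferInstance).2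
  rw [hϖ.maximalIdeal_eq, Ideal.map_span, Set.image_singleton] at hmap
  haveI : IsDomain (Localization.AtPrime M) :=
    IsLocalization.isDomain_localization M.primeCompl_le_nonZeroDivisors
  -- residues of `C` are separable
  have hres : ∀ c : C, residue W (c : W) ∈ separableClosure (ResidueField V) (ResidueField W) := by
    rintro ⟨c, hc⟩
    induction hc using Algebra.adjoin_induction with
    | mem z hz =>
      obtain ⟨k, rfl⟩ := hz
      rw [mem_separableClosure_iff]
      have hsep : (Polynomial.X ^ d k - Polynomial.C (residue V (b k : V))).Separable :=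
        Polynomial.separable_X_pow_sub_C _ (by simpa using ((hd k).map (residue V)).ne_zero)
          ((b k).isUnit.map (residue V)).ne_zero
      refine hsep.of_dvd (minpoly.dvd _ _ ?_)
      simp only [map_sub, map_pow, Polynomial.aeval_X, Polynomial.aeval_C, ResidueField.algebraMap_residue]
      rw [← map_pow, hy' k, sub_self]
    | algebraMap r =>
      rw [← ResidueField.algebraMap_residue]
      exact IntermediateField.algebraMap_mem _ _
    | add a a' ha ha' iha iha' => rw [map_add]; exact add_mem iha iha'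
    | mul a a' ha ha' iha iha' => rw [map_mul]; exact mul_mem iha iha'
  have hsepC : ∀ c : C, c ∉ M → SepUnit (L := L) W ((c : W) : F) := fun c hc =>
    ⟨(c : W).2, by_contra fun h => hc ((mem_maximalIdeal _).2 h), hres c⟩
  -- elements of `C`
  have hC : ∀ c : C, c ≠ 0 → ∃ (N : ℕ) (u : F), SepUnit (L := L) W u ∧ ((c : W) : F) = π ^ N * u := by
    intro c hc
    have hc' : algebraMap C (Localization.AtPrime M) c ≠ 0 :=
      (map_ne_zero_iff _ (IsLocalization.injective (Localization.AtPrime M) M.primeCompl_le_nonZeroDivisors)).2 hc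
    have hnu : ¬ IsUnit (algebraMap V (Localization.AtPrime M) ϖ) :=
      (mem_maximalIdeal _).1 (hmap ▸ Ideal.mem_span_singleton_self _)
    obtain ⟨N, a, ha, hac⟩ := WfDvdMonoid.max_power_factor' hc' hnu
    have hau : IsUnit a := by
      by_contra hau
      have : a ∈ maximalIdeal (Localization.AtPrime M) := (mem_maximalIdeal _).2 hau
      rw [← hmap, Ideal.mem_span_singleton] at this
      exact ha this
    obtain ⟨t, s, rfl⟩ := IsLocalization.exists_mk'_eq M.primeCompl a
    have ht : t ∉ M := (IsLocalization.AtPrime.isUnit_mk'_iff (Localization.AtPrime M) M t s).1 hau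
    have key : c * (s : C) = algebraMap V C ϖ ^ N * t := by
      apply IsLocalization.injective (Localization.AtPrime M) M.primeCompl_le_nonZeroDivisors
      rw [map_mul, hac, mul_assoc, IsLocalization.mk'_spec, map_mul, map_pow,
        ← IsScalarTower.algebraMap_apply]
    refine ⟨N, ((t : W) : F) * ((((s : C) : W)) : F)⁻¹, (hsepC t ht).mul (hsepC _ s.2).inv, ?_⟩
    have key' := congrArg (fun q : C => ((q : W) : F)) key
    simp only [MulMemClass.coe_mul, SubmonoidClass.coe_pow] at key'
    rw [← mul_assoc, eq_mul_inv_iff_mul_eq₀ (hsepC _ s.2).ne_zero]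
    exact key'
  -- elements of the field generated by the roots of units
  have hscale : ∀ e ∈ Algebra.adjoin L (Set.range y), ∃ (k : ℕ) (c : C), e * π ^ k = ((c : W) : F) := by
    intro e he
    induction he using Algebra.adjoin_induction with
    | mem z hz =>
      obtain ⟨k, rfl⟩ := hz
      exact ⟨0, ⟨y' k, Algebra.subset_adjoin ⟨k, rfl⟩⟩, by simp [y']⟩
    | algebraMap l =>
      rcases V.mem_or_inv_mem l with hl | hl
      · exact ⟨0, algebraMap V C ⟨l, hl⟩, by simp; rfl⟩
      · rcases eq_or_ne l 0 with rfl | hl0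
        · exact ⟨0, 0, by simp⟩
        · obtain ⟨k, v, hv⟩ := IsDiscreteValuationRing.eq_unit_mul_pow_irreducible
            (x := (⟨l⁻¹, hl⟩ : V)) (fun h => by simpa [hl0] using congrArg Subtype.val h) hϖ
          refine ⟨k, algebraMap V C ↑v⁻¹, ?_⟩
          have h1 : ((↑v⁻¹ : V) : L) * l⁻¹ = (ϖ : L) ^ k := by
            have := congrArg (fun q : V => ((↑v⁻¹ : V) * q : L)) hv
            simp only [MulMemClass.coe_mul, SubmonoidClass.coe_pow] at this
            rw [this, ← mul_assoc, ← MulMemClass.coe_mul, Units.inv_mul, OneMemClass.coe_one, one_mul]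
          have h2 : l * (ϖ : L) ^ k = ((↑v⁻¹ : V) : L) := by rw [← h1]; field_simp
          calc algebraMap L F l * π ^ k = algebraMap L F (l * (ϖ : L) ^ k) := by simp [π]
            _ = _ := by rw [h2]; rfl
    | add a a' ha ha' iha iha' =>
      obtain ⟨k, c, hc⟩ := iha
      obtain ⟨k', c', hc'⟩ := iha'
      refine ⟨k + k', c * algebraMap V C ϖ ^ k' + c' * algebraMap V C ϖ ^ k, ?_⟩
      simp only [AddMemClass.coe_add, MulMemClass.coe_mul, SubmonoidClass.coe_pow, ← hc, ← hc']
      rw [show (((algebraMap V C ϖ : C) : W) : F) = π from rfl]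
      ring
    | mul a a' ha ha' iha iha' =>
      obtain ⟨k, c, hc⟩ := iha
      obtain ⟨k', c', hc'⟩ := iha'
      refine ⟨k + k', c * c', ?_⟩
      simp only [MulMemClass.coe_mul, ← hc, ← hc']
      ring
  have hE : ∀ e ∈ Algebra.adjoin L (Set.range y), e ≠ 0 →
      ∃ (N : ℤ) (u : F), SepUnit (L := L) W u ∧ e = π ^ N * u := by
    intro e he he0
    obtain ⟨k, c, hc⟩ := hscale e he
    obtain ⟨N, u, hu, hcu⟩ := hC c (by
      rintro rfl
      simp [he0, hπ0] at hc)
    refine ⟨(N : ℤ) - k, u, hu, ?_⟩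
    rw [zpow_sub₀ hπ0, zpow_natCast, zpow_natCast, div_mul_eq_mul_div, eq_div_iff (pow_ne_zero _ hπ0), hc, hcu]
  -- the unit `w`
  have hwS : SepUnit (L := L) W w := by
    obtain ⟨N, u, hu, rfl⟩ := hE w hw (by rintro rfl; simp at hwu)
    obtain rfl := zpow_eq_zero_of_valuation hπ0 hπ1 hu.valuation_eq_one hwu
    simpa using hu
  -- `F` is spanned by the first `m` powers of `x`
  let E := Algebra.adjoin L (Set.range y)
  have hpoly : ∃ p : Polynomial E, Polynomial.aeval x p = z := by
    have hz' : z ∈ Algebra.adjoin L (insert x (Set.range y)) := hgen ▸ trivial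
    clear hz
    induction hz' using Algebra.adjoin_induction with
    | mem q hq =>
      rcases hq with rfl | hq
      · exact ⟨Polynomial.X, Polynomial.aeval_X _⟩
      · exact ⟨Polynomial.C ⟨q, Algebra.subset_adjoin hq⟩, Polynomial.aeval_C _ _⟩
    | algebraMap r => exact ⟨Polynomial.C (algebraMap L E r), by rw [Polynomial.aeval_C]; rfl⟩
    | add a a' _ _ iha iha' =>
      obtain ⟨p, rfl⟩ := iha; obtain ⟨p', rfl⟩ := iha'; exact ⟨p + p', map_add _ _ _⟩
    | mul a a' _ _ iha iha' =>
      obtain ⟨p, rfl⟩ := iha; obtain ⟨p', rfl⟩ := iha'; exact ⟨p * p', map_mul _ _ _⟩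
  obtain ⟨p, rfl⟩ := hpoly
  let a : E := ⟨π * w, mul_mem (Subalgebra.algebraMap_mem _ _) hw⟩
  let q : Polynomial E := p %ₘ (Polynomial.X ^ m - Polynomial.C a)
  have hmonic : (Polynomial.X ^ m - Polynomial.C a).Monic := Polynomial.monic_X_pow_sub_C a (by omega)
  have hq : Polynomial.aeval x p = Polynomial.aeval x q :=
    (Polynomial.aeval_modByMonic_eq_self_of_root (by simp [a, hx, π])).symm
  have hqdeg : q.natDegree < m := by
    have := Polynomial.natDegree_modByMonic_lt p hmonic (by
      intro h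
      have := congrArg Polynomial.natDegree h
      rw [Polynomial.natDegree_X_pow_sub_C, Polynomial.natDegree_one] at this
      omega)
    rwa [Polynomial.natDegree_X_pow_sub_C] at this
  rw [hq, Polynomial.aeval_eq_sum_range' hqdeg] at hz ⊢
  let S := (Finset.range m).filter fun k => q.coeff k ≠ 0
  have hsum : ∑ i ∈ Finset.range m, q.coeff i • x ^ i = ∑ i ∈ S, (q.coeff i : F) * x ^ i := by
    refine (Finset.sum_subset (Finset.filter_subset _ _) fun i hi hiS => ?_).symm
    have hc : q.coeff i = 0 := by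
      by_contra hc
      exact hiS (Finset.mem_filter.2 ⟨hi, hc⟩)
    change (q.coeff i : F) * x ^ i = 0
    rw [hc, ZeroMemClass.coe_zero, zero_mul]
  have hterm : ∀ i ∈ S, ∃ (j : ℤ) (u : F), SepUnit (L := L) W u ∧ (q.coeff i : F) * x ^ i = x ^ j * u ∧
      j % (m : ℤ) = i := by
    intro i hi
    obtain ⟨hi1, hi2⟩ := Finset.mem_filter.1 hi
    obtain ⟨N, u, hu, he⟩ := hE _ (q.coeff i).2 (fun h => hi2 (Subtype.ext h))
    refine ⟨m * N + i, u * w ^ (-N), hu.mul (hwS.zpow _), ?_, ?_⟩
    · have hπ : π = x ^ (m : ℤ) * w⁻¹ := by rw [zpow_natCast, hx, mul_assoc, mul_inv_cancel₀ hwS.ne_zero, mul_one]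
      rw [he, hπ, mul_zpow, ← zpow_mul, inv_zpow', zpow_add₀ hx0, zpow_natCast]
      ring
    · rw [Int.add_emod, Int.mul_emod_right, zero_add, Int.emod_emod_of_dvd _ dvd_rfl,
        Int.emod_eq_of_lt (by omega) (by exact_mod_cast Finset.mem_range.1 hi1)]
  choose! j u hu he hj using hterm
  rw [hsum] at hz ⊢
  have hS : S.Nonempty := Finset.nonempty_iff_ne_empty.2 fun h => hz (by rw [h, Finset.sum_empty])
  obtain ⟨i₀, hi₀, hmin⟩ := S.exists_min_image j hS
  let r : F := ∑ i ∈ S.erase i₀, x ^ (j i - j i₀) * u i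
  have hr : ∀ i ∈ S.erase i₀, x ^ (j i - j i₀) * u i ∈ W ∧ W.valuation (x ^ (j i - j i₀) * u i) < 1 := by
    intro i hi
    obtain ⟨hne, hiS⟩ := Finset.mem_erase.1 hi
    have hlt : 0 < j i - j i₀ := by
      have : j i ≠ j i₀ := fun h => hne (by exact_mod_cast ((hj i hiS).symm.trans (h ▸ hj i₀ hi₀)))
      have := hmin i hiS
      omega
    have hv : W.valuation (x ^ (j i - j i₀) * u i) < 1 := by
      rw [map_mul, (hu i hiS).valuation_eq_one, mul_one, map_zpow₀]
      exact zpow_lt_one₀ (zero_lt_iff.2 (by simpa using hx0)) hxv hlt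
    exact ⟨(W.valuation_le_one_iff _).1 hv.le, hv⟩
  have hrW : r ∈ W := sum_mem fun i hi => (hr i hi).1
  have hrm : (⟨r, hrW⟩ : W) ∈ maximalIdeal W := (W.valuation_lt_one_iff _).2 (by
    refine Valuation.map_sum_lt W.valuation one_ne_zero fun i hi => (hr i hi).2)
  obtain ⟨hu0W, hu0u, hu0r⟩ := hu i₀ hi₀
  refine ⟨j i₀, u i₀ + r, ⟨add_mem hu0W hrW, ?_, ?_⟩, ?_⟩
  · rw [show (⟨u i₀ + r, add_mem hu0W hrW⟩ : W) = ⟨u i₀, hu0W⟩ + ⟨r, hrW⟩ from rfl]
    by_contra h
    have h' := (mem_maximalIdeal _).2 h
    exact (mem_maximalIdeal _).1 ((Ideal.add_mem_iff_left _ hrm).1 h') hu0u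
  · rw [show (⟨u i₀ + r, add_mem hu0W hrW⟩ : W) = ⟨u i₀, hu0W⟩ + ⟨r, hrW⟩ from rfl, map_add,
      (residue_eq_zero_iff _).2 hrm, add_zero]
    exact hu0r
  · rw [← Finset.add_sum_erase _ _ hi₀, he i₀ hi₀, mul_add, Finset.mul_sum]
    refine congrArg _ (Finset.sum_congr rfl fun i hi => ?_)
    rw [he i (Finset.mem_of_mem_erase hi), ← mul_assoc, ← zpow_add₀ hx0]
    congr 2
    ring

variable (W) in
/-- The maximal ideal of a valuation ring of a tame Kummer extension is generated by `x` and the residue field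
extension is separable. -/
theorem kummer_dominant [IsDiscreteValuationRing (W.comap (algebraMap L F))] {σ : Type v} [Finite σ]
    (y : σ → F) (d : σ → ℕ) (hd : ∀ k, IsUnit (d k : W.comap (algebraMap L F)))
    (b : σ → (W.comap (algebraMap L F))ˣ)
    (hy : ∀ k, y k ^ d k = algebraMap L F ((b k : W.comap (algebraMap L F)) : L))
    (ϖ : W.comap (algebraMap L F)) (hϖ : Irreducible ϖ) (x w : F) (m : ℕ) (hm : 1 ≤ m)
    (hx : x ^ m = algebraMap L F (ϖ : L) * w) (hw : w ∈ Algebra.adjoin L (Set.range y))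
    (hwu : W.valuation w = 1) (hgen : Algebra.adjoin L (insert x (Set.range y)) = ⊤) :
    letI := comapAlgebra (L := L) W
    haveI : IsLocalHom (algebraMap (W.comap (algebraMap L F)) W) := EtRam.isLocalHom_inclOfComap W _
    x ∈ W ∧ W.valuation x < 1 ∧ (∀ z : F, W.valuation z < 1 → z / x ∈ W) ∧
      Algebra.IsSeparable (ResidueField (W.comap (algebraMap L F))) (ResidueField W) := by
  letI := comapAlgebra (L := L) W
  haveI : IsLocalHom (algebraMap (W.comap (algebraMap L F)) W) := EtRam.isLocalHom_inclOfComap W _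
  have H := exists_eq_zpow_mul W y d hd b hy ϖ hϖ x w m hm hx hw hwu hgen
  obtain ⟨hx0, hxv, -⟩ := H 1 one_ne_zero
  refine ⟨(W.valuation_le_one_iff _).1 hxv.le, hxv, fun z hz => ?_, ⟨fun q => ?_⟩⟩
  · rcases eq_or_ne z 0 with rfl | hz0
    · simp
    obtain ⟨-, -, j, u, hu, rfl⟩ := H z hz0
    have hj := valuation_zpow_mul_le hx0 hxv hu.valuation_eq_one hz
    obtain ⟨n, hn⟩ := Int.eq_ofNat_of_zero_le (show (0 : ℤ) ≤ j - 1 by omega)
    rw [show x ^ j * u / x = x ^ (j - 1) * u by rw [zpow_sub_one₀ hx0]; ring, hn, zpow_natCast]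
    exact mul_mem (pow_mem ((W.valuation_le_one_iff _).1 hxv.le) _) hu.1
  · obtain ⟨⟨z, hzW⟩, rfl⟩ := residue_surjective q
    by_cases hz : IsUnit (⟨z, hzW⟩ : W)
    · have hz0 : z ≠ 0 := fun h => hz.ne_zero (Subtype.ext h)
      obtain ⟨-, -, j, u, hu, he⟩ := H z hz0
      have hj := zpow_eq_zero_of_valuation hx0 hxv hu.valuation_eq_one
        (by rw [← he]; exact (W.valuation_eq_one_iff ⟨z, hzW⟩).1 hz)
      subst hj
      rw [zpow_zero, one_mul] at he
      subst he
      exact mem_separableClosure_iff.1 hu.2.2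
    · rw [(residue_eq_zero_iff _).2 ((mem_maximalIdeal _).2 hz)]
      rw [← map_zero (algebraMap (ResidueField (W.comap (algebraMap L F))) (ResidueField W))]
      exact isSeparable_algebraMap _

end Groth.Pi1Tame
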