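import Groth.Agent.Pi1Tame.TamePoint
import Mathlib.Algebra.CharP.Basic

/-!
# Choice of exponents for the absolute Abhyankar lemma
-/

universe u

set_option autoImplicit false
set_option linter.style.haveILetI false
set_option linter.unusedSectionVars false

open IsLocalRing SGA1 EtRam Groth.EtaleAlgebra

namespace Groth.Pi1Tame

variable {A : Type u} [CommRing A] [IsDomain A] [IsRegularLocalRing A] {r : ℕ} {f : Fin r → A}
  {hm : ∀ i, f i ∈ maximalIdeal A} [∀ i, (Ideal.span {f i}).IsPrime]
  {B : Type u} [CommRing B] [Algebra A B] [Algebra (Localization.Away (∏ i, f i)) B]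
  [IsScalarTower A (Localization.Away (∏ i, f i)) B] [Module.Finite (Localization.Away (∏ i, f i)) B]
  [Algebra.FormallyUnramified (Localization.Away (∏ i, f i)) B]

theorem not_mem_span_of_char {p : ℕ} (hp : p.Prime) (hpA : (p : ResidueField A) = 0) {i : Fin r}
    (hbad : (p : A) ∉ Ideal.span {f i}) (hm : ∀ i, f i ∈ maximalIdeal A) {N : ℕ} (hN : 1 ≤ N) :
    (N : A) ∉ Ideal.span {f i} := by
  haveI := Fact.mk hp
  haveI : CharP (ResidueField A) p := CharP.charP_iff_prime_eq_zero hp |>.2 hpA
  intro h
  induction N using Nat.strong_induction_on with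
  | _ N ih =>
    by_cases hd : p ∣ N
    · obtain ⟨c, rfl⟩ := hd
      rw [Nat.cast_mul] at h
      rcases (inferInstance : (Ideal.span {f i}).IsPrime).mem_or_mem h with h | h
      · exact hbad h
      · have hc : 1 ≤ c := by
          rcases Nat.eq_zero_or_pos c with hc | hc
          · rw [hc, mul_zero] at hN; omega
          · exact hc
        exact ih c (lt_mul_of_one_lt_left hc hp.one_lt) hc h
    · have hu : IsUnit (N : A) := isUnit_natCast_of_residue (isUnit_iff_ne_zero.2 fun h0 =>
        hd ((CharP.cast_eq_zero_iff (ResidueField A) p N).1 h0))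
      exact (inferInstance : (Ideal.span {f i}).IsPrime).ne_top (Ideal.eq_top_of_isUnit_mem _ h hu)

/-- Ramification indices of a tame cover: bounded, and prime to the characteristic exponent where it vanishes. -/
theorem exists_ram_bound (hf : LinearIndependent (ResidueField A) (fun i => (maximalIdeal A).toCotangent ⟨f i, hm i⟩))
    (htame : IsTameAlong f (algebraMap A B)) : ∃ D : ℕ,
    ∀ (i : Fin r) (q : Ideal B) [q.IsPrime] (hq : Ideal.comap (algebraMap A B) q = ⊥)
      (W : ValuationSubring q.ResidueField)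
      (h : Dominates (Localization.AtPrime (Ideal.span {f i}))
        (genericResidueMap (algebraMap A B) (Ideal.span {f i}) q hq) W),
      letI : Algebra (Localization.AtPrime (Ideal.span {f i})) W := (RingHom.codRestrict _ W h.1).toAlgebra
      ∃ e, Ideal.ramificationIdx' (maximalIdeal (Localization.AtPrime (Ideal.span {f i}))) (maximalIdeal W) = e ∧
        1 ≤ e ∧ e ≤ D ∧ ((ringChar (ResidueField A) : A) ∈ Ideal.span {f i} → (e : ResidueField A) ≠ 0) := by
  classical
  obtain ⟨D, hD⟩ := exists_bound (A := A) B (∏ k, f k)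
  refine ⟨D, fun i q _ hq W hW => ?_⟩
  let R := Localization.AtPrime (Ideal.span {f i})
  let κ := q.ResidueField
  letI : Algebra R W := (RingHom.codRestrict _ W hW.1).toAlgebra
  haveI : IsLocalHom (algebraMap R W) := isLocalHom_codRestrict hW
  obtain ⟨hDVR, -⟩ := isDVR_atPrime_span (param_ne_zero hf i)
  let g : A →+* κ := (algebraMap B κ).comp (algebraMap A B)
  have hg : Function.Injective g := by
    rw [injective_iff_map_eq_zero]
    intro a ha
    have h2 : algebraMap A B a ∈ q := Ideal.algebraMap_residueField_eq_zero.1 ha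
    have h3 : a ∈ Ideal.comap (algebraMap A B) q := h2
    rwa [hq, Ideal.mem_bot] at h3
  letI : Algebra (FractionRing A) κ := (IsFractionRing.lift hg).toAlgebra
  have hgK : ∀ a : A, algebraMap (FractionRing A) κ (algebraMap A _ a) = g a := IsFractionRing.lift_algebraMap hg
  letI : Algebra A κ := g.toAlgebra
  haveI : IsScalarTower A (FractionRing A) κ := IsScalarTower.of_algebraMap_eq fun a => (hgK a).symm
  have hcomp : genericResidueMap (algebraMap A B) (Ideal.span {f i}) q hq =
      (algebraMap (FractionRing A) κ).comp (algebraMap R (FractionRing A)) := by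
    refine IsLocalization.ringHom_ext (Ideal.span {f i}).primeCompl (RingHom.ext fun a => ?_)
    change genericResidueMap (algebraMap A B) (Ideal.span {f i}) q hq (algebraMap A R a) =
      algebraMap (FractionRing A) κ (algebraMap R (FractionRing A) (algebraMap A R a))
    rw [← IsScalarTower.algebraMap_apply A R (FractionRing A), hgK]
    exact IsLocalization.lift_eq _ a
  have h0 : algebraMap A (FractionRing A) (∏ k, f k) ≠ 0 :=
    (map_ne_zero_iff _ (IsFractionRing.injective A (FractionRing A))).2 (prod_ne_zero' hf)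
  let j : B →ₐ[A] κ := { toRingHom := algebraMap B κ, commutes' := fun _ => rfl }
  have hgen : Algebra.adjoin (FractionRing A) (Set.range j) = ⊤ := by
    refine adjoin_eq_top_of_div ?_ fun z => ?_
    · rintro _ ⟨b, rfl⟩
      obtain ⟨p, hp, hpb⟩ : IsIntegral (Localization.Away (∏ k, f k)) b := Algebra.IsIntegral.isIntegral b
      let h₀ : Localization.Away (∏ k, f k) →+* FractionRing A :=
        IsLocalization.Away.lift (∏ k, f k) (g := algebraMap A (FractionRing A)) (isUnit_iff_ne_zero.2 h0)
      have hcompat : (algebraMap (FractionRing A) κ).comp h₀ =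
          (algebraMap B κ).comp (algebraMap (Localization.Away (∏ k, f k)) B) := by
        refine IsLocalization.ringHom_ext (Submonoid.powers (∏ k, f k)) (RingHom.ext fun a => ?_)
        simp only [RingHom.comp_apply, h₀, IsLocalization.Away.lift_eq, hgK,
          ← IsScalarTower.algebraMap_apply A (Localization.Away (∏ k, f k)) B]
        rfl
      refine ⟨p.map h₀, hp.map h₀, ?_⟩
      rw [Polynomial.eval₂_map, hcompat]
      change Polynomial.eval₂ _ (algebraMap B κ b) p = 0
      rw [← Polynomial.hom_eval₂, hpb, map_zero]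
    · obtain ⟨a, b, hb, rfl⟩ := IsFractionRing.div_surjective (A := B ⧸ q) z
      obtain ⟨a, rfl⟩ := Ideal.Quotient.mk_surjective a
      obtain ⟨b, rfl⟩ := Ideal.Quotient.mk_surjective b
      exact ⟨_, Algebra.subset_adjoin ⟨a, rfl⟩, _, Algebra.subset_adjoin ⟨b, rfl⟩, rfl⟩
  obtain ⟨hfin, -, hle⟩ := hD (FractionRing A) κ h0 j hgen
  haveI : IsDiscreteValuationRing W := isDiscreteValuationRing_of_dominates R (FractionRing A) κ (hcomp ▸ hW)
  letI : Algebra R κ := ((W.subtype).comp (algebraMap R W)).toAlgebra
  haveI : IsScalarTower R W κ := IsScalarTower.of_algebraMap_eq fun _ => rfl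
  haveI : IsScalarTower R (FractionRing A) κ := IsScalarTower.of_algebraMap_eq fun x => RingHom.congr_fun hcomp x
  have hinj : Function.Injective (algebraMap R W) := fun a b hab => IsFractionRing.injective R (FractionRing A)
    ((algebraMap (FractionRing A) κ).injective (by
      have := congrArg Subtype.val hab
      change genericResidueMap _ _ _ hq a = genericResidueMap _ _ _ hq b at this
      rwa [hcomp] at this))
  obtain ⟨e, he1, -, hee⟩ := exists_map_maximalIdeal_eq_pow R W hinj
  obtain ⟨hfinres, hbound⟩ := finite_residueField_and_ramificationIdx_mul_finrank_le R W hinj (FractionRing A) κ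
  rw [hee] at hbound
  have hpos : 0 < Module.finrank (ResidueField R) (ResidueField W) := Module.finrank_pos
  refine ⟨e, hee, he1, le_trans (le_trans (Nat.le_mul_of_pos_right e hpos) hbound) hle, fun hgood h0e => ?_⟩
  set p := ringChar (ResidueField A)
  have hdvd : p ∣ e := (CharP.cast_eq_zero_iff (ResidueField A) p e).1 h0e
  rcases CharP.char_is_prime_or_zero (ResidueField A) p with hp | hp
  · have hpR : ((p : ℕ) : ResidueField R) = 0 := by
      rw [← map_natCast (residue R), residue_eq_zero_iff, ← map_natCast (algebraMap A R),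
        ← Localization.AtPrime.map_eq_maximalIdeal]
      exact Ideal.mem_map_of_mem _ hgood
    haveI : CharP (ResidueField R) p := CharP.charP_iff_prime_eq_zero hp |>.2 hpR
    obtain ⟨-, hnd⟩ := @htame i q _ hq W hW (isLocalHom_codRestrict hW)
    exact hnd p hp inferInstance (by convert hdvd using 1)
  · rw [hp, zero_dvd_iff] at hdvd
    omega

/-- The exponents: tame and wild parts. -/
theorem exists_exponents (hf : LinearIndependent (ResidueField A) (fun i => (maximalIdeal A).toCotangent ⟨f i, hm i⟩))
    (htame : IsTameAlong f (algebraMap A B)) : ∃ (p k n₀ : ℕ), 2 ≤ n₀ ∧ IsUnit (n₀ : ResidueField A) ∧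
    (∀ i, (RamDvd (f := f) (algebraMap A B) i n₀) ∨
      (p.Prime ∧ (p : ResidueField A) = 0 ∧ (p : A) ∉ Ideal.span {f i} ∧
        RamDvd (f := f) (algebraMap A B) i (n₀ * p ^ k))) := by
  classical
  obtain ⟨D, hD⟩ := exists_ram_bound (B := B) hf htame
  set p := ringChar (ResidueField A)
  let base : ℕ := if (2 : ResidueField A) = 0 then 3 else 2
  have hbase : 2 ≤ base ∧ (base : ResidueField A) ≠ 0 := by
    by_cases h : (2 : ResidueField A) = 0
    · simp only [base, h, if_true, le_refl]
      refine ⟨by norm_num, fun h3 => one_ne_zero (α := ResidueField A) ?_⟩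
      have : ((3 : ℕ) : ResidueField A) - 2 = 0 := by rw [h3, h, sub_zero]
      rw [← this]; norm_num
    · simp only [base, h, if_false, le_refl, true_and, Nat.cast_ofNat, ne_eq, not_false_iff]
  let S : Finset ℕ := (Finset.Icc 1 D).filter fun e : ℕ => (e : ResidueField A) ≠ 0
  let n₀ := base * ∏ e ∈ S, e
  have hn₀ : (n₀ : ResidueField A) ≠ 0 := by
    simp only [n₀, Nat.cast_mul, Nat.cast_prod]
    exact mul_ne_zero hbase.2 (Finset.prod_ne_zero_iff.2 fun e he => (Finset.mem_filter.1 he).2)
  have hprod : 1 ≤ ∏ e ∈ S, e := Finset.one_le_prod fun e he => (Finset.mem_Icc.1 (Finset.mem_filter.1 he).1).1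
  have hdvd : ∀ e, 1 ≤ e → e ≤ D → (e : ResidueField A) ≠ 0 → e ∣ n₀ := fun e h1 h2 h3 =>
    dvd_mul_of_dvd_right (Finset.dvd_prod_of_mem (fun e => e) (Finset.mem_filter.2 ⟨Finset.mem_Icc.2 ⟨h1, h2⟩, h3⟩)) _
  refine ⟨p, D, n₀, le_trans hbase.1 (Nat.le_mul_of_pos_right _ hprod), isUnit_iff_ne_zero.2 hn₀, fun i => ?_⟩
  by_cases hgood : (p : A) ∈ Ideal.span {f i}
  · refine Or.inl fun q _ hq W hW => ?_
    obtain ⟨e, hee, h1, h2, h3⟩ := hD i q hq W hW
    rw [hee]
    exact hdvd e h1 h2 (h3 hgood)
  · have hpp : p.Prime := (CharP.char_is_prime_or_zero (ResidueField A) p).resolve_right fun h0 =>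
      hgood (by rw [h0, Nat.cast_zero]; exact zero_mem _)
    refine Or.inr ⟨hpp, CharP.cast_eq_zero _ p, hgood, fun q _ hq W hW => ?_⟩
    obtain ⟨e, hee, h1, h2, -⟩ := hD i q hq W hW
    rw [hee]
    obtain ⟨a, e', he', rfl⟩ := Nat.exists_eq_pow_mul_and_not_dvd (show e ≠ 0 by omega) p hpp.ne_one
    have he'1 : 1 ≤ e' := Nat.one_le_iff_ne_zero.2 fun h => he' (h ▸ dvd_zero p)
    have hpa : p ^ a ≤ D := le_trans (Nat.le_mul_of_pos_right _ he'1) h2
    have haD : a ≤ D := le_trans (Nat.lt_pow_self hpp.one_lt).le hpa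
    rw [mul_comm n₀]
    exact mul_dvd_mul (pow_dvd_pow p haD) (hdvd e' he'1 (le_trans (Nat.le_mul_of_pos_left _ (pow_pos hpp.pos a)) h2)
      fun h => he' ((CharP.cast_eq_zero_iff (ResidueField A) p e').1 h))

end Groth.Pi1Tame
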