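import Groth.Agent.Pi1Tame.KummerAlg
import Groth.Agent.Pi1Tame.Unr
import Groth.Agent.Pi1Tame.Params
import Groth.Agent.Hensel1.Transfer
import Groth.Agent.Hensel1.Regular
import Groth.Agent.Hensel1.EtaleTransfer
import Groth.Agent.EtaleAlgebra.CommonExtension
import Groth.Agent.EtaleAlgebra.RamBound
import Mathlib.Algebra.CharP.Lemmas
import Mathlib.RingTheory.Ideal.GoingDown
import Mathlib.RingTheory.Ideal.KrullsHeightTheorem
import Mathlib.FieldTheory.Perfect
import Mathlib.FieldTheory.IsAlgClosed.AlgebraicClosure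
import Mathlib.RingTheory.Localization.Integral

/-!
# Removing wild exponents
-/

universe u

set_option autoImplicit false
set_option linter.style.haveILetI false
set_option linter.unusedSectionVars false
set_option maxHeartbeats 800000

open IsLocalRing SGA1 EtRam Groth.EtaleAlgebra TensorProduct

namespace Groth.Pi1Tame

/-- Part of a regular system of parameters stays one along a map generating the maximal ideal in the same
dimension. -/
theorem linearIndependent_map {A H : Type u} [CommRing A] [IsRegularLocalRing A] [CommRing H] [IsRegularLocalRing H]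
    (φ : A →+* H) (hφ : (maximalIdeal A).map φ = maximalIdeal H) (hdim : ringKrullDim H = ringKrullDim A) {r : ℕ}
    {t : Fin r → A} {hm : ∀ i, t i ∈ maximalIdeal A}
    (ht : LinearIndependent (ResidueField A) (fun i => (maximalIdeal A).toCotangent ⟨t i, hm i⟩)) :
    ∃ hm' : ∀ i, φ (t i) ∈ maximalIdeal H,
      LinearIndependent (ResidueField H) (fun i => (maximalIdeal H).toCotangent ⟨φ (t i), hm' i⟩) := by
  classical
  let W := Submodule.span (ResidueField A) (Set.range fun i => (maximalIdeal A).toCotangent ⟨t i, hm i⟩)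
  obtain ⟨U, hU⟩ := exists_isCompl W
  let u := Module.finBasis (ResidueField A) U
  choose y hy using fun j => (maximalIdeal A).toCotangent_surjective ((u j : CotangentSpace A))
  let x : Fin r → maximalIdeal A := fun i => ⟨t i, hm i⟩
  have hspan : Submodule.span A (Set.range x ∪ Set.range y) = (⊤ : Submodule A (maximalIdeal A)) := by
    rw [← CotangentSpace.span_image_eq_top_iff, Set.image_union, ← Set.range_comp, ← Set.range_comp,
      Submodule.span_union]
    have hUspan : Submodule.span (ResidueField A) (Set.range ((maximalIdeal A).toCotangent ∘ y)) = U := by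
      rw [show (maximalIdeal A).toCotangent ∘ y = U.subtype ∘ u from funext hy, Set.range_comp,
        Submodule.span_image, u.span_eq, Submodule.map_top, Submodule.range_subtype]
    rw [hUspan]
    exact hU.sup_eq_top
  have hm' : ∀ a ∈ maximalIdeal A, φ a ∈ maximalIdeal H := fun a ha => hφ.le (Ideal.mem_map_of_mem φ ha)
  let g : Fin r ⊕ Fin (Module.finrank (ResidueField A) U) → maximalIdeal H :=
    Sum.elim (fun i => ⟨φ (t i), hm' _ (hm i)⟩) (fun j => ⟨φ (y j), hm' _ (y j).2⟩)
  have hgen : maximalIdeal H = Ideal.span (Set.range fun s => (g s : H)) := by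
    refine le_antisymm (hφ.ge.trans (Ideal.map_le_iff_le_comap.2 fun a ha => ?_))
      (Ideal.span_le.2 (by rintro _ ⟨s, rfl⟩; exact (g s).2))
    have ha' : (⟨a, ha⟩ : maximalIdeal A) ∈ Submodule.span A (Set.range x ∪ Set.range y) := hspan ▸ trivial
    suffices h : ∀ z ∈ Submodule.span A (Set.range x ∪ Set.range y),
        φ (z : A) ∈ Ideal.span (Set.range fun s => (g s : H)) from Ideal.mem_comap.2 (h _ ha')
    intro z hz
    induction hz using Submodule.span_induction with
    | mem z hz =>
      rcases hz with ⟨i, rfl⟩ | ⟨j, rfl⟩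
      · exact Ideal.subset_span ⟨Sum.inl i, rfl⟩
      · exact Ideal.subset_span ⟨Sum.inr j, rfl⟩
    | zero => simp
    | add z w _ _ ihz ihw => rw [Submodule.coe_add, map_add]; exact add_mem ihz ihw
    | smul c z _ ihz => rw [SetLike.val_smul, smul_eq_mul, map_mul]; exact Ideal.mul_mem_left _ _ ihz
  have hWr : Module.finrank (ResidueField A) W = r := by rw [finrank_span_eq_card ht, Fintype.card_fin]
  have hA := IsRegularLocalRing.spanFinrank_maximalIdeal (R := A)
  have hH := IsRegularLocalRing.spanFinrank_maximalIdeal (R := H)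
  rw [spanFinrank_maximalIdeal_eq_finrank_cotangentSpace, ← Submodule.finrank_add_eq_of_isCompl hU, hWr] at hA
  rw [spanFinrank_maximalIdeal_eq_finrank_cotangentSpace, hdim, ← hA, Nat.cast_inj] at hH
  refine ⟨fun i => hm' _ (hm i), ?_⟩
  have hli : LinearIndependent (ResidueField H) (fun s => (maximalIdeal H).toCotangent (g s)) := by
    refine linearIndependent_of_top_le_span_of_card_eq_finrank ?_ ?_
    · rw [show (fun s => (maximalIdeal H).toCotangent (g s)) = (maximalIdeal H).toCotangent ∘ g from rfl,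
        Set.range_comp, CotangentSpace.span_image_eq_top_iff.2]
      apply Submodule.map_injective_of_injective (maximalIdeal H).subtype_injective
      rw [Submodule.map_top, Submodule.range_subtype, Submodule.map_span, ← Set.range_comp]
      exact hgen.symm
    · rw [hH]; simp
  exact hli.comp Sum.inl Sum.inl_injective

section Fibre

variable {H : Type u} [CommRing H] [IsDomain H] {r : ℕ} {t : Fin r → H} {p k : ℕ}

/-- Modulo `p` the `p^k`-th powers in a radicial Kummer algebra come from the base. -/
theorem exists_pow_sub_mem (hp : p.Prime) (w : kummerAlg H t fun _ => p ^ k) :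
    ∃ h : H, w ^ p ^ k - algebraMap H _ h ∈ Ideal.span {((p : ℕ) : kummerAlg H t fun _ => p ^ k)} :=
  induction_on (P := fun w => ∃ h : H, w ^ p ^ k - algebraMap H _ h ∈
      Ideal.span {((p : ℕ) : kummerAlg H t fun _ => p ^ k)}) w
    (fun a => ⟨a ^ p ^ k, by rw [map_pow, sub_self]; exact zero_mem _⟩)
    (fun a b ⟨x, hx⟩ ⟨y, hy⟩ => by
      obtain ⟨c, hc⟩ := exists_add_pow_prime_pow_eq hp a b k
      refine ⟨x + y, ?_⟩
      rw [hc, map_add, show a ^ p ^ k + b ^ p ^ k + (p : kummerAlg H t fun _ => p ^ k) * a * b * c -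
          (algebraMap H _ x + algebraMap H _ y) =
        (a ^ p ^ k - algebraMap H _ x) + (b ^ p ^ k - algebraMap H _ y) + (p : kummerAlg H t fun _ => p ^ k) * (a * b * c) by ring]
      exact add_mem (add_mem hx hy) (Ideal.mul_mem_right _ _ (Ideal.mem_span_singleton_self _)))
    (fun a i ⟨x, hx⟩ => ⟨x * t i, by
      rw [mul_pow, root_pow, map_mul, ← sub_mul]
      exact Ideal.mul_mem_right _ _ hx⟩)

/-- Over a prime of residue characteristic `p`, finite unramified algebras inside a radicial Kummer extension are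
trivial. -/
theorem eq_bot_of_radicial_kummer (hp : p.Prime) [IsDomain (kummerAlg H t fun _ => p ^ k)]
    [IsIntegrallyClosed (kummerAlg H t fun _ => p ^ k)] (hk : ∀ _ : Fin r, 1 ≤ p ^ k)
    (Q : Ideal H) [Q.IsPrime] (hpQ : (p : H) ∈ Q) {M : Type u} [Field M]
    [Algebra (kummerAlg H t fun _ => p ^ k) M] [IsFractionRing (kummerAlg H t fun _ => p ^ k) M] [Algebra H M]
    [IsScalarTower H (kummerAlg H t fun _ => p ^ k) M] [Algebra (Localization.AtPrime Q) M]
    [IsScalarTower H (Localization.AtPrime Q) M]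
    (C : Subalgebra (Localization.AtPrime Q) M) [Module.Finite (Localization.AtPrime Q) C]
    [Algebra.FormallyUnramified (Localization.AtPrime Q) C] : C = ⊥ := by
  let R := Localization.AtPrime Q
  haveI := Fact.mk hp
  haveI : CharP (ResidueField R) p := by
    refine (CharP.charP_iff_prime_eq_zero hp).2 ?_
    rw [← map_natCast (residue R), residue_eq_zero_iff, ← map_natCast (algebraMap H R),
      ← Localization.AtPrime.map_eq_maximalIdeal]
    exact Ideal.mem_map_of_mem _ hpQ
  haveI : Module.Finite H (kummerAlg H t fun _ => p ^ k) := module_finite hk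
  refine subalgebra_eq_bot_of_radicial (p := p) k (integralClosure R M) (fun z => ?_) C
    (fun z hz => (Algebra.IsIntegral.isIntegral (⟨z, hz⟩ : C)).map C.val)
  obtain ⟨⟨s, hs⟩, hsz⟩ := IsIntegral.exists_multiple_integral_of_isLocalization Q.primeCompl (z : M) z.2
  obtain ⟨w, hw⟩ := IsIntegrallyClosed.isIntegral_iff.1
    (hsz.tower_top (A := kummerAlg H t fun _ => p ^ k))
  obtain ⟨h, hh⟩ := exists_pow_sub_mem hp w
  obtain ⟨c, hc⟩ := Ideal.mem_span_singleton.1 hh
  have hsu : IsUnit (algebraMap H R s) := IsLocalization.map_units R (⟨s, hs⟩ : Q.primeCompl)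
  obtain ⟨v, hv⟩ := hsu
  have hcint : IsIntegral R (algebraMap (kummerAlg H t fun _ => p ^ k) M c) :=
    ((Algebra.IsIntegral.isIntegral (R := H) c).map
      (IsScalarTower.toAlgHom H (kummerAlg H t fun _ => p ^ k) M)).tower_top
  refine ⟨(↑v⁻¹ : R) ^ p ^ k * algebraMap H R h, ?_⟩
  have hpm : ((p : ℕ) : integralClosure R M) ∈ (maximalIdeal R).map (algebraMap R (integralClosure R M)) := by
    rw [← map_natCast (algebraMap R (integralClosure R M))]
    refine Ideal.mem_map_of_mem _ ?_
    rw [← map_natCast (algebraMap H R), ← Localization.AtPrime.map_eq_maximalIdeal]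
    exact Ideal.mem_map_of_mem _ hpQ
  have key : z ^ p ^ k - algebraMap R (integralClosure R M) ((↑v⁻¹ : R) ^ p ^ k * algebraMap H R h) =
      algebraMap R (integralClosure R M) ((↑v⁻¹ : R) ^ p ^ k) * ((p : ℕ) : integralClosure R M) *
        ⟨_, hcint⟩ := by
    apply Subtype.ext
    push_cast
    have hsM : algebraMap (kummerAlg H t fun _ => p ^ k) M w = algebraMap R M (v : R) * (z : M) := by
      rw [hw, hv, ← IsScalarTower.algebraMap_apply, Submonoid.smul_def, Algebra.smul_def]
    have h1 := congrArg (algebraMap (kummerAlg H t fun _ => p ^ k) M) hc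
    rw [map_sub, map_pow, map_mul, map_natCast, hsM, mul_pow, ← IsScalarTower.algebraMap_apply,
      IsScalarTower.algebraMap_apply H R M] at h1
    have hvv : algebraMap R M (↑v⁻¹ : R) ^ p ^ k * algebraMap R M (v : R) ^ p ^ k = 1 := by
      rw [← mul_pow, ← map_mul, Units.inv_mul, map_one, one_pow]
    have h3 : (z : M) ^ p ^ k - algebraMap R M (↑v⁻¹ : R) ^ p ^ k * algebraMap R M (algebraMap H R h) =
          algebraMap R M (↑v⁻¹ : R) ^ p ^ k *
            (algebraMap R M (v : R) ^ p ^ k * (z : M) ^ p ^ k - algebraMap R M (algebraMap H R h)) := by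
      rw [mul_sub, ← mul_assoc, hvv, one_mul]
    rw [h3, h1, mul_assoc]
  rw [key]
  exact Ideal.mul_mem_right _ _ (Ideal.mul_mem_left _ _ hpm)

end Fibre

section Steps

/-- A dominated algebra over a strictly henselian domain mapping into a field lies in the fraction field. -/
theorem range_subset_of_dom {A'' H'' : Type u} [CommRing A''] [IsDomain A''] [CommRing H''] [IsDomain H'']
    [HenselianLocalRing H''] [IsSepClosed (ResidueField H'')] [Algebra A'' H''] {Ω : Type u} [Field Ω]
    [Algebra H'' Ω] [Algebra A'' Ω] [IsScalarTower A'' H'' Ω] (ψ : FractionRing H'' →+* Ω)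
    (hψ : ∀ z : H'', ψ (algebraMap H'' (FractionRing H'') z) = algebraMap H'' Ω z)
    [Algebra (FractionRing A'') Ω] [IsScalarTower A'' (FractionRing A'') Ω]
    (C'' : Subalgebra A'' Ω) [Module.Finite A'' C''] [Algebra.FormallyUnramified A'' C''] :
    ∀ z ∈ Algebra.adjoin (FractionRing A'') (C'' : Set Ω), z ∈ ψ.fieldRange := by
  let Φ : H'' ⊗[A''] C'' →ₐ[H''] Ω :=
    Algebra.TensorProduct.lift (Algebra.ofId H'' Ω) C''.val fun _ _ => .all _ _
  haveI : Algebra.FormallyUnramified H'' (H'' ⊗[A''] C'') := inferInstance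
  haveI : Module.Finite H'' Φ.range :=
    Module.Finite.of_surjective Φ.rangeRestrict.toLinearMap Φ.rangeRestrict_surjective
  haveI : Algebra.FormallyUnramified H'' Φ.range :=
    Algebra.FormallyUnramified.of_surjective (R := H'') (A := H'' ⊗[A''] C'') Φ.rangeRestrict
      Φ.rangeRestrict_surjective
  have hbot : Φ.range = ⊥ := subalgebra_eq_bot_of_henselian _
  intro z hz
  induction hz using Algebra.adjoin_induction with
  | mem c hc =>
    have h1 : c ∈ Φ.range := ⟨1 ⊗ₜ ⟨c, hc⟩, by simp [Φ]⟩
    rw [hbot] at h1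
    obtain ⟨a, rfl⟩ := Algebra.mem_bot.1 h1
    exact ⟨algebraMap H'' _ a, hψ a⟩
  | algebraMap c =>
    obtain ⟨a, a', ha', rfl⟩ := IsFractionRing.div_surjective (A := A'') c
    rw [map_div₀, ← IsScalarTower.algebraMap_apply, ← IsScalarTower.algebraMap_apply,
      IsScalarTower.algebraMap_apply A'' H'' Ω, IsScalarTower.algebraMap_apply A'' H'' Ω a']
    exact div_mem ⟨_, hψ _⟩ ⟨_, hψ _⟩
  | add a a' _ _ iha iha' => exact add_mem iha iha'
  | mul a a' _ _ iha iha' => exact mul_mem iha iha'

variable {H : Type u} [CommRing H] [IsDomain H] {r : ℕ} {t : Fin r → H} {p k : ℕ}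

/-- Inside a radicial Kummer extension, finite unramified algebras over a prime of residue characteristic `p` lie in
the base field. -/
theorem mem_fieldRange_of_radicial (hp : p.Prime) (hk : ∀ _ : Fin r, 1 ≤ p ^ k)
    [IsDomain (kummerAlg H t fun _ => p ^ k)] [IsIntegrallyClosed (kummerAlg H t fun _ => p ^ k)]
    {Ω : Type u} [Field Ω] (g : FractionRing H →+* Ω) (ψ : FractionRing (kummerAlg H t fun _ => p ^ k) →+* Ω)
    (hψH : ∀ a : H, ψ (algebraMap (kummerAlg H t fun _ => p ^ k) _ (algebraMap H _ a)) =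
      g (algebraMap H (FractionRing H) a))
    (Q : Ideal H) [Q.IsPrime] (hpQ : (p : H) ∈ Q) {R₀ F : Type u} [CommRing R₀] [Field F] [Algebra R₀ F]
    (σ : R₀ →+* Localization.AtPrime Q) (f : F →+* Ω)
    (hσ : ∀ a : R₀, f (algebraMap R₀ F a) =
      g (algebraMap (Localization.AtPrime Q) (FractionRing H) (σ a)))
    (C : Subalgebra R₀ F) [Module.Finite R₀ C] [Algebra.FormallyUnramified R₀ C]
    (hC : ∀ c ∈ C, f c ∈ ψ.fieldRange) : ∀ c ∈ C, f c ∈ g.fieldRange := by
  let K'' := FractionRing (kummerAlg H t fun _ => p ^ k)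
  let R := Localization.AtPrime Q
  let v₀ : H →+* K'' := (algebraMap (kummerAlg H t fun _ => p ^ k) K'').comp (algebraMap H _)
  have hv₀ : Function.Injective v₀ := (IsFractionRing.injective (kummerAlg H t fun _ => p ^ k) K'').comp (injective_algebraMap hk)
  let vK : FractionRing H →+* K'' := IsFractionRing.lift hv₀
  have hvK : ∀ z : FractionRing H, ψ (vK z) = g z := by
    intro z
    change (ψ.comp vK) z = g z
    congr 1
    refine IsLocalization.ringHom_ext (nonZeroDivisors H) (RingHom.ext fun a => ?_)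
    change ψ (vK (algebraMap H _ a)) = g (algebraMap H _ a)
    rw [IsFractionRing.lift_algebraMap]
    exact hψH a
  letI : Algebra R K'' := (vK.comp (algebraMap R (FractionRing H))).toAlgebra
  haveI : IsScalarTower H R K'' := IsScalarTower.of_algebraMap_eq fun a => by
    change algebraMap H K'' a = vK (algebraMap R (FractionRing H) (algebraMap H R a))
    rw [← IsScalarTower.algebraMap_apply H R (FractionRing H), IsFractionRing.lift_algebraMap]
    exact IsScalarTower.algebraMap_apply H _ K'' a
  choose w hw using hC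
  let φ : C →+* K'' :=
    { toFun := fun c => w c c.2
      map_one' := ψ.injective ((hw _ _).trans (by rw [ψ.map_one]; exact f.map_one))
      map_mul' := fun a b => ψ.injective ((hw _ _).trans (by rw [ψ.map_mul, hw, hw]; exact f.map_mul _ _))
      map_zero' := ψ.injective ((hw _ _).trans (by rw [ψ.map_zero]; exact f.map_zero))
      map_add' := fun a b => ψ.injective ((hw _ _).trans (by rw [ψ.map_add, hw, hw]; exact f.map_add _ _)) }
  have hφ : ∀ c : C, ψ (φ c) = f c := fun c => hw c c.2
  letI : Algebra R₀ R := σ.toAlgebra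
  letI : Algebra R₀ K'' := ((algebraMap R K'').comp σ).toAlgebra
  haveI : IsScalarTower R₀ R K'' := IsScalarTower.of_algebraMap_eq fun _ => rfl
  let φQ : C →ₐ[R₀] K'' := { toRingHom := φ, commutes' := fun a => ψ.injective (by
    change ψ (φ (algebraMap R₀ C a)) = ψ (vK (algebraMap R (FractionRing H) (σ a)))
    rw [hφ, hvK]
    exact hσ a) }
  let Φ : R ⊗[R₀] C →ₐ[R] K'' := Algebra.TensorProduct.lift (Algebra.ofId R K'') φQ fun _ _ => .all _ _
  haveI : Algebra.FormallyUnramified R (R ⊗[R₀] C) := inferInstance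
  haveI : Module.Finite R Φ.range := Module.Finite.of_surjective Φ.rangeRestrict.toLinearMap Φ.rangeRestrict_surjective
  haveI : Algebra.FormallyUnramified R Φ.range :=
    Algebra.FormallyUnramified.of_surjective (R := R) (A := R ⊗[R₀] C) Φ.rangeRestrict Φ.rangeRestrict_surjective
  have hbot : Φ.range = ⊥ := eq_bot_of_radicial_kummer (H := H) (t := t) hp hk Q hpQ _
  intro c hc
  have h1 : φ ⟨c, hc⟩ ∈ Φ.range := ⟨1 ⊗ₜ ⟨c, hc⟩, by simp [Φ, φQ]⟩
  rw [hbot] at h1
  obtain ⟨a, ha⟩ := Algebra.mem_bot.1 h1
  refine ⟨algebraMap R (FractionRing H) a, ?_⟩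
  rw [← hvK]
  change ψ (algebraMap R K'' a) = f c
  rw [ha]
  exact hφ _

/-- If the extension embeds in a field with an unramified valuation ring, it is unramified. -/
theorem map_maximalIdeal_of_range {R' F RH KH M₀ : Type u} [CommRing R'] [IsDomain R'] [IsDiscreteValuationRing R']
    [Field F] [Algebra R' F] [CommRing RH] [IsDomain RH] [IsDiscreteValuationRing RH] [Field KH] [Algebra RH KH]
    [IsFractionRing RH KH] [Field M₀] (σ : R' →+* RH) {ϖ : R'} (hϖ : Irreducible ϖ) (hσϖ : Irreducible (σ ϖ))
    (f₀ : F →+* M₀) (g₀ : KH →+* M₀) (hinj : Function.Injective (algebraMap R' F))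
    (hfg : ∀ a : R', f₀ (algebraMap R' F a) = g₀ (algebraMap RH KH (σ a)))
    (W' : ValuationSubring M₀) (W₀ : ValuationSubring F) (hW'f : W'.comap f₀ = W₀)
    (hW'H : Dominates RH (g₀.comp (algebraMap RH KH)) W') (hW₀ : Dominates R' (algebraMap R' F) W₀)
    (hff : ∀ z : F, ∃ z' : KH, g₀ z' = f₀ z) :
    letI : Algebra R' W₀ := (RingHom.codRestrict _ W₀ hW₀.1).toAlgebra
    (maximalIdeal R').map (algebraMap R' W₀) = maximalIdeal W₀ := by
  letI : Algebra R' W₀ := (RingHom.codRestrict _ W₀ hW₀.1).toAlgebra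
  haveI : IsLocalHom (algebraMap R' W₀) := isLocalHom_codRestrict hW₀
  have hWH : Dominates RH ((RingHom.id KH).comp (algebraMap RH KH)) (W'.comap g₀) := by
    rw [← dominates_comp_iff]
    exact hW'H
  refine le_antisymm (((local_hom_TFAE (algebraMap R' W₀)).out 0 2 rfl rfl).1 inferInstance) fun (w : W₀) hw => ?_
  suffices hdv : algebraMap R' W₀ ϖ ∣ w by
    obtain ⟨c, rfl⟩ := hdv
    exact Ideal.mul_mem_right _ _ (Ideal.mem_map_of_mem _ ((mem_maximalIdeal _).2 hϖ.not_isUnit))
  have hw1 : f₀ (w : F) ∈ W'.nonunits := by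
    rw [← mem_nonunits_comap (W := W') (f := f₀), hW'f, ← valuation_lt_one_iff_mem_nonunits]
    exact (W₀.valuation_lt_one_iff w).1 hw
  obtain ⟨z', hz'⟩ := hff w
  have hz'W : z' ∈ (W'.comap g₀).nonunits := by rw [mem_nonunits_comap, hz']; exact hw1
  have hz'mem : z' ∈ W'.comap g₀ := (ValuationSubring.mem_nonunits_iff_exists_mem_maximalIdeal.1 hz'W).1
  obtain ⟨a, ha⟩ := exists_eq_of_mem_of_dominates (RingHom.id KH) (V := W'.comap g₀) hWH (x := z') hz'mem
  have ham : a ∈ maximalIdeal RH := by
    by_contra hu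
    obtain ⟨v, hv⟩ := (IsLocalRing.notMem_maximalIdeal.1 hu).exists_right_inv
    have h1 : (W'.comap g₀).valuation z' < 1 := valuation_lt_one_iff_mem_nonunits.2 hz'W
    have h2 : algebraMap RH KH v ∈ W'.comap g₀ := hWH.1 v
    have h3 := congrArg (W'.comap g₀).valuation (congrArg (algebraMap RH KH) hv)
    rw [map_mul, ha, map_mul, map_one, map_one] at h3
    exact absurd h3 (mul_lt_one_of_lt_of_le h1 ((ValuationSubring.valuation_le_one_iff _ _).2 h2)).ne
  rw [hσϖ.maximalIdeal_eq, Ideal.mem_span_singleton] at ham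
  obtain ⟨a', rfl⟩ := ham
  have hTF : algebraMap R' F ϖ ≠ 0 := (map_ne_zero_iff _ hinj).2 hϖ.ne_zero
  have hq : (w : F) / algebraMap R' F ϖ ∈ W₀ := by
    refine (SetLike.ext_iff.1 hW'f _).1 ?_
    change f₀ _ ∈ W'
    rw [map_div₀, ← hz', ← ha, map_mul, map_mul, hfg, mul_div_cancel_left₀ _ (by
      rw [← hfg]; exact (map_ne_zero f₀).2 hTF)]
    exact hWH.1 a'
  refine ⟨⟨_, hq⟩, Subtype.ext ?_⟩
  change (w : F) = algebraMap R' F ϖ * ((w : F) / algebraMap R' F ϖ)
  exact (mul_div_cancel₀ _ hTF).symm

end Steps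

/-- A cover dominated by a finite unramified algebra. -/
def Dom (R : Type u) [CommRing R] {A B : Type u} [CommRing A] [CommRing B] [Algebra A B] (K M : Type u) [Field K]
    [Field M] [Algebra R M] [Algebra K M] [Algebra A M] (j : B →ₐ[A] M) : Prop :=
  ∃ C : Subalgebra R M, Module.Finite R C ∧ Algebra.FormallyUnramified R C ∧
    Set.range j ⊆ (Algebra.adjoin K (C : Set M) : Set M)

/-- Unramified at `t i` by descent from the radicial Kummer extension. -/
theorem unr_wild {A B A' A'' : Type u} [CommRing A] [CommRing B] [Algebra A B]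
    [CommRing A'] [IsDomain A'] [IsRegularLocalRing A'] [Algebra A A'] [CommRing A''] [IsDomain A''] [Algebra A A'']
    [Algebra.IsIntegral A A''] (hinjA : Function.Injective (algebraMap A A'))
    {r : ℕ} {t : Fin r → A'} {hm : ∀ i, t i ∈ maximalIdeal A'}
    (ht : LinearIndependent (ResidueField A') (fun i => (maximalIdeal A').toCotangent ⟨t i, hm i⟩))
    {p k : ℕ} (hp : p.Prime) (hpm : (p : A') ∈ maximalIdeal A') (hk : 2 ≤ p ^ k)
    (hA'' : ∀ (H'' : Type u) [CommRing H''] [Algebra A H''] (ν : A' →ₐ[A] H'') (y : Fin r → H''),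
      (∀ i, y i ^ p ^ k = ν (t i)) → Nonempty (A'' →ₐ[A] H''))
    (hW : ∀ (M : Type u) [Field M] [Algebra A M] [Algebra A'' M] [Algebra (FractionRing A'') M]
      [IsScalarTower A A'' M] [IsScalarTower A'' (FractionRing A'') M] (j : B →ₐ[A] M),
        Dom A'' (FractionRing A'') M j)
    (i : Fin r) [(Ideal.span {t i}).IsPrime] (hbad : ∀ N : ℕ, 1 ≤ N → (N : A') ∉ Ideal.span {t i})
    {F : Type u} [Field F] [Algebra A F] [Algebra A' F] [Algebra (FractionRing A') F]
    [Algebra (Localization.AtPrime (Ideal.span {t i})) F] [IsScalarTower A A' F]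
    [IsScalarTower A' (FractionRing A') F] [IsScalarTower A' (Localization.AtPrime (Ideal.span {t i})) F]
    [IsScalarTower (Localization.AtPrime (Ideal.span {t i})) (FractionRing A') F]
    [FiniteDimensional (FractionRing A') F] [Algebra.IsSeparable (FractionRing A') F]
    (j : B →ₐ[A] F) (hgen : Algebra.adjoin (FractionRing A') (Set.range j) = ⊤)
    (hQ : ∀ (Q₀ : Ideal A') [Q₀.IsPrime], (p : A') ∈ Q₀ → (∀ P : Ideal A', P.IsPrime → P < Q₀ → P = ⊥) →
      ∀ [Algebra (Localization.AtPrime Q₀) F] [IsScalarTower A' (Localization.AtPrime Q₀) F]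
        [IsScalarTower (Localization.AtPrime Q₀) (FractionRing A') F],
        Unr (Localization.AtPrime Q₀) (FractionRing A') F) :
    Unr (Localization.AtPrime (Ideal.span {t i})) (FractionRing A') F := by
  classical
  haveI : IsDomain A := hinjA.isDomain _
  let R' := Localization.AtPrime (Ideal.span {t i})
  let K' := FractionRing A'
  have hti0 : t i ≠ 0 := param_ne_zero ht i
  obtain ⟨hDR', hirr'⟩ := isDVR_atPrime_span hti0
  refine unr_of_valuations fun W₀ hW₀ => ?_
  letI : Algebra R' W₀ := (RingHom.codRestrict _ W₀ hW₀.1).toAlgebra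
  intro _
  have hW₀' : Dominates R' ((algebraMap K' F).comp (algebraMap R' K')) W₀ := by
    rw [← IsScalarTower.algebraMap_eq]; exact hW₀
  -- the strict henselization
  obtain ⟨H, _, _, _, _, hH⟩ := Groth.Hensel1.exists_isStrictHenselization A'
  haveI := hH
  obtain ⟨Mod⟩ := Groth.Hensel1.hensModel_of_isStrictHenselization (R := A') (S := H)
  haveI := Mod.faithfullyFlat
  haveI := Mod.flat
  haveI : IsNoetherianRing H := Mod.isNoetherianRing_iff.1 inferInstance
  haveI : IsRegularLocalRing H := Mod.isRegularLocalRing_iff.1 inferInstance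
  haveI : HenselianLocalRing H := Hensel.IsStrictHenselization.henselian (R := A')
  haveI : IsSepClosure (ResidueField A') (ResidueField H) := Hensel.IsStrictHenselization.isSepClosure
  haveI : IsSepClosed (ResidueField H) := IsSepClosure.sep_closed (ResidueField A')
  haveI : IsDomain H := Groth.Ega4Algebra1.isDomain_of_isRegularLocalRing H
  have hinjH : Function.Injective (algebraMap A' H) := FaithfulSMul.algebraMap_injective A' H
  let th : Fin r → H := fun l => algebraMap A' H (t l)
  obtain ⟨hmH, htH⟩ := linearIndependent_map (algebraMap A' H) Mod.map_maximalIdeal Mod.ringKrullDim_eq ht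
  haveI : (Ideal.span {th i}).IsPrime := by
    obtain ⟨h, -⟩ := Groth.Ega4Algebra1.isRegularLocalRing_quotient_span_singleton (hmH i)
      (fun h => htH.ne_zero i ((Ideal.toCotangent_eq_zero _ _).2 h))
    haveI := h
    haveI := Groth.Ega4Algebra1.isDomain_of_isRegularLocalRing (H ⧸ Ideal.span {th i})
    exact (Ideal.Quotient.isDomain_iff_prime _).1 inferInstance
  have hth0 : th i ≠ 0 := param_ne_zero htH i
  let RH := Localization.AtPrime (Ideal.span {th i})
  let KH := FractionRing H
  obtain ⟨hDH, hirrH⟩ := isDVR_atPrime_span hth0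
  have hcomapT : (Ideal.span {th i}).comap (algebraMap A' H) = Ideal.span {t i} := by
    rw [show Ideal.span {th i} = (Ideal.span {t i}).map (algebraMap A' H) by
      rw [Ideal.map_span, Set.image_singleton], Ideal.comap_map_eq_self_of_faithfullyFlat]
  let σ : R' →+* RH := Localization.localRingHom (Ideal.span {t i}) (Ideal.span {th i}) (algebraMap A' H) hcomapT.symm
  haveI : IsLocalHom σ := Localization.isLocalHom_localRingHom _ _ _ _
  letI : Algebra R' RH := σ.toAlgebra
  haveI : IsLocalHom (algebraMap R' RH) := by rw [RingHom.algebraMap_toAlgebra]; infer_instance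
  letI : Algebra K' KH := (IsFractionRing.lift (g := (algebraMap H KH).comp (algebraMap A' H))
    ((IsFractionRing.injective H KH).comp hinjH)).toAlgebra
  have hK'KH : ∀ a : A', algebraMap K' KH (algebraMap A' K' a) = algebraMap H KH (algebraMap A' H a) :=
    IsFractionRing.lift_algebraMap _
  letI : Algebra R' KH := ((algebraMap RH KH).comp σ).toAlgebra
  haveI : IsScalarTower R' RH KH := IsScalarTower.of_algebraMap_eq fun _ => rfl
  haveI : IsScalarTower R' K' KH := IsScalarTower.of_algebraMap_eq' (by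
    refine IsLocalization.ringHom_ext (Ideal.span {t i}).primeCompl (RingHom.ext fun a => ?_)
    change algebraMap RH KH (σ (algebraMap A' R' a)) = algebraMap K' KH (algebraMap R' K' (algebraMap A' R' a))
    rw [Localization.localRingHom_to_map, ← IsScalarTower.algebraMap_apply H RH KH,
      ← IsScalarTower.algebraMap_apply A' R' K', hK'KH])
  obtain ⟨M₀, _, f₀, g₀, hfg₀, W', hW'f, hW'H⟩ := exists_common_extension hW₀' (M₀ := KH) RH
  -- a field containing the radicial extension
  let Ω := AlgebraicClosure M₀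
  let f : F →+* Ω := (algebraMap M₀ Ω).comp f₀
  let g : KH →+* Ω := (algebraMap M₀ Ω).comp g₀
  have hfg : ∀ a : A', f (algebraMap A' F a) = g (algebraMap H KH (algebraMap A' H a)) := fun a => by
    rw [← hK'KH, IsScalarTower.algebraMap_apply A' K' F]
    exact congrArg (algebraMap M₀ Ω) (RingHom.congr_fun hfg₀ _)
  let n' : Fin r → ℕ := fun _ => p ^ k
  have hn' : ∀ l : Fin r, 2 ≤ n' l := fun _ => hk
  let H'' := kummerAlg H th n'
  haveI : IsDomain H'' := isDomain_kummer htH hn'
  haveI : IsRegularLocalRing H'' := (kummer_regular htH hn').1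
  haveI : IsIntegrallyClosed H'' := Groth.Ega4Algebra1.isIntegrallyClosed_of_isRegularLocalRing H''
  haveI : Module.Finite H H'' := module_finite fun l => le_trans one_le_two (hn' l)
  haveI : HenselianLocalRing H'' := Groth.EtaleAlgebra.henselianLocalRing_of_isIntegral H H''
  haveI : IsLocalHom (algebraMap H H'') := ⟨fun a ha => by
    by_contra hu
    have h1 : (maximalIdeal H'').comap (algebraMap H H'') = maximalIdeal H :=
      IsLocalRing.eq_maximalIdeal (Ideal.isMaximal_comap_of_isIntegral_of_isMaximal _)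
    exact (mem_maximalIdeal _).1 (h1.ge ((mem_maximalIdeal a).2 hu)) ha⟩
  have hres : Function.Surjective (algebraMap (ResidueField H) (ResidueField H'')) := by
    intro z
    obtain ⟨w, rfl⟩ := residue_surjective z
    have hex : ∀ w : H'', ∃ a : H, w - algebraMap H H'' a ∈ maximalIdeal H'' := fun w =>
      induction_on (P := fun w => ∃ a : H, w - algebraMap H H'' a ∈ maximalIdeal H'') w
        (fun a => ⟨a, by rw [sub_self]; exact zero_mem _⟩)
        (fun u v ⟨a, ha⟩ ⟨b, hb⟩ => ⟨a + b, by rw [map_add, add_sub_add_comm]; exact add_mem ha hb⟩)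
        (fun u l _ => ⟨0, by
          rw [map_zero, sub_zero]
          refine Ideal.mul_mem_left _ _ ?_
          rw [maximalIdeal_kummer (hm := hmH) hn']
          exact Ideal.mem_sup_right (Ideal.subset_span ⟨l, rfl⟩)⟩)
    obtain ⟨a, ha⟩ := hex w
    refine ⟨residue H a, ?_⟩
    rw [ResidueField.algebraMap_residue, eq_comm, ← sub_eq_zero, ← map_sub, residue_eq_zero_iff]
    exact ha
  let eres : ResidueField H ≃+* ResidueField H'' :=
    RingEquiv.ofBijective (algebraMap (ResidueField H) (ResidueField H'')) ⟨RingHom.injective _, hres⟩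
  haveI : IsSepClosed (ResidueField H'') := IsSepClosed.of_exists_root _ fun P hP hirr hsep => by
    obtain ⟨x, hx⟩ := IsSepClosed.exists_root (P.map eres.symm.toRingHom)
      (by rw [Polynomial.degree_map]; exact (Polynomial.degree_pos_of_irreducible hirr).ne')
      (hsep.map)
    refine ⟨eres x, eres.symm.injective ?_⟩
    rw [map_zero, ← hx, Polynomial.eval_map, ← RingEquiv.coe_toRingHom, Polynomial.eval, Polynomial.hom_eval₂,
      RingHom.comp_id]
    change Polynomial.eval₂ _ (eres.symm (eres x)) P = _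
    rw [RingEquiv.symm_apply_apply]
    rfl
  choose y hy using fun l => IsAlgClosed.exists_pow_nat_eq (g (algebraMap H KH (th l)))
    (show 0 < n' l from lt_of_lt_of_le two_pos (hn' l))
  let ψ₀ : H'' →+* Ω := lift (g.comp (algebraMap H KH)) y hy
  have hψ₀H : ∀ a : H, ψ₀ (algebraMap H H'' a) = g (algebraMap H KH a) := lift_algebraMap _ _ _
  have hψ₀inj : Function.Injective ψ₀ := by
    rw [RingHom.injective_iff_ker_eq_bot]
    refine Ideal.eq_bot_of_comap_eq_bot (R := H) ?_
    rw [eq_bot_iff]
    intro a ha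
    have h2 : ψ₀ (algebraMap H H'' a) = 0 := ha
    rw [hψ₀H, map_eq_zero, map_eq_zero_iff _ (IsFractionRing.injective H KH)] at h2
    exact h2
  let K'' := FractionRing H''
  let ψ : K'' →+* Ω := IsFractionRing.lift hψ₀inj
  have hψ : ∀ z : H'', ψ (algebraMap H'' K'' z) = ψ₀ z := IsFractionRing.lift_algebraMap hψ₀inj
  let ν : A' →+* H'' := (algebraMap H H'').comp (algebraMap A' H)
  letI : Algebra A H'' := (ν.comp (algebraMap A A')).toAlgebra
  obtain ⟨τ⟩ := hA'' H'' { toRingHom := ν, commutes' := fun _ => rfl } (root H th n') fun l => root_pow H th n' l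
  letI : Algebra A Ω := (f.comp (algebraMap A F)).toAlgebra
  have hAΩ : ∀ a : A, ψ₀ (algebraMap A H'' a) = algebraMap A Ω a := fun a => by
    change ψ₀ (algebraMap H H'' (algebraMap A' H (algebraMap A A' a))) = f (algebraMap A F a)
    rw [hψ₀H, IsScalarTower.algebraMap_apply A A' F, hfg]
  have hinjAΩ : Function.Injective (algebraMap A Ω) := by
    intro a b hab
    rw [← hAΩ, ← hAΩ] at hab
    refine hinjA (hinjH (injective_algebraMap (fun l => le_trans one_le_two (hn' l)) (hψ₀inj hab)))
  have hτinj : Function.Injective (ψ₀.comp τ.toRingHom) := by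
    rw [RingHom.injective_iff_ker_eq_bot]
    refine Ideal.eq_bot_of_comap_eq_bot (R := A) ?_
    rw [eq_bot_iff]
    intro a ha
    have h2 : ψ₀ (τ (algebraMap A A'' a)) = 0 := ha
    rw [τ.commutes, hAΩ, map_eq_zero_iff _ hinjAΩ] at h2
    exact h2
  letI : Algebra A'' Ω := (ψ₀.comp τ.toRingHom).toAlgebra
  haveI : IsScalarTower A A'' Ω := IsScalarTower.of_algebraMap_eq fun a => by
    change algebraMap A Ω a = ψ₀ (τ (algebraMap A A'' a))
    rw [τ.commutes, hAΩ]
  letI : Algebra (FractionRing A'') Ω := (IsFractionRing.lift hτinj).toAlgebra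
  haveI : IsScalarTower A'' (FractionRing A'') Ω :=
    IsScalarTower.of_algebraMap_eq fun a => (IsFractionRing.lift_algebraMap hτinj a).symm
  let jΩ : B →ₐ[A] Ω :=
    { toRingHom := f.comp j.toRingHom
      commutes' := fun a => by change f (j (algebraMap A B a)) = f (algebraMap A F a); rw [j.commutes] }
  obtain ⟨C'', hC''fin, hC''un, hC''j⟩ := hW Ω jΩ
  -- the dominating algebra is inside the radicial extension
  letI : Algebra H'' Ω := ψ₀.toAlgebra
  letI : Algebra A'' H'' := τ.toRingHom.toAlgebra
  haveI : IsScalarTower A'' H'' Ω := IsScalarTower.of_algebraMap_eq fun _ => rfl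
  haveI := hC''fin
  haveI := hC''un
  have hjψ : ∀ b : B, f (j b) ∈ ψ.fieldRange := fun b =>
    range_subset_of_dom ψ hψ C'' (jΩ b) (hC''j ⟨b, rfl⟩)
  have hgψ : ∀ z : KH, g z ∈ ψ.fieldRange := by
    intro z
    obtain ⟨a, a', ha', rfl⟩ := IsFractionRing.div_surjective (A := H) z
    rw [map_div₀, ← hψ₀H, ← hψ₀H]
    exact div_mem ⟨_, hψ _⟩ ⟨_, hψ _⟩
  have hfψ : ∀ z : F, f z ∈ ψ.fieldRange := by
    intro z
    have hz : z ∈ Algebra.adjoin K' (Set.range j) := hgen ▸ trivial
    induction hz using Algebra.adjoin_induction with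
    | mem x hx => obtain ⟨b, rfl⟩ := hx; exact hjψ b
    | algebraMap c =>
      rw [show f (algebraMap K' F c) = g (algebraMap K' KH c) from
        congrArg (algebraMap M₀ Ω) (RingHom.congr_fun hfg₀ c)]
      exact hgψ _
    | add a a' _ _ iha iha' => rw [map_add]; exact add_mem iha iha'
    | mul a a' _ _ iha iha' => rw [map_mul]; exact mul_mem iha iha'
  -- a prime of residue characteristic `p`
  have hpH : (p : H) ∈ maximalIdeal H := by
    rw [← map_natCast (algebraMap A' H), ← Mod.map_maximalIdeal]
    exact Ideal.mem_map_of_mem _ hpm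
  have hp0 : (p : H) ≠ 0 := fun h => hbad p hp.one_le (by
    have : (p : A') = 0 := hinjH (by rw [map_natCast, h, map_zero])
    rw [this]; exact zero_mem _)
  obtain ⟨Q, hQmin, -⟩ := Ideal.exists_minimalPrimes_le
    (show Ideal.span {(p : H)} ≤ maximalIdeal H by rwa [Ideal.span_le, Set.singleton_subset_iff])
  haveI : Q.IsPrime := hQmin.1.1
  have hpQ : (p : H) ∈ Q := hQmin.1.2 (Ideal.mem_span_singleton_self _)
  let Q₀ := Q.comap (algebraMap A' H)
  haveI : Q.LiesOver Q₀ := ⟨rfl⟩
  have hQ₀min : ∀ P : Ideal A', P.IsPrime → P < Q₀ → P = ⊥ := by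
    intro P hP hlt
    by_contra hne
    obtain ⟨P', hP'Q, hP', hP'P⟩ := Ideal.exists_ideal_lt_liesOver_of_lt (R := A') (S := H) (p := P) (q := Q₀) Q hlt
    have hne' : (⊥ : Ideal H) < P' := bot_lt_iff_ne_bot.2 fun h => hne (by
      rw [hP'P.over, h, Ideal.under, ← RingHom.ker_eq_comap_bot]
      exact (RingHom.injective_iff_ker_eq_bot _).1 hinjH)
    have h1 := Ideal.height_add_one_le_of_lt_of_isPrime hne'
    have h2 := Ideal.height_add_one_le_of_lt_of_isPrime hP'Q
    have h3 : Q.height ≤ 1 := Ideal.height_le_one_of_isPrincipal_of_mem_minimalPrimes _ _ hQmin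
    have h4 : (⊥ : Ideal H).height + 1 + 1 ≤ 1 :=
      calc (⊥ : Ideal H).height + 1 + 1 ≤ P'.height + 1 := by gcongr
        _ ≤ Q.height := h2
        _ ≤ 1 := h3
    rw [Ideal.height_bot, zero_add] at h4
    norm_num at h4
  let RQ := Localization.AtPrime Q₀
  letI : Algebra RQ F := ((algebraMap K' F).comp (algebraMap RQ K')).toAlgebra
  haveI : IsScalarTower RQ K' F := IsScalarTower.of_algebraMap_eq fun _ => rfl
  haveI : IsScalarTower A' RQ F := IsScalarTower.of_algebraMap_eq fun a => by
    change algebraMap A' F a = algebraMap K' F (algebraMap RQ K' (algebraMap A' RQ a))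
    rw [← IsScalarTower.algebraMap_apply A' RQ K', ← IsScalarTower.algebraMap_apply]
  obtain ⟨C, hCfin, hCun, hCgen⟩ := hQ Q₀ (by rw [Ideal.mem_comap, map_natCast]; exact hpQ) hQ₀min
  haveI := hCfin
  haveI := hCun
  let σQ : RQ →+* Localization.AtPrime Q := Localization.localRingHom Q₀ Q (algebraMap A' H) rfl
  have hσQ : ∀ a : RQ, f (algebraMap RQ F a) = g (algebraMap (Localization.AtPrime Q) KH (σQ a)) := by
    intro a
    change (f.comp (algebraMap RQ F)) a = ((g.comp (algebraMap (Localization.AtPrime Q) KH)).comp σQ) a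
    congr 1
    refine IsLocalization.ringHom_ext Q₀.primeCompl (RingHom.ext fun b => ?_)
    change f (algebraMap RQ F (algebraMap A' RQ b)) =
      g (algebraMap (Localization.AtPrime Q) KH (σQ (algebraMap A' RQ b)))
    rw [Localization.localRingHom_to_map, ← IsScalarTower.algebraMap_apply H (Localization.AtPrime Q) KH,
      ← IsScalarTower.algebraMap_apply A' RQ F, hfg]
  have hC := mem_fieldRange_of_radicial (H := H) (t := th) hp (fun l => le_trans one_le_two (hn' l)) g ψ
    (fun a => (hψ _).trans (hψ₀H a)) Q hpQ σQ f hσQ C fun c _ => hfψ c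
  have hfKH : ∀ z : F, f z ∈ g.fieldRange := by
    intro z
    have hz : z ∈ Algebra.adjoin K' (C : Set F) := hCgen ▸ trivial
    induction hz using Algebra.adjoin_induction with
    | mem x hx => exact hC x hx
    | algebraMap c => exact ⟨algebraMap K' KH c, (congrArg (algebraMap M₀ Ω) (RingHom.congr_fun hfg₀ c)).symm⟩
    | add a a' _ _ iha iha' => rw [map_add]; exact add_mem iha iha'
    | mul a a' _ _ iha iha' => rw [map_mul]; exact mul_mem iha iha'
  -- valuations
  have hff : ∀ z : F, ∃ z' : KH, g₀ z' = f₀ z := fun z => by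
    obtain ⟨z', hz'⟩ := hfKH z
    exact ⟨z', (algebraMap M₀ Ω).injective hz'⟩
  refine ⟨?_, ?_⟩
  · refine map_maximalIdeal_of_range σ hirr' ?_ f₀ g₀ (fun a b h => ?_) ?_ W' W₀ hW'f hW'H hW₀ hff
    · rw [Localization.localRingHom_to_map]
      exact hirrH
    · rw [IsScalarTower.algebraMap_apply R' K' F, IsScalarTower.algebraMap_apply R' K' F] at h
      exact IsFractionRing.injective R' K' ((algebraMap K' F).injective h)
    · intro a
      rw [IsScalarTower.algebraMap_apply R' K' F]
      exact (RingHom.congr_fun hfg₀ _).trans (congrArg g₀ (IsScalarTower.algebraMap_apply R' K' KH a).symm)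
  · haveI : IsDiscreteValuationRing W₀ := isDiscreteValuationRing_of_dominates R' K' F hW₀'
    haveI : IsScalarTower R' W₀ F := IsScalarTower.of_algebraMap_eq fun _ => rfl
    obtain ⟨hfinres, -⟩ := finite_residueField_and_ramificationIdx_mul_finrank_le R' W₀
      (fun a b h => IsFractionRing.injective R' K' ((algebraMap K' F).injective (by
        rw [← IsScalarTower.algebraMap_apply, ← IsScalarTower.algebraMap_apply]
        exact congrArg Subtype.val h))) K' F
    haveI : CharZero (ResidueField R') := by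
      refine charZero_of_inj_zero fun N hN => ?_
      by_contra h0
      rw [← map_natCast (residue R'), residue_eq_zero_iff, ← map_natCast (algebraMap A' R'),
        IsLocalization.AtPrime.to_map_mem_maximal_iff R' (Ideal.span {t i})] at hN
      exact hbad N (Nat.one_le_iff_ne_zero.2 h0) hN
    infer_instance

end Groth.Pi1Tame
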