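import Groth.Agent.Pi1Tame.AbsExtend
import Groth.Agent.Pi1Tame.Exponents
import Groth.Agent.Pi1Tame.Wild
import Groth.Agent.Pi1FEt.Colimits

/-!
# The absolute Abhyankar lemma
-/

universe u

set_option autoImplicit false
set_option linter.style.haveILetI false
set_option linter.unusedSectionVars false
set_option backward.isDefEq.respectTransparency false
set_option backward.defeqAttrib.useBackward true

open CategoryTheory CategoryTheory.Limits AlgebraicGeometry SGA1 IsLocalRing TensorProduct CommAlgCat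

namespace Groth.Pi1Tame

/-- An extension of the pulled back cover dominates all factors. -/
theorem dom_of_extension {A A' : Type u} [CommRing A] [CommRing A'] [IsDomain A'] [Algebra A A'] {F₀ : A}
    (hF₀ : algebraMap A A' F₀ ≠ 0) (V : FEt.Cat ((specBasicOpen A F₀) : Scheme.{u}))
    (W : FEt.Cat (Spec (CommRingCat.of A')))
    (iso : (FEt.restrict (Spec.map (CommRingCat.ofHom (algebraMap A A')) ⁻¹ᵁ specBasicOpen A F₀).ι).obj W ≅
      (FEt.restrict (Spec.map (CommRingCat.ofHom (algebraMap A A')) ∣_ specBasicOpen A F₀)).obj V)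
    (M : Type u) [Field M] [Algebra A M] [Algebra A' M] [Algebra (FractionRing A') M] [IsScalarTower A A' M]
    [IsScalarTower A' (FractionRing A') M] :
    letI : Algebra A Γ(V.left, ⊤) := (coverHom V).toAlgebra
    ∀ j : Γ(V.left, ⊤) →ₐ[A] M, Dom A' (FractionRing A') M j := by
  letI : Algebra A Γ(V.left, ⊤) := (coverHom V).toAlgebra
  intro j
  haveI := isAffine_cover V
  obtain ⟨χ, hχA, hχfin, hχet, hχsq⟩ := exists_away_hom V
  letI : Algebra (Localization.Away F₀) Γ(V.left, ⊤) := χ.toAlgebra
  haveI : IsScalarTower A (Localization.Away F₀) Γ(V.left, ⊤) :=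
    IsScalarTower.of_algebraMap_eq fun a => (RingHom.congr_fun hχA a).symm
  haveI : Module.Finite (Localization.Away F₀) Γ(V.left, ⊤) := RingHom.finite_algebraMap.1 hχfin
  haveI : Algebra.Etale (Localization.Away F₀) Γ(V.left, ⊤) := RingHom.etale_algebraMap.1 hχet
  let K' := FractionRing A'
  have h0 : IsUnit (algebraMap A K' F₀) := by
    refine isUnit_iff_ne_zero.2 ?_
    rw [IsScalarTower.algebraMap_apply A A' K']
    exact (map_ne_zero_iff _ (IsFractionRing.injective A' K')).2 hF₀
  letI : Algebra (Localization.Away F₀) K' := (IsLocalization.Away.lift F₀ (g := algebraMap A K') h0).toAlgebra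
  haveI : IsScalarTower A (Localization.Away F₀) K' :=
    IsScalarTower.of_algebraMap_eq fun a => (IsLocalization.Away.lift_eq _ h0 a).symm
  let L := K' ⊗[Localization.Away F₀] Γ(V.left, ⊤)
  let U := specBasicOpen A F₀
  let g := Spec.map (CommRingCat.ofHom (algebraMap A A'))
  let U' := g ⁻¹ᵁ U
  let ζ : Spec (CommRingCat.of K') ⟶ (U : Scheme.{u}) :=
    Spec.map (CommRingCat.ofHom (algebraMap (Localization.Away F₀) K')) ≫
      (basicOpenIsoSpecAway (R := CommRingCat.of A) F₀).inv
  have hz' : Set.range (Spec.map (CommRingCat.ofHom (algebraMap A' K'))) ⊆ Set.range U'.ι := by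
    rw [Scheme.Opens.range_ι]
    rintro _ ⟨p, rfl⟩
    change algebraMap A A' F₀ ∉ ((Spec.map (CommRingCat.ofHom (algebraMap A' K'))) p).asIdeal
    intro hmem
    refine p.2.ne_top (Ideal.eq_top_of_isUnit_mem _ hmem ?_)
    change IsUnit (algebraMap A' K' (algebraMap A A' F₀))
    rw [← IsScalarTower.algebraMap_apply]
    exact h0
  let ζ' : Spec (CommRingCat.of K') ⟶ (U' : Scheme.{u}) := IsOpenImmersion.lift U'.ι _ hz'
  have hζ' : ζ' ≫ U'.ι = Spec.map (CommRingCat.ofHom (algebraMap A' K')) := IsOpenImmersion.lift_fac _ _ _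
  have hζ : ζ' ≫ (g ∣_ U) = ζ := by
    rw [← cancel_mono U.ι, Category.assoc, morphismRestrict_ι, reassoc_of% hζ']
    change Spec.map _ ≫ Spec.map _ = (Spec.map _ ≫ (basicOpenIsoSpecAway (R := CommRingCat.of A) _).inv) ≫ U.ι
    rw [Category.assoc, show (basicOpenIsoSpecAway (R := CommRingCat.of A) F₀).inv ≫ U.ι =
      Spec.map (CommRingCat.ofHom (algebraMap A (Localization.Away F₀))) from
        IsOpenImmersion.isoOfRangeEq_inv_fac _ _ _, ← Spec.map_comp, ← Spec.map_comp, ← CommRingCat.ofHom_comp,
      ← CommRingCat.ofHom_comp, ← IsScalarTower.algebraMap_eq, ← IsScalarTower.algebraMap_eq A (Localization.Away F₀) K']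
  have hZ := isPullback_generic (K' := K') V.hom V.left.isoSpec ((Iso.inv_comp_eq _).1 hχsq)
  let LE := Pi1FEt.specObj K' (FiniteEtale.of K' L)
  let e₁ : (FEt.restrict ζ).obj V ≅ LE := MorphismProperty.Over.isoMk hZ.isoPullback.symm (by
    rw [Iso.symm_hom, Iso.inv_comp_eq]; exact hZ.isoPullback_hom_snd.symm)
  let E := (Pi1FEt.specFun A').objPreimage W
  let eW : (Pi1FEt.specFun A').obj E ≅ W := (Pi1FEt.specFun A').objObjPreimageIso W
  let sK := Spec.map (CommRingCat.ofHom (algebraMap A' K'))
  let e₂ : (Pi1FEt.specFun K').obj ((FiniteEtale.baseChange.{u, u} A' K').op.obj E) ≅ LE :=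
    (Pi1FEt.specFunPullbackIso A' K').app E ≪≫ (FEt.restrict sK).mapIso eW ≪≫
      (Pi1FEt.restrictCongr hζ'.symm).app W ≪≫ (Pi1FEt.restrictCompIso ζ' U'.ι).app W ≪≫
      (FEt.restrict ζ').mapIso iso ≪≫ ((Pi1FEt.restrictCompIso ζ' (g ∣_ U)).app V).symm ≪≫
      (Pi1FEt.restrictCongr hζ).app V ≪≫ e₁
  let e₃ : ((FiniteEtale.baseChange.{u, u} A' K').op.obj E) ≅ Opposite.op (FiniteEtale.of K' L) :=
    (Pi1FEt.specFun K').preimageIso e₂
  let θ : K' ⊗[A'] E.unop.obj →ₐ[K'] L := e₃.inv.unop.hom.hom
  have hθ : Function.Surjective θ := fun l => ⟨e₃.hom.unop.hom.hom l, by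
    have h := congrArg (fun φ : Opposite.op (FiniteEtale.of K' L) ⟶ Opposite.op (FiniteEtale.of K' L) => φ.unop.hom.hom l)
      e₃.inv_hom_id
    exact h⟩
  letI : Algebra (Localization.Away F₀) M := ((algebraMap K' M).comp (algebraMap (Localization.Away F₀) K')).toAlgebra
  haveI : IsScalarTower (Localization.Away F₀) K' M := IsScalarTower.of_algebraMap_eq fun _ => rfl
  let j' : Γ(V.left, ⊤) →ₐ[Localization.Away F₀] M :=
    { toRingHom := j.toRingHom
      commutes' := fun c => by
        have h := IsLocalization.ringHom_ext (Submonoid.powers F₀)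
          (j := j.toRingHom.comp (algebraMap (Localization.Away F₀) Γ(V.left, ⊤)))
          (k := algebraMap (Localization.Away F₀) M) (RingHom.ext fun a => by
            change j (algebraMap (Localization.Away F₀) Γ(V.left, ⊤) (algebraMap A _ a)) =
              algebraMap K' M (algebraMap (Localization.Away F₀) K' (algebraMap A _ a))
            rw [← IsScalarTower.algebraMap_apply, j.commutes, ← IsScalarTower.algebraMap_apply A _ K',
              IsScalarTower.algebraMap_apply A A' M, IsScalarTower.algebraMap_apply A A' K',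
              ← IsScalarTower.algebraMap_apply A' K' M])
        exact RingHom.congr_fun h c }
  let Φ : L →ₐ[K'] M := Algebra.TensorProduct.lift (Algebra.ofId K' M) j' fun _ _ => .all _ _
  let χE : E.unop.obj →ₐ[A'] M :=
    ((Φ.comp θ).restrictScalars A').comp Algebra.TensorProduct.includeRight
  refine ⟨χE.range, Module.Finite.of_surjective χE.rangeRestrict.toLinearMap χE.rangeRestrict_surjective,
    Algebra.FormallyUnramified.of_surjective χE.rangeRestrict χE.rangeRestrict_surjective, ?_⟩
  rintro _ ⟨b, rfl⟩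
  obtain ⟨z, hz⟩ := hθ (1 ⊗ₜ b)
  have hb : j b = Φ (θ z) := by
    rw [hz]
    refine Eq.symm ?_
    change Φ (1 ⊗ₜ b) = j' b
    exact (Algebra.TensorProduct.lift_tmul _ _ _ _ _).trans (by rw [map_one, one_mul])
  rw [hb]
  clear hb hz
  induction z using TensorProduct.induction_on with
  | zero => rw [map_zero, map_zero]; exact zero_mem _
  | add a b ha hb => rw [map_add, map_add]; exact add_mem ha hb
  | tmul c e =>
    rw [show c ⊗ₜ[A'] e = c • ((1 : K') ⊗ₜ[A'] e) by simp [TensorProduct.smul_tmul'], map_smul, map_smul]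
    refine Subalgebra.smul_mem _ ?_ c
    exact Algebra.subset_adjoin ⟨e, rfl⟩

theorem RamDvd.mono {A B : Type u} [CommRing A] [IsDomain A] [CommRing B] [Algebra A B] {r : ℕ} {f : Fin r → A}
    [∀ i, (Ideal.span {f i}).IsPrime] {φ : A →+* B} {i : Fin r} {N N' : ℕ} (h : RamDvd (f := f) φ i N)
    (hN : N ∣ N') : RamDvd (f := f) φ i N' :=
  fun q _ hq W hW => (h q hq W hW).trans hN

/-- Absorption passes to extensions. -/
theorem absorbsAt_of_hom {A B A' A'' : Type u} [CommRing A] [CommRing B] [Algebra A B] (F₀ : A)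
    [Algebra (Localization.Away F₀) B] [IsScalarTower A (Localization.Away F₀) B]
    [Module.Finite (Localization.Away F₀) B] [CommRing A'] [IsDomain A'] [Algebra A A'] [CommRing A''] [IsDomain A'']
    [Algebra A A''] (hF₀ : algebraMap A A' F₀ ≠ 0) (τ : A' →ₐ[A] A'') (hinjτ : Function.Injective τ)
    (P' : Ideal A') [P'.IsPrime] (P'' : Ideal A'') [P''.IsPrime] (hcomap : P''.comap τ.toRingHom = P')
    (h : AbsorbsAt (A := A) B A' P') : AbsorbsAt (A := A) B A'' P'' := by
  classical
  intro M _ _ _ _ _ _ _ _ _ j hj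
  let K' := FractionRing A'
  let R' := Localization.AtPrime P'
  let R'' := Localization.AtPrime P''
  letI : Algebra A' M := ((algebraMap A'' M).comp τ.toRingHom).toAlgebra
  haveI : IsScalarTower A A' M := IsScalarTower.of_algebraMap_eq (R := A) (S := A') (A := M) fun a => by
    change algebraMap A M a = algebraMap A'' M (τ (algebraMap A A' a))
    rw [τ.commutes, ← IsScalarTower.algebraMap_apply]
  have hinjM : Function.Injective (algebraMap A' M) := by
    have h'' : Function.Injective (algebraMap A'' M) := by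
      rw [IsScalarTower.algebraMap_eq A'' (FractionRing A'') M]
      exact (algebraMap (FractionRing A'') M).injective.comp (IsFractionRing.injective A'' (FractionRing A''))
    exact fun x y hxy => hinjτ (h'' hxy)
  letI : Algebra K' M := (IsFractionRing.lift hinjM).toAlgebra
  haveI : IsScalarTower A' K' M :=
    IsScalarTower.of_algebraMap_eq fun a => (IsFractionRing.lift_algebraMap hinjM a).symm
  haveI : IsScalarTower A K' M := IsScalarTower.of_algebraMap_eq fun a => by
    rw [IsScalarTower.algebraMap_apply A A' M, IsScalarTower.algebraMap_apply A' K' M,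
      ← IsScalarTower.algebraMap_apply A A' K']
  let F := IntermediateField.adjoin K' (Set.range j)
  let jF : B →ₐ[A] F :=
    AlgHom.codRestrict j ((F.toSubalgebra).restrictScalars A) fun b => IntermediateField.subset_adjoin K' _ ⟨b, rfl⟩
  have hint : ∀ x ∈ Set.range j, IsIntegral K' x := by
    rintro _ ⟨b, rfl⟩
    obtain ⟨q, hq, hqb⟩ : IsIntegral (Localization.Away F₀) b := Algebra.IsIntegral.isIntegral b
    have h0 : IsUnit (algebraMap A K' F₀) := isUnit_iff_ne_zero.2 (by
      rw [IsScalarTower.algebraMap_apply A A' K']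
      exact (map_ne_zero_iff _ (IsFractionRing.injective A' K')).2 hF₀)
    let h₀ : Localization.Away F₀ →+* K' := IsLocalization.Away.lift F₀ (g := algebraMap A K') h0
    refine ⟨q.map h₀, hq.map h₀, ?_⟩
    have hcompat : (algebraMap K' M).comp h₀ = j.toRingHom.comp (algebraMap (Localization.Away F₀) B) := by
      refine IsLocalization.ringHom_ext (Submonoid.powers F₀) (RingHom.ext fun a => ?_)
      simp only [RingHom.comp_apply, h₀, IsLocalization.Away.lift_eq, AlgHom.toRingHom_eq_coe, RingHom.coe_coe,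
        ← IsScalarTower.algebraMap_apply A (Localization.Away F₀) B, AlgHom.commutes,
        ← IsScalarTower.algebraMap_apply A K' M]
    rw [Polynomial.eval₂_map, hcompat]
    change Polynomial.eval₂ _ (j.toRingHom b) q = 0
    rw [← Polynomial.hom_eval₂, hqb, map_zero]
  have hjF : Algebra.adjoin K' (Set.range jF) = ⊤ := by
    apply Subalgebra.map_injective (f := F.val) Subtype.val_injective
    rw [AlgHom.map_adjoin, ← Set.range_comp, Algebra.map_top, IntermediateField.range_val,
      IntermediateField.adjoin_toSubalgebra_of_isAlgebraic (fun x hx => (hint x hx).isAlgebraic)]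
    rfl
  letI : Algebra R' F := ((algebraMap K' F).comp (algebraMap R' K')).toAlgebra
  haveI : IsScalarTower R' K' F := IsScalarTower.of_algebraMap_eq fun _ => rfl
  haveI : IsScalarTower A' R' F := IsScalarTower.of_algebraMap_eq fun a => Subtype.ext (by
    change algebraMap A' M a = algebraMap K' M (algebraMap R' K' (algebraMap A' R' a))
    rw [← IsScalarTower.algebraMap_apply A' R' K', ← IsScalarTower.algebraMap_apply])
  haveI : IsScalarTower A A' F := IsScalarTower.of_algebraMap_eq fun a => Subtype.ext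
    (IsScalarTower.algebraMap_apply A A' M a)
  have hU := h F jF hjF
  let σ : R' →+* R'' := Localization.localRingHom _ _ τ.toRingHom hcomap.symm
  letI : Algebra R' R'' := σ.toAlgebra
  letI : Algebra R' M := ((algebraMap R'' M).comp σ).toAlgebra
  haveI : IsScalarTower R' R'' M := IsScalarTower.of_algebraMap_eq fun _ => rfl
  have hR'M : ∀ a : R', algebraMap R' M a = algebraMap K' M (algebraMap R' K' a) := by
    intro a
    change ((algebraMap R'' M).comp σ) a = ((algebraMap K' M).comp (algebraMap R' K')) a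
    congr 1
    refine IsLocalization.ringHom_ext P'.primeCompl (RingHom.ext fun b => ?_)
    change algebraMap R'' M (σ (algebraMap A' R' b)) = algebraMap K' M (algebraMap R' K' (algebraMap A' R' b))
    rw [← IsScalarTower.algebraMap_apply A' R' K', ← IsScalarTower.algebraMap_apply A' K' M,
      Localization.localRingHom_to_map, ← IsScalarTower.algebraMap_apply A'' R'' M]
    rfl
  let φ : F →ₐ[R'] M := { toRingHom := F.val.toRingHom, commutes' := fun a => (hR'M a).symm }
  refine hU.baseChange φ (fun a => ?_) (eq_top_iff.2 (hj ▸ Algebra.adjoin_mono ?_))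
  · obtain ⟨c, c', hc', rfl⟩ := IsFractionRing.div_surjective (A := A') a
    refine ⟨algebraMap A'' (FractionRing A'') (τ c) / algebraMap A'' (FractionRing A'') (τ c'), ?_⟩
    rw [map_div₀, ← IsScalarTower.algebraMap_apply, ← IsScalarTower.algebraMap_apply]
    change _ = ((algebraMap K' M) _)
    rw [map_div₀, ← IsScalarTower.algebraMap_apply, ← IsScalarTower.algebraMap_apply]
    rfl
  · rintro _ ⟨b, rfl⟩
    exact ⟨jF b, rfl⟩


variable {A : Type u} [CommRing A] [IsDomain A] [IsRegularLocalRing A] {r : ℕ} {f : Fin r → A}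
  {hm : ∀ i, f i ∈ maximalIdeal A} [∀ i, (Ideal.span {f i}).IsPrime]

/-- A prime of a Kummer algebra with only zero below it is unramified or a root prime. -/
theorem eq_span_root_of_minimal (hf : LinearIndependent (ResidueField A) (fun i => (maximalIdeal A).toCotangent ⟨f i, hm i⟩))
    {n : Fin r → ℕ} (hn : ∀ i, 2 ≤ n i) {Q : Ideal (kummerAlg A f n)} [Q.IsPrime]
    (hmin : ∀ P : Ideal (kummerAlg A f n), P.IsPrime → P < Q → P = ⊥)
    (hQ : algebraMap A (kummerAlg A f n) (∏ i, f i) ∈ Q) : ∃ i, Ideal.span {root A f n i} = Q := by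
  obtain ⟨i, hi⟩ := exists_root_mem_of_notMem hf hn ⟨Q, inferInstance⟩ hQ
  refine ⟨i, hi.eq_of_not_lt fun hlt => root_ne_zero hf hn i ?_⟩
  simpa using hmin _ (isPrime_span_root hf hn i) hlt

/-- The transition between Kummer algebras. -/
theorem exists_transition {n₀ P : ℕ} : ∃ τ : kummerAlg A f (fun _ => n₀) →ₐ[A] kummerAlg A f (fun _ => n₀ * P),
    ∀ i, τ (root A f _ i) = root A f _ i ^ P := by
  have hy : ∀ i, (root A f (fun _ => n₀ * P) i ^ P) ^ n₀ = algebraMap A (kummerAlg A f fun _ => n₀ * P) (f i) :=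
    fun i => by rw [← pow_mul, mul_comm P n₀]; exact root_pow A f (fun _ => n₀ * P) i
  exact ⟨{ toRingHom := lift (algebraMap A _) (fun i => root A f (fun _ => n₀ * P) i ^ P) hy
           commutes' := fun a => lift_algebraMap (algebraMap A _) _ hy a }, fun i => lift_root (algebraMap A _) _ hy i⟩

variable {B : Type u} [CommRing B] [Algebra A B] [Algebra (Localization.Away (∏ i, f i)) B]
  [IsScalarTower A (Localization.Away (∏ i, f i)) B] [Module.Finite (Localization.Away (∏ i, f i)) B]
  [Algebra.FormallyUnramified (Localization.Away (∏ i, f i)) B]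

theorem absorbsAt_of_ramDvd (hf : LinearIndependent (ResidueField A) (fun i => (maximalIdeal A).toCotangent ⟨f i, hm i⟩))
    (htame : IsTameAlong f (algebraMap A B)) {n : Fin r → ℕ} (hn : ∀ i, 2 ≤ n i) [IsDomain (kummerAlg A f n)]
    (i : Fin r) [(Ideal.span {root A f n i}).IsPrime] (hu : ∀ k, (n k : A) ∉ Ideal.span {f i})
    (he : RamDvd (f := f) (algebraMap A B) i (n i)) :
    AbsorbsAt (A := A) B (kummerAlg A f n) (Ideal.span {root A f n i}) :=
  fun F _ _ _ _ _ _ _ _ _ j hj => unr_at_root hf htame hn i hu he j hj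

theorem absorbsAt_transition (hf : LinearIndependent (ResidueField A) (fun i => (maximalIdeal A).toCotangent ⟨f i, hm i⟩))
    {n₀ P : ℕ} (h2 : 2 ≤ n₀) (hP : 1 ≤ P) [IsDomain (kummerAlg A f fun _ => n₀)]
    [IsDomain (kummerAlg A f fun _ => n₀ * P)] (i : Fin r) [(Ideal.span {root A f (fun _ => n₀) i}).IsPrime]
    [(Ideal.span {root A f (fun _ => n₀ * P) i}).IsPrime]
    (h : AbsorbsAt (A := A) B (kummerAlg A f fun _ => n₀) (Ideal.span {root A f (fun _ => n₀) i})) :
    AbsorbsAt (A := A) B (kummerAlg A f fun _ => n₀ * P) (Ideal.span {root A f (fun _ => n₀ * P) i}) := by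
  classical
  let A' := kummerAlg A f fun _ : Fin r => n₀
  let A'' := kummerAlg A f fun _ : Fin r => n₀ * P
  obtain ⟨τ, hτ⟩ := exists_transition (A := A) (f := f) (n₀ := n₀) (P := P)
  have hn' : ∀ _ : Fin r, 2 ≤ n₀ := fun _ => h2
  have hn'' : ∀ _ : Fin r, 2 ≤ n₀ * P := fun _ => le_trans h2 (Nat.le_mul_of_pos_right _ hP)
  haveI : Module.Finite A A' := module_finite fun l => le_trans one_le_two (hn' l)
  haveI : Algebra.IsIntegral A A' := inferInstance
  have hinjτ : Function.Injective τ := by
    rw [← AlgHom.coe_toRingHom, RingHom.injective_iff_ker_eq_bot]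
    refine Ideal.eq_bot_of_comap_eq_bot (R := A) ?_
    rw [eq_bot_iff]
    intro a ha
    have h1 : τ (algebraMap A A' a) = 0 := ha
    rw [τ.commutes, map_eq_zero_iff _ (injective_algebraMap fun l => le_trans one_le_two (hn'' l))] at h1
    exact h1
  have hcomap : (Ideal.span {root A f (fun _ => n₀ * P) i}).comap τ.toRingHom =
      Ideal.span {root A f (fun _ => n₀) i} := by
    refine le_antisymm ?_ ?_
    · by_contra hne
      have hlt : Ideal.span {root A f (fun _ => n₀) i} < (Ideal.span {root A f (fun _ => n₀ * P) i}).comap τ.toRingHom := by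
        refine lt_of_le_not_ge ?_ hne
        rw [Ideal.span_le, Set.singleton_subset_iff]
        change τ (root A f _ i) ∈ Ideal.span _
        rw [hτ]
        exact Ideal.pow_mem_of_mem _ (Ideal.mem_span_singleton_self _) _ hP
      have h1 := Ideal.IsIntegral.comap_lt_comap (R := A) hlt
      rw [comap_span_root (fun l => le_trans one_le_two (hn' l)), Ideal.comap_comap,
        show τ.toRingHom.comp (algebraMap A A') = algebraMap A A'' from τ.comp_algebraMap,
        comap_span_root (fun l => le_trans one_le_two (hn'' l))] at h1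
      exact lt_irrefl _ h1
    · rw [Ideal.span_le, Set.singleton_subset_iff]
      change τ (root A f _ i) ∈ Ideal.span _
      rw [hτ]
      exact Ideal.pow_mem_of_mem _ (Ideal.mem_span_singleton_self _) _ hP
  refine absorbsAt_of_hom (∏ l, f l) ?_ τ hinjτ _ _ hcomap h
  exact (map_ne_zero_iff _ (injective_algebraMap fun l => le_trans one_le_two (hn' l))).2 (prod_ne_zero' hf)

/-- The root primes of a Kummer algebra have the expected trace. -/
theorem natCast_mem_span_of_root {n : Fin r → ℕ} (hn' : ∀ i, 1 ≤ n i)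
    {i : Fin r} {N : ℕ} (h : (N : kummerAlg A f n) ∈ Ideal.span {root A f n i}) : (N : A) ∈ Ideal.span {f i} := by
  rw [← comap_span_root hn' i, Ideal.mem_comap, map_natCast]
  exact h

/-- The absolute Abhyankar lemma. -/
theorem abhyankar (hf : LinearIndependent (ResidueField A) (fun i => (maximalIdeal A).toCotangent ⟨f i, hm i⟩))
    (V : FEt.Cat ((specBasicOpen A (∏ i, f i)) : Scheme.{u})) (htame : IsTameAlong f (coverHom V)) :
    ∃ n₀ : ℕ, 2 ≤ n₀ ∧ IsUnit (n₀ : ResidueField A) ∧
      ∃ W : FEt.Cat (Spec (CommRingCat.of (kummerAlg A f fun _ => n₀))),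
        Nonempty ((FEt.restrict (kummerSpec A f (fun _ => n₀) ⁻¹ᵁ specBasicOpen A (∏ i, f i)).ι).obj W ≅
          (FEt.restrict (kummerSpec A f (fun _ => n₀) ∣_ specBasicOpen A (∏ i, f i))).obj V) := by
  classical
  haveI := isAffine_cover V
  letI : Algebra A Γ(V.left, ⊤) := (coverHom V).toAlgebra
  obtain ⟨χ, hχA, hχfin, hχet, -⟩ := exists_away_hom V
  letI : Algebra (Localization.Away (∏ i, f i)) Γ(V.left, ⊤) := χ.toAlgebra
  haveI : IsScalarTower A (Localization.Away (∏ i, f i)) Γ(V.left, ⊤) :=
    IsScalarTower.of_algebraMap_eq fun a => (RingHom.congr_fun hχA a).symm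
  haveI : Module.Finite (Localization.Away (∏ i, f i)) Γ(V.left, ⊤) := RingHom.finite_algebraMap.1 hχfin
  haveI : Algebra.Etale (Localization.Away (∏ i, f i)) Γ(V.left, ⊤) := RingHom.etale_algebraMap.1 hχet
  obtain ⟨p, k, n₀, h2, hu0, hcase⟩ := exists_exponents (B := Γ(V.left, ⊤)) hf htame
  have hn₀ : ∀ _ : Fin r, 2 ≤ n₀ := fun _ => h2
  have hu : ∀ i, ∀ _ : Fin r, (n₀ : A) ∉ Ideal.span {f i} := fun i _ h =>
    (inferInstance : (Ideal.span {f i}).IsPrime).ne_top
      (Ideal.eq_top_of_isUnit_mem _ h (isUnit_natCast_of_residue hu0))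
  haveI := isDomain_kummer hf hn₀
  refine ⟨n₀, h2, hu0, exists_extension_kummer hf hn₀ V fun i _ => ?_⟩
  rcases hcase i with hgood | ⟨hp, hpκ, hpi, -⟩
  · exact absorbsAt_of_ramDvd hf htame hn₀ i (hu i) hgood
  -- the wild index
  let P := p ^ (k + 1)
  have hP2 : 2 ≤ P := le_trans hp.two_le (Nat.le_self_pow (Nat.succ_ne_zero k) p)
  have hn'' : ∀ _ : Fin r, 2 ≤ n₀ * P := fun _ => le_trans h2 (Nat.le_mul_of_pos_right _ (by omega))
  haveI := isDomain_kummer hf hn''
  obtain ⟨W'', ⟨iso''⟩⟩ := exists_extension_kummer hf hn'' V fun l _ => by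
    rcases hcase l with hgood | ⟨-, -, hpl, hbad⟩
    · haveI := isPrime_span_root hf hn₀ l
      exact absorbsAt_transition hf h2 (by omega) l (absorbsAt_of_ramDvd hf htame hn₀ l (hu l) hgood)
    · exact absorbsAt_of_ramDvd hf htame hn'' l
        (fun _ => not_mem_span_of_char hp hpκ hpl hm (le_trans one_le_two (hn'' l)))
        (hbad.mono (mul_dvd_mul_left _ (pow_dvd_pow p (Nat.le_succ k))))
  haveI : IsRegularLocalRing (kummerAlg A f fun _ => n₀) := (kummer_regular hf hn₀).1
  obtain ⟨hT, hTli⟩ := (kummer_regular hf hn₀).2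
  haveI : Module.Finite A (kummerAlg A f fun _ => n₀ * P) := module_finite fun l => le_trans one_le_two (hn'' l)
  haveI : Algebra.IsIntegral A (kummerAlg A f fun _ => n₀ * P) := inferInstance
  have hn1 : ∀ _ : Fin r, 1 ≤ n₀ := fun _ => le_trans one_le_two h2
  have hn1' : ∀ _ : Fin r, 1 ≤ n₀ * P := fun l => le_trans one_le_two (hn'' l)
  have hpm : (p : kummerAlg A f fun _ => n₀) ∈ maximalIdeal (kummerAlg A f fun _ => n₀) := by
    have hpA : (p : A) ∈ maximalIdeal A := by rw [← residue_eq_zero_iff, map_natCast]; exact hpκ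
    rw [maximalIdeal_kummer (hm := hm) hn₀, ← map_natCast (algebraMap A (kummerAlg A f fun _ => n₀))]
    exact Ideal.mem_sup_left (Ideal.mem_map_of_mem _ hpA)
  intro F _ _ _ _ _ _ _ _ _ j hj
  obtain ⟨D, hD⟩ := exists_bound (A := A) Γ(V.left, ⊤) (∏ l, f l)
  haveI : IsScalarTower A (FractionRing (kummerAlg A f fun _ => n₀)) F :=
    IsScalarTower.of_algebraMap_eq fun a => by
      rw [IsScalarTower.algebraMap_apply A (kummerAlg A f fun _ => n₀) F,
        IsScalarTower.algebraMap_apply (kummerAlg A f fun _ => n₀) (FractionRing (kummerAlg A f fun _ => n₀)) F,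
        ← IsScalarTower.algebraMap_apply A (kummerAlg A f fun _ => n₀) (FractionRing (kummerAlg A f fun _ => n₀))]
  have hF0 : algebraMap A (FractionRing (kummerAlg A f fun _ => n₀)) (∏ l, f l) ≠ 0 := by
    rw [IsScalarTower.algebraMap_apply A (kummerAlg A f fun _ => n₀)]
    exact (map_ne_zero_iff _ (IsFractionRing.injective (kummerAlg A f fun _ => n₀) _)).2
      ((map_ne_zero_iff _ (injective_algebraMap hn1)).2 (prod_ne_zero' hf))
  obtain ⟨hfin, hsep, -⟩ := hD _ F hF0 j hj
  refine unr_wild (A'' := kummerAlg A f fun _ => n₀ * P) (injective_algebraMap hn1) hTli hp hpm hP2 ?_ ?_ i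
    (fun N hN h => not_mem_span_of_char hp hpκ hpi hm hN (natCast_mem_span_of_root hn1 h)) j hj ?_
  · intro H'' _ _ ν y hy
    have hy' : ∀ l, y l ^ (n₀ * P) = algebraMap A H'' (f l) := fun l => by
      rw [mul_comm, pow_mul, hy, ← map_pow, root_pow, AlgHom.commutes]
    exact ⟨{ toRingHom := lift (n := fun _ => n₀ * P) (algebraMap A H'') y hy'
             commutes' := fun a => lift_algebraMap (algebraMap A H'') y hy' a }⟩
  · intro M _ _ _ _ _ _ jM
    exact dom_of_extension ((map_ne_zero_iff _ (injective_algebraMap hn1')).2 (prod_ne_zero' hf)) V W'' iso'' M jM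
  · intro Q₀ _ hpQ hmin _ _ _
    by_cases hF : algebraMap A (kummerAlg A f fun _ => n₀) (∏ l, f l) ∈ Q₀
    · obtain ⟨l, hl⟩ := eq_span_root_of_minimal hf hn₀ hmin hF
      subst hl
      rcases hcase l with hgood | ⟨-, -, hpl, -⟩
      · exact absorbsAt_of_ramDvd hf htame hn₀ l (hu l) hgood F j hj
      · exact absurd (natCast_mem_span_of_root hn1 hpQ) hpl
    · haveI : IsScalarTower A (Localization.AtPrime Q₀) F := IsScalarTower.of_algebraMap_eq fun a => by
        rw [IsScalarTower.algebraMap_apply A (kummerAlg A f fun _ => n₀) (Localization.AtPrime Q₀),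
          ← IsScalarTower.algebraMap_apply (kummerAlg A f fun _ => n₀) (Localization.AtPrime Q₀) F,
          ← IsScalarTower.algebraMap_apply A (kummerAlg A f fun _ => n₀) F]
      refine unr_of_isUnit (∏ l, f l) ?_ j hj
      rw [IsScalarTower.algebraMap_apply A (kummerAlg A f fun _ => n₀) (Localization.AtPrime Q₀)]
      exact IsLocalization.map_units _ (⟨_, hF⟩ : Q₀.primeCompl)

end Groth.Pi1Tame
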