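import Groth.Agent.Pi1Tame.StrictKummer
import Mathlib.AlgebraicGeometry.Morphisms.UniversallyOpen
import Mathlib.FieldTheory.IsAlgClosed.AlgebraicClosure

/-!
# Kummer coverings are cofinal among tame covers over strictly henselian bases
-/

universe u

set_option autoImplicit false
set_option linter.style.haveILetI false
set_option backward.isDefEq.respectTransparency false
set_option backward.defeqAttrib.useBackward true

open IsLocalRing SGA1 AlgebraicGeometry CategoryTheory CategoryTheory.Limits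

namespace Groth.Pi1Tame

/-- A Kummer covering with a constant exponent surjects onto a connected tame cover. -/
theorem exists_dominating_kummer (A : Type u) [CommRing A] [IsRegularLocalRing A] [IsDomain A] (r : ℕ) (f : Fin r → A)
    (hm : ∀ i, f i ∈ maximalIdeal A)
    (hf : LinearIndependent (ResidueField A) (fun i => (maximalIdeal A).toCotangent ⟨f i, hm i⟩))
    [∀ i, (Ideal.span {f i}).IsPrime]
    [HenselianLocalRing A] [IsSepClosed (ResidueField A)]
    (V : FEt.Cat ((SGA1.specBasicOpen A (∏ i, f i)) : Scheme.{u})) [ConnectedSpace V.left] (htame : SGA1.IsTameAlong f (((V.hom ≫ ((SGA1.specBasicOpen A (∏ i, f i))).ι).appTop).hom.comp (Scheme.ΓSpecIso (CommRingCat.of A)).inv.hom)) :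
    ∃ n₀ : ℕ, 2 ≤ n₀ ∧ IsUnit (n₀ : ResidueField A) ∧
      ∃ φ : (↑((Spec.map (CommRingCat.ofHom (algebraMap A (SGA1.kummerAlg A f fun _ => n₀)))) ⁻¹ᵁ (SGA1.specBasicOpen A (∏ i, f i))) : Scheme.{u}) ⟶ V.left, φ ≫ V.hom = (Spec.map (CommRingCat.ofHom (algebraMap A (SGA1.kummerAlg A f fun _ => n₀)))) ∣_ (SGA1.specBasicOpen A (∏ i, f i)) ∧ Surjective φ := by
  classical
  open Groth.Pi1Tame in
  obtain ⟨n₀, h2, hu0, W, ⟨iso⟩⟩ := abhyankar hf V htame
  let F₀ := ∏ i, f i
  let U := SGA1.specBasicOpen A F₀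
  have hn : ∀ _ : Fin r, 2 ≤ n₀ := fun _ => h2
  have hn1 : ∀ _ : Fin r, 1 ≤ n₀ := fun _ => le_trans one_le_two h2
  haveI := Groth.Pi1Tame.isDomain_kummer hf hn
  haveI := Groth.Pi1Tame.module_finite (A := A) (f := f) (n := fun _ => n₀) hn1
  haveI := Groth.Pi1Tame.module_free (A := A) (f := f) (n := fun _ => n₀) hn1
  haveI : Module.FinitePresentation A (SGA1.kummerAlg A f fun _ => n₀) := Module.finitePresentation_of_projective A _
  let A' := SGA1.kummerAlg A f fun _ => n₀
  let q := Spec.map (CommRingCat.ofHom (algebraMap A A'))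
  haveI : IsFinite q := (IsFinite.SpecMap_iff _).2 (RingHom.finite_algebraMap.2 inferInstance)
  haveI : Flat q := (HasRingHomProperty.Spec_iff (P := @Flat)).2 (RingHom.flat_algebraMap_iff.2 inferInstance)
  haveI : LocallyOfFinitePresentation q :=
    (HasRingHomProperty.Spec_iff (P := @LocallyOfFinitePresentation)).2 (RingHom.finitePresentation_algebraMap.2 inferInstance)
  haveI : IsFinite V.hom := V.prop.1
  haveI : Etale V.hom := V.prop.2
  haveI : IsFinite W.hom := W.prop.1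
  haveI : Etale W.hom := W.prop.2
  -- a point of `V` over the generic point
  let η : PrimeSpectrum A := ⟨⊥, Ideal.isPrime_bot⟩
  have hη : η ∈ U := fun h => Groth.Pi1Tame.prod_ne_zero' hf (Ideal.mem_bot.1 h)
  let h : V.left ⟶ (U : Scheme.{u}) := V.hom
  haveI : IsFinite h := V.prop.1
  haveI : Etale h := V.prop.2
  have hclopen : IsClopen (Set.range h) :=
    ⟨h.isClosedMap.isClosed_range, h.isOpenMap.isOpen_range⟩
  haveI : PreconnectedSpace (U : Scheme.{u}) := by
    haveI : Nonempty U := ⟨⟨η, hη⟩⟩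
    haveI : IsIntegral (U : Scheme.{u}) := isIntegral_of_isOpenImmersion U.ι
    infer_instance
  obtain ⟨v, hv⟩ : (⟨η, hη⟩ : (U : Scheme.{u})) ∈ Set.range h := by
    rw [hclopen.eq_univ (Set.range_nonempty _)]
    trivial
  let M := AlgebraicClosure (V.left.residueField v)
  let s₀ : Spec (CommRingCat.of M) ⟶ V.left :=
    Spec.map (CommRingCat.ofHom (algebraMap (V.left.residueField v) M)) ≫ V.left.fromSpecResidueField v
  obtain ⟨g₀, hg₀⟩ := Spec.map_surjective (s₀ ≫ V.hom ≫ U.ι)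
  have hker : RingHom.ker g₀.hom = ⊥ := by
    have h1 : (Spec.map g₀).base (IsLocalRing.closedPoint M) = η := by
      rw [hg₀]
      simp only [Scheme.Hom.comp_base, TopCat.comp_app, s₀]
      erw [Scheme.fromSpecResidueField_apply, hv]
      rfl
    have h2' := congrArg PrimeSpectrum.asIdeal h1
    rw [RingHom.ker_eq_comap_bot, ← IsLocalRing.maximalIdeal_eq_bot]
    exact h2'
  have hroots : ∀ i, ∃ z : M, z ^ n₀ = g₀.hom (f i) := fun i =>
    IsAlgClosed.exists_pow_nat_eq _ (by omega)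
  choose y hy using hroots
  let g : A' →+* M := Groth.Pi1Tame.lift g₀.hom y hy
  have hgA : g.comp (algebraMap A A') = g₀.hom := RingHom.ext fun a => Groth.Pi1Tame.lift_algebraMap g₀.hom y hy a
  have hginj : Function.Injective g := by
    rw [RingHom.injective_iff_ker_eq_bot]
    haveI : (RingHom.ker g).IsPrime := RingHom.ker_isPrime g
    refine Ideal.eq_bot_of_comap_eq_bot (R := A) ?_
    rw [RingHom.comap_ker, hgA, hker]
  let tA : Spec (CommRingCat.of M) ⟶ Spec (CommRingCat.of A') := Spec.map (CommRingCat.ofHom g)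
  have htA : (s₀ ≫ V.hom) ≫ U.ι = tA ≫ q := by
    rw [Category.assoc, ← hg₀, ← Spec.map_comp, ← CommRingCat.ofHom_comp, hgA, CommRingCat.ofHom_hom]
  have hsq := isPullback_morphismRestrict q U
  let t' : Spec (CommRingCat.of M) ⟶ (q ⁻¹ᵁ U : Scheme.{u}) := hsq.lift (s₀ ≫ V.hom) tA htA
  have ht1 : t' ≫ (q ∣_ U) = s₀ ≫ V.hom := hsq.lift_fst _ _ _
  have ht2 : t' ≫ (q ⁻¹ᵁ U).ι = tA := hsq.lift_snd _ _ _
  have hi1 : iso.hom.left ≫ pullback.snd V.hom (q ∣_ U) = pullback.snd W.hom (q ⁻¹ᵁ U).ι :=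
    MorphismProperty.Over.w iso.hom
  have hi2 : iso.inv.left ≫ pullback.snd W.hom (q ⁻¹ᵁ U).ι = pullback.snd V.hom (q ∣_ U) :=
    MorphismProperty.Over.w iso.inv
  let pt : Spec (CommRingCat.of M) ⟶ pullback W.hom (q ⁻¹ᵁ U).ι :=
    pullback.lift s₀ t' ht1.symm ≫ iso.inv.left
  have hpt : (pt ≫ pullback.fst W.hom (q ⁻¹ᵁ U).ι) ≫ W.hom = Spec.map (CommRingCat.ofHom g) := by
    simp only [pt, Category.assoc, pullback.condition]
    rw [reassoc_of% hi2, pullback.lift_snd_assoc, ht2]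
  obtain ⟨σ, hσ⟩ := Groth.Pi1Tame.exists_section_of_point hf hn W g hginj _ hpt
  let ψ : (q ⁻¹ᵁ U : Scheme.{u}) ⟶ pullback W.hom (q ⁻¹ᵁ U).ι :=
    pullback.lift ((q ⁻¹ᵁ U).ι ≫ σ) (𝟙 _) (by rw [Category.assoc, hσ, Category.comp_id, Category.id_comp])
  haveI : IsOpenImmersion ψ :=
    Groth.EtaleBase.isOpenImmersion_section (pullback.snd W.hom (q ⁻¹ᵁ U).ι) ψ (pullback.lift_snd _ _ _)
  let φ : (q ⁻¹ᵁ U : Scheme.{u}) ⟶ V.left := ψ ≫ iso.hom.left ≫ pullback.fst V.hom (q ∣_ U)
  have hφ : φ ≫ V.hom = q ∣_ U := by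
    simp only [φ, Category.assoc, pullback.condition]
    rw [reassoc_of% hi1, pullback.lift_snd_assoc, Category.id_comp]
  refine ⟨n₀, h2, hu0, φ, hφ, ?_⟩
  haveI : IsFinite (q ∣_ U) := inferInstance
  haveI : Flat (q ∣_ U) := MorphismProperty.of_isPullback (isPullback_morphismRestrict q U).flip inferInstance
  haveI : LocallyOfFinitePresentation (q ∣_ U) :=
    MorphismProperty.of_isPullback (isPullback_morphismRestrict q U).flip inferInstance
  haveI : IsFinite (φ ≫ V.hom) := hφ ▸ inferInstance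
  haveI : IsFinite φ := IsFinite.of_comp φ V.hom
  haveI : IsIso iso.hom.left :=
    ⟨iso.inv.left, congrArg (fun a => a.left) iso.hom_inv_id, congrArg (fun a => a.left) iso.inv_hom_id⟩
  have hopen : IsOpen (Set.range φ) := by
    have : IsOpenMap (φ : (q ⁻¹ᵁ U : Scheme.{u}) → V.left) := by
      haveI : UniversallyOpen (pullback.fst V.hom (q ∣_ U)) := UniversallyOpen.of_flat _
      exact ((pullback.fst V.hom (q ∣_ U)).isOpenMap.comp iso.hom.left.isOpenMap).comp ψ.isOpenMap
    exact this.isOpen_range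
  refine ⟨Set.range_eq_univ.1 ?_⟩
  haveI : Nonempty (q ⁻¹ᵁ U : Scheme.{u}) := ⟨t'.base (IsLocalRing.closedPoint M)⟩
  exact IsClopen.eq_univ ⟨φ.isClosedMap.isClosed_range, hopen⟩ (Set.range_nonempty _)

end Groth.Pi1Tame
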