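import Groth.Agent.Pi1Tame.KummerCover
import Groth.Agent.EtaleBase.Rigidity
import Groth.Prelude.Def_PiSp

/-!
# Automorphisms of a connected Kummer cover over a strictly henselian local ring
-/

set_option autoImplicit false
set_option linter.style.haveILetI false
universe u

open CategoryTheory CategoryTheory.Limits AlgebraicGeometry IsLocalRing

namespace Groth.Pi1Tame.KR

theorem eq_of_agree {X S Y : Scheme.{u}} (π : X ⟶ S) [FormallyUnramified π] [LocallyOfFiniteType π]
    [IsSeparated π] [ConnectedSpace Y] (f g : Y ⟶ X) (w : f ≫ π = g ≫ π) {T : Scheme.{u}} [Nonempty T]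
    (p : T ⟶ Y) (hp : p ≫ f = p ≫ g) : f = g := by
  let l : T ⟶ Groth.EtaleBase.agree π f g w := pullback.lift p (p ≫ f) (by
    apply pullback.hom_ext <;> simp [hp, pullback.lift_fst, pullback.lift_snd])
  haveI hsurj : Surjective (pullback.fst (pullback.lift f g w) (pullback.diagonal π)) := by
    refine ⟨Set.range_eq_univ.1 ?_⟩
    refine IsClopen.eq_univ ⟨(Scheme.Hom.isClosedEmbedding _).isClosed_range,
      (Scheme.Hom.isOpenEmbedding _).isOpen_range⟩ ?_
    obtain ⟨t⟩ := ‹Nonempty T›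
    refine ⟨p t, l t, ?_⟩
    rw [← Scheme.Hom.comp_apply]
    simp [l, pullback.lift_fst]
  exact Groth.EtaleBase.eq_of_surjective_agree π f g w _ (Groth.EtaleBase.agree_fst_comp π f g w)

/-- Over a strictly henselian local ring the `n`-th roots of unity are as many as in any field receiving it. -/
theorem roots_of_unity_lift (R : Type u) [CommRing R] [HenselianLocalRing R] [IsSepClosed (ResidueField R)]
    {n : ℕ} (hn : 1 ≤ n) (hu : IsUnit (n : R)) {Ω : Type u} [Field Ω] (α : R →+* Ω) :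
    (∀ z : Ω, z ^ n = 1 → ∃ ζ : rootsOfUnity n R, α ((ζ : Rˣ) : R) = z) ∧
      ∀ ζ : rootsOfUnity n R, α ((ζ : Rˣ) : R) = 1 → ζ = 1 := by
  classical
  haveI : NeZero n := ⟨by omega⟩
  have hk : IsUnit (n : ResidueField R) := by simpa using hu.map (residue R)
  haveI : NeZero (n : ResidueField R) := ⟨hk.ne_zero⟩
  -- a root congruent to one is one
  have hone : ∀ u : R, u ^ n = 1 → residue R u = 1 → u = 1 := by
    intro u hun hu1
    have hsum : (∑ i ∈ Finset.range n, u ^ i) * (u - 1) = 0 := by rw [geom_sum_mul, hun, sub_self]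
    have hunit : IsUnit (∑ i ∈ Finset.range n, u ^ i) := by
      refine isUnit_of_map_unit (residue R) _ ?_
      simpa [hu1] using hk
    exact sub_eq_zero.1 (hunit.mul_right_eq_zero.1 hsum)
  obtain ⟨ζ₀, hζ₀⟩ := HasEnoughRootsOfUnity.exists_primitiveRoot (ResidueField R) n
  obtain ⟨a₀, rfl⟩ := residue_surjective ζ₀
  have hder : (n : ResidueField R) * residue R a₀ ^ (n - 1) ≠ 0 :=
    mul_ne_zero (NeZero.ne _) (pow_ne_zero _ (hζ₀.ne_zero (by omega)))
  obtain ⟨u, hu', hu''⟩ := HenselianLocalRing.is_henselian (Polynomial.X ^ n - 1 : Polynomial R)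
    (Polynomial.monic_X_pow_sub_C 1 (by omega)) a₀
    (by
      rw [← residue_eq_zero_iff]
      simp [hζ₀.pow_eq_one])
    (by
      rw [← IsLocalRing.notMem_maximalIdeal, ← residue_eq_zero_iff]
      simpa [Polynomial.derivative_X_pow] using hder)
  have hun : u ^ n = 1 := by
    simpa [Polynomial.IsRoot, sub_eq_zero] using hu'
  rw [← residue_eq_zero_iff, map_sub, sub_eq_zero] at hu''
  have hprim : IsPrimitiveRoot (α u) n := by
    refine IsPrimitiveRoot.mk_of_lt _ (by omega) (by rw [← map_pow, hun, map_one]) fun l hl0 hl h1 => ?_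
    have hne : residue R (u ^ l - 1) ≠ 0 := by
      rw [map_sub, map_pow, hu'', map_one, sub_ne_zero]
      exact hζ₀.pow_ne_one_of_pos_of_lt hl0.ne' hl
    have := ((residue_ne_zero_iff_isUnit _).1 hne).map α
    rw [map_sub, map_pow, h1, map_one, sub_self] at this
    exact not_isUnit_zero this
  refine ⟨fun z hz => ?_, fun ζ hζ => ?_⟩
  · obtain ⟨k, -, hk⟩ := hprim.eq_pow_of_pow_eq_one hz
    refine ⟨rootsOfUnity.mkOfPowEq (u ^ k) (by rw [← pow_mul, mul_comm, pow_mul, hun, one_pow]), ?_⟩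
    rw [rootsOfUnity.coe_mkOfPowEq, map_pow, hk]
  · have hζn : ((ζ : Rˣ) : R) ^ n = 1 := by
      rw [← Units.val_pow_eq_pow_val, (mem_rootsOfUnity n (ζ : Rˣ)).1 ζ.2, Units.val_one]
    refine Subtype.ext (Units.ext (hone _ hζn ?_))
    by_contra hne
    have : residue R (((ζ : Rˣ) : R) - 1) ≠ 0 := by rwa [map_sub, map_one, sub_ne_zero]
    have := ((residue_ne_zero_iff_isUnit _).1 this).map α
    rw [map_sub, hζ, map_one, sub_self] at this
    exact not_isUnit_zero this

section Twist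

variable {R : Type u} [CommRing R] {ι : Type} (a : ι → R) (n : ι → ℕ)

theorem twist_T (ζ : ∀ i, rootsOfUnity (n i) R) (i : ι) :
    SGA1t.kummerTwist R a n ζ (T a n i) = algebraMap R _ (((ζ i : Rˣ) : R)) * T a n i := by
  simp [SGA1t.kummerTwist, T]
  rfl

theorem twist_algebraMap (ζ : ∀ i, rootsOfUnity (n i) R) (x : R) :
    SGA1t.kummerTwist R a n ζ (algebraMap R _ x) = algebraMap R _ x := by
  rw [show algebraMap R (SGA1t.kummer R a n) x = Ideal.Quotient.mk _ (MvPolynomial.C x) from rfl]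
  simp [SGA1t.kummerTwist]

variable (U : (Spec (CommRingCat.of R)).Opens)

/-- The twist as a morphism of the Kummer scheme. -/
noncomputable abbrev twistSpec (ζ : ∀ i, rootsOfUnity (n i) R) :
    Spec (CommRingCat.of (SGA1t.kummer R a n)) ⟶ Spec (CommRingCat.of (SGA1t.kummer R a n)) :=
  Spec.map (CommRingCat.ofHom (SGA1t.kummerTwist R a n ζ))

theorem twistSpec_proj (ζ : ∀ i, rootsOfUnity (n i) R) : twistSpec a n ζ ≫ proj a n = proj a n := by
  rw [← Spec.map_comp, ← CommRingCat.ofHom_comp]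
  congr 2
  ext x
  exact twist_algebraMap a n ζ x

theorem range_ι_twist (ζ : ∀ i, rootsOfUnity (n i) R) :
    Set.range ((proj a n ⁻¹ᵁ U).ι ≫ twistSpec a n ζ) ⊆ Set.range (proj a n ⁻¹ᵁ U).ι := by
  rintro _ ⟨z, rfl⟩
  rw [Scheme.Opens.range_ι]
  show proj a n (((proj a n ⁻¹ᵁ U).ι ≫ twistSpec a n ζ) z) ∈ U
  rw [← Scheme.Hom.comp_apply, Category.assoc, twistSpec_proj, Scheme.Hom.comp_apply]
  exact z.2

/-- The twist on the cover. -/
noncomputable def twistU (ζ : ∀ i, rootsOfUnity (n i) R) :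
    (↑(proj a n ⁻¹ᵁ U) : Scheme.{u}) ⟶ ↑(proj a n ⁻¹ᵁ U) :=
  IsOpenImmersion.lift (proj a n ⁻¹ᵁ U).ι ((proj a n ⁻¹ᵁ U).ι ≫ twistSpec a n ζ) (range_ι_twist a n U ζ)

@[reassoc (attr := simp)]
theorem twistU_ι (ζ : ∀ i, rootsOfUnity (n i) R) :
    twistU a n U ζ ≫ (proj a n ⁻¹ᵁ U).ι = (proj a n ⁻¹ᵁ U).ι ≫ twistSpec a n ζ :=
  IsOpenImmersion.lift_fac _ _ _

@[reassoc]
theorem twistU_restrict (ζ : ∀ i, rootsOfUnity (n i) R) :
    twistU a n U ζ ≫ (proj a n ∣_ U) = proj a n ∣_ U := by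
  rw [← cancel_mono U.ι, Category.assoc, morphismRestrict_ι, twistU_ι_assoc, twistSpec_proj]

theorem twistU_one : twistU a n U 1 = 𝟙 _ := by
  rw [← cancel_mono (proj a n ⁻¹ᵁ U).ι, twistU_ι, Category.id_comp]
  refine (congrArg ((proj a n ⁻¹ᵁ U).ι ≫ ·) ?_).trans (Category.comp_id _)
  rw [← Spec.map_id]
  refine congrArg Spec.map (CommRingCat.hom_ext (hom_ext (fun x => twist_algebraMap a n 1 x) fun i => ?_))
  exact (twist_T a n 1 i).trans (by simp)

theorem twistU_mul (ζ ζ' : ∀ i, rootsOfUnity (n i) R) :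
    twistU a n U (ζ * ζ') = twistU a n U ζ' ≫ twistU a n U ζ := by
  rw [← cancel_mono (proj a n ⁻¹ᵁ U).ι, Category.assoc, twistU_ι, twistU_ι, twistU_ι_assoc]
  refine congrArg ((proj a n ⁻¹ᵁ U).ι ≫ ·) ?_
  rw [← Spec.map_comp]
  refine congrArg Spec.map (CommRingCat.hom_ext (hom_ext (fun x => ?_) fun i => ?_))
  · simp only [CommRingCat.hom_ofHom, CommRingCat.hom_comp, RingHom.comp_apply]
    rw [twist_algebraMap, twist_algebraMap, twist_algebraMap]
  · simp only [CommRingCat.hom_ofHom, CommRingCat.hom_comp, RingHom.comp_apply]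
    rw [twist_T, twist_T, map_mul, twist_algebraMap, twist_T]
    simp [mul_assoc, mul_comm, mul_left_comm]

variable [hF : IsFinite (proj a n ∣_ U)] [hE : Etale (proj a n ∣_ U)]

/-- The action of roots of unity on the cover. -/
noncomputable def twistAut : (∀ i, rootsOfUnity (n i) R) →*
    Aut (MorphismProperty.Over.mk ⊤ (proj a n ∣_ U) ⟨hF, hE⟩ : FEt.Cat (U : Scheme.{u})) where
  toFun ζ :=
    { hom := MorphismProperty.Over.homMk (twistU a n U ζ) (twistU_restrict a n U ζ)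
      inv := MorphismProperty.Over.homMk (twistU a n U ζ⁻¹) (twistU_restrict a n U ζ⁻¹)
      hom_inv_id := by
        ext1; show twistU a n U ζ ≫ twistU a n U ζ⁻¹ = 𝟙 _; rw [← twistU_mul, inv_mul_cancel, twistU_one]
      inv_hom_id := by
        ext1; show twistU a n U ζ⁻¹ ≫ twistU a n U ζ = 𝟙 _; rw [← twistU_mul, mul_inv_cancel, twistU_one] }
  map_one' := Iso.ext (by ext1; exact twistU_one a n U)
  map_mul' ζ ζ' := Iso.ext (by ext1; exact twistU_mul a n U ζ ζ')

end Twist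

open SGA1t in
/-- A connected Kummer cover over a strictly henselian ring is Galois with group the roots of unity. -/
theorem isGaloisCover_twist {R : Type u} [CommRing R] [HenselianLocalRing R] [IsSepClosed (ResidueField R)]
    {ι : Type} (a : ι → R) (n : ι → ℕ) (hn : ∀ i, 1 ≤ n i) (hu : ∀ i, IsUnit (n i : R))
    (U : (Spec (CommRingCat.of R)).Opens) (hUa : ∀ i, U ≤ PrimeSpectrum.basicOpen (a i))
    [hc : ConnectedSpace ↥(proj a n ⁻¹ᵁ U)]
    [hF : IsFinite (proj a n ∣_ U)] [hE : Etale (proj a n ∣_ U)] :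
    PiSp.IsGaloisCover (MorphismProperty.Over.mk ⊤ (proj a n ∣_ U) ⟨hF, hE⟩) ∧
      Function.Bijective (twistAut a n U) := by
  classical
  let Z : FEt.Cat (U : Scheme.{u}) := MorphismProperty.Over.mk ⊤ (proj a n ∣_ U) ⟨hF, hE⟩
  haveI : ConnectedSpace (↑(proj a n ⁻¹ᵁ U) : Scheme.{u}) := hc
  -- transitivity and freeness on geometric points
  have key : ∀ (Ω : Type u) [Field Ω] (s t : Spec (CommRingCat.of Ω) ⟶ (↑(proj a n ⁻¹ᵁ U) : Scheme.{u})),
      s ≫ (proj a n ∣_ U) = t ≫ (proj a n ∣_ U) →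
      ∃! ζ, s ≫ twistU a n U ζ = t := by
    intro Ω _ s t hst
    let β : SGA1t.kummer R a n →+* Ω := (Spec.preimage (s ≫ (proj a n ⁻¹ᵁ U).ι)).hom
    let γ : SGA1t.kummer R a n →+* Ω := (Spec.preimage (t ≫ (proj a n ⁻¹ᵁ U).ι)).hom
    have hγ : ∀ x, γ (algebraMap R _ x) = β (algebraMap R _ x) := by
      intro x
      have e : CommRingCat.ofHom (γ.comp (algebraMap R _)) = CommRingCat.ofHom (β.comp (algebraMap R _)) := by
        apply Spec.map_injective
        show Spec.map (CommRingCat.ofHom (algebraMap R _) ≫ Spec.preimage (t ≫ _)) =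
          Spec.map (CommRingCat.ofHom (algebraMap R _) ≫ Spec.preimage (s ≫ _))
        rw [Spec.map_comp, Spec.map_comp, Spec.map_preimage, Spec.map_preimage]
        show (t ≫ _) ≫ proj a n = (s ≫ _) ≫ proj a n
        rw [Category.assoc, Category.assoc, ← morphismRestrict_ι, ← Category.assoc, ← Category.assoc, hst]
      exact congr($e x)
    let α : R →+* Ω := β.comp (algebraMap R _)
    have hα : ∀ i, α (a i) ≠ 0 := by
      intro i h0
      have hz : proj a n ((proj a n ⁻¹ᵁ U).ι (s (IsLocalRing.closedPoint Ω))) ∈ U :=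
        (s (IsLocalRing.closedPoint Ω)).2
      have hz2 := hUa i hz
      rw [← Scheme.Hom.comp_apply s, ← Spec.map_preimage (s ≫ (proj a n ⁻¹ᵁ U).ι)] at hz2
      exact hz2 (by
        show α (a i) ∈ IsLocalRing.maximalIdeal Ω
        rw [h0]; exact zero_mem _)
    have hβ : ∀ i, β (T a n i) ≠ 0 := fun i h0 => hα i (by
      show β (algebraMap R _ (a i)) = 0
      rw [← T_pow, map_pow, h0, zero_pow (by have := hn i; omega)])
    have hex : ∀ i, ∃ ζ : rootsOfUnity (n i) R, α ((ζ : Rˣ) : R) = γ (T a n i) / β (T a n i) := fun i =>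
      (roots_of_unity_lift R (hn i) (hu i) α).1 _ (by
        rw [div_pow, ← map_pow, ← map_pow, T_pow, hγ]
        exact div_self (hα i))
    choose ζ hζ using hex
    have hiff : ∀ η, s ≫ twistU a n U η = t ↔ ∀ i, α ((η i : Rˣ) : R) * β (T a n i) = γ (T a n i) := by
      intro η
      rw [← cancel_mono (proj a n ⁻¹ᵁ U).ι, Category.assoc, twistU_ι, ← Category.assoc,
        ← Spec.map_preimage (s ≫ (proj a n ⁻¹ᵁ U).ι), ← Spec.map_preimage (t ≫ (proj a n ⁻¹ᵁ U).ι), ← Spec.map_comp]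
      constructor
      · intro h i
        have h' : β (SGA1t.kummerTwist R a n η (T a n i)) = γ (T a n i) := congr($(Spec.map_injective h) (T a n i))
        rwa [twist_T, map_mul] at h'
      · intro h
        refine congrArg Spec.map (CommRingCat.hom_ext (hom_ext (fun x => ?_) fun i => ?_))
        · show β (SGA1t.kummerTwist R a n η _) = γ _
          rw [twist_algebraMap, hγ]
        · show β (SGA1t.kummerTwist R a n η _) = γ _
          rw [twist_T, map_mul]
          exact h i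
    refine ⟨ζ, (hiff ζ).2 fun i => by rw [hζ, div_mul_cancel₀ _ (hβ i)], fun η hη => funext fun i => ?_⟩
    have h1 := (hiff η).1 hη i
    have h2 : α ((ζ i : Rˣ) : R) * β (T a n i) = γ (T a n i) := by rw [hζ, div_mul_cancel₀ _ (hβ i)]
    have h3 : α ((η i : Rˣ) : R) = α ((ζ i : Rˣ) : R) := mul_right_cancel₀ (hβ i) (h1.trans h2.symm)
    refine eq_of_div_eq_one (α := rootsOfUnity (n i) R) ((roots_of_unity_lift R (hn i) (hu i) α).2 _ ?_)
    have : α (((η i / ζ i : rootsOfUnity (n i) R) : Rˣ) : R) * α ((ζ i : Rˣ) : R) = α ((η i : Rˣ) : R) := by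
      rw [← map_mul, ← Units.val_mul, ← Subgroup.coe_mul, div_mul_cancel]
    rw [h3] at this
    exact mul_eq_right₀ ((ζ i : Rˣ).isUnit.map α).ne_zero |>.1 this
  refine ⟨⟨hc, fun Ω _ _ ξ s t => ?_⟩, ⟨fun ζ ζ' h => ?_, fun σ => ?_⟩⟩
  · obtain ⟨ζ, hζ, -⟩ := key Ω s.1 t.1 (s.2.trans t.2.symm)
    exact ⟨twistAut a n U ζ, Subtype.ext hζ⟩
  · obtain ⟨z⟩ := (inferInstance : Nonempty (↑(proj a n ⁻¹ᵁ U) : Scheme.{u}))
    let s := (↑(proj a n ⁻¹ᵁ U) : Scheme.{u}).fromSpecResidueField z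
    have h' : twistU a n U ζ = twistU a n U ζ' := congrArg (fun σ : Aut Z => σ.hom.left) h
    exact (key _ s (s ≫ twistU a n U ζ) (by rw [Category.assoc, twistU_restrict])).unique rfl
      (congrArg (s ≫ ·) h'.symm)
  · obtain ⟨z⟩ := (inferInstance : Nonempty (↑(proj a n ⁻¹ᵁ U) : Scheme.{u}))
    let s := (↑(proj a n ⁻¹ᵁ U) : Scheme.{u}).fromSpecResidueField z
    have hσ : σ.hom.left ≫ (proj a n ∣_ U) = proj a n ∣_ U := Over.w σ.hom.hom
    obtain ⟨ζ, hζ, -⟩ := key _ s (s ≫ σ.hom.left) (by rw [Category.assoc]; exact (congrArg (s ≫ ·) hσ).symm)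
    refine ⟨ζ, Iso.ext ?_⟩
    ext1
    exact eq_of_agree (Y := (↑(proj a n ⁻¹ᵁ U) : Scheme.{u})) (proj a n ∣_ U) (twistU a n U ζ) σ.hom.left
      ((twistU_restrict a n U ζ).trans hσ.symm) s hζ

end Groth.Pi1Tame.KR
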