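import Groth.Agent.Cycles.StalkPrimes
import Groth.Agent.Misc3Ram.GaloisCoverResidue
import Groth.Agent.Misc3Ram.GaloisTame
import Mathlib.RingTheory.RootsOfUnity.PrimitiveRoots

/-!
# Tame residue field extensions: torsors and Kummer extensions
-/

set_option autoImplicit false
set_option linter.style.haveILetI false
universe u

open CategoryTheory AlgebraicGeometry IsLocalRing

namespace Groth.Pi1Tame

/-- The residue field of a proper generization of a point with a DVR as local ring is its fraction field. -/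
theorem isFractionRing_residueField {X : Scheme.{u}} {u y : X} (h : u ⤳ y) (hne : u ≠ y)
    [IsDomain (X.presheaf.stalk y)] [IsDiscreteValuationRing (X.presheaf.stalk y)] :
    letI := ((X.residue u).hom.comp (X.presheaf.stalkSpecializes h).hom).toAlgebra
    IsFractionRing (X.presheaf.stalk y) (X.residueField u) := by
  have hp : (Groth.Cycles.genPrime h).asIdeal = ⊥ := by
    by_contra hb
    have hmax : (Groth.Cycles.genPrime h).asIdeal.IsMaximal :=
      Ideal.IsPrime.isMaximal inferInstance hb
    have hcp : Groth.Cycles.genPrime h = closedPoint _ := PrimeSpectrum.ext (eq_maximalIdeal hmax)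
    refine hne ?_
    rw [← Groth.Cycles.fromSpecStalk_genPrime h, hcp]
    exact Scheme.fromSpecStalk_closedPoint
  letI := (X.presheaf.stalkSpecializes h).hom.toAlgebra
  haveI hloc : IsFractionRing (X.presheaf.stalk y) (X.presheaf.stalk u) := by
    have h1 := Groth.Cycles.isLocalization_stalkSpecializes h
    simp only [IsLocalization.AtPrime, hp, Ideal.primeCompl_bot] at h1
    exact h1
  have hbij : Function.Bijective (X.residue u).hom := by
    have hF : IsField (X.presheaf.stalk u) := (IsFractionRing.toField (X.presheaf.stalk y) (K := X.presheaf.stalk u)).toIsField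
    letI := hF.toField
    exact ⟨(X.residue u).hom.injective, IsLocalRing.residue_surjective⟩
  letI a2 := ((X.residue u).hom.comp (X.presheaf.stalkSpecializes h).hom).toAlgebra
  exact IsLocalization.isLocalization_of_algEquiv (nonZeroDivisors (X.presheaf.stalk y))
    (S := X.presheaf.stalk u) (P := X.residueField u)
    (AlgEquiv.ofBijective { toRingHom := (X.residue u).hom, commutes' := fun _ => rfl } hbij)

/-- Residue extension at a point of a scheme with a group of automorphisms over the base which is transitive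
on geometric fibres. -/
theorem galois_residueField_of_action {X Z : Scheme.{u}} (pr : Z ⟶ X) [Etale pr] {G : Type*}
    [Group G] [Finite G] (ρ : G →* Aut (Over.mk pr))
    (htrans : ∀ (Ω : Type u) [Field Ω] [IsAlgClosed Ω] (t t' : Spec (CommRingCat.of Ω) ⟶ Z),
      t ≫ pr = t' ≫ pr → ∃ g : G, t ≫ (ρ g).hom.left = t') (z : Z) :
    letI := (pr.residueFieldMap z).hom.toAlgebra
    Module.Finite (X.residueField (pr z)) (Z.residueField z) ∧
      IsGalois (X.residueField (pr z)) (Z.residueField z) ∧
      Module.finrank (X.residueField (pr z)) (Z.residueField z) ∣ Nat.card G := by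
  classical
  let K := X.residueField (pr z)
  let L := Z.residueField z
  letI : Algebra K L := (pr.residueFieldMap z).hom.toAlgebra
  haveI : Algebra.IsSeparable K L := inferInstanceAs (Algebra.IsSeparable (X.residueField (pr z)) (Z.residueField z))
  haveI : Module.Finite K L := Groth.Misc3Ram.finite_residueFieldMap' pr z
  let s0 := Z.fromSpecResidueField z
  have hs0 : s0 ≫ pr = Spec.map (pr.residueFieldMap z) ≫ X.fromSpecResidueField _ :=
    (Scheme.Hom.SpecMap_residueFieldMap_fromSpecResidueField pr z).symm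
  let Ω := AlgebraicClosure L
  let ι : CommRingCat.of L ⟶ CommRingCat.of Ω := CommRingCat.ofHom (algebraMap L Ω)
  let D : Subgroup G :=
    { carrier := {σ | (ρ σ).hom.left z = z}
      one_mem' := by show (ρ 1).hom.left z = z; rw [map_one]; rfl
      mul_mem' := fun {σ τ} hσ hτ => by
        show (ρ (σ * τ)).hom.left z = z
        rw [map_mul]
        show ((ρ τ).hom ≫ (ρ σ).hom).left z = z
        rw [Over.comp_left, Scheme.Hom.comp_apply, hτ, hσ]
      inv_mem' := fun {σ} hσ => by
        show (ρ σ⁻¹).hom.left z = z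
        rw [map_inv]
        show (ρ σ).inv.left z = z
        conv_lhs => rw [← hσ]
        rw [← Scheme.Hom.comp_apply, ← Over.comp_left, (ρ σ).hom_inv_id]
        simp }
  have hex : ∀ σ : D, ∃ φ : L ≃ₐ[K] L,
      Spec.map (CommRingCat.ofHom φ.toAlgHom.toRingHom) ≫ s0 = s0 ≫ (ρ σ.1).hom.left := by
    intro σ
    obtain ⟨φ, hφ⟩ := Groth.Misc3Ram.exists_factor (Z := Z) (L := L) (s0 ≫ (ρ σ.1).hom.left) z (by
      rw [Scheme.Hom.comp_apply, Scheme.fromSpecResidueField_apply]; exact σ.2)
    have hK : pr.residueFieldMap z ≫ φ = pr.residueFieldMap z := by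
      apply Spec.map_injective
      rw [Spec.map_comp, ← cancel_mono (X.fromSpecResidueField (pr z)), Category.assoc]
      refine (congrArg (Spec.map φ ≫ ·) hs0.symm).trans (Eq.trans ?_ hs0)
      rw [← Category.assoc, hφ, Category.assoc]
      exact congrArg (s0 ≫ ·) (Over.w (ρ σ.1).hom)
    let f : L →ₐ[K] L := { φ.hom with commutes' := fun a => congrArg (fun ψ => ψ.hom a) hK }
    exact ⟨AlgEquiv.ofBijective f (Algebra.IsAlgebraic.algHom_bijective f), hφ⟩
  choose φ hφ using hex
  have huniq : ∀ (σ : D) (e : L ≃ₐ[K] L),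
      Spec.map (CommRingCat.ofHom e.toAlgHom.toRingHom) ≫ s0 = s0 ≫ (ρ σ.1).hom.left → φ σ = e := by
    intro σ e he
    have h := congrArg (fun ψ : L ⟶ L => ψ.hom)
      (Spec.map_injective ((cancel_mono s0).1 ((hφ σ).trans he.symm)))
    exact AlgEquiv.ext fun a => DFunLike.congr_fun h a
  let ψ : D →* (L ≃ₐ[K] L) := MonoidHom.mk' (fun σ => φ σ⁻¹) fun σ τ => by
    refine huniq _ _ ?_
    show Spec.map (CommRingCat.ofHom (((φ σ⁻¹).toAlgHom.toRingHom).comp ((φ τ⁻¹).toAlgHom.toRingHom))) ≫ s0 = _
    rw [CommRingCat.ofHom_comp, Spec.map_comp, Category.assoc, hφ, ← Category.assoc, hφ, Category.assoc,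
      show ((σ * τ)⁻¹).1 = (τ⁻¹).1 * (σ⁻¹).1 by rw [mul_inv_rev]; rfl, map_mul]
    rfl
  have hexτ : ∀ τ : L →ₐ[K] Ω, ∃ σ : D, (IsScalarTower.toAlgHom K L Ω).comp (φ σ).toAlgHom = τ := by
    intro τ
    let t : Spec (CommRingCat.of Ω) ⟶ Z := Spec.map (CommRingCat.ofHom τ.toRingHom) ≫ s0
    have ht : (Spec.map ι ≫ s0) ≫ pr = t ≫ pr := by
      show (Spec.map ι ≫ s0) ≫ pr = (Spec.map _ ≫ s0) ≫ pr
      rw [Category.assoc, Category.assoc, hs0, ← Category.assoc, ← Category.assoc, ← Spec.map_comp,
        ← Spec.map_comp]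
      congr 2
      ext a
      exact ((τ.commutes a).trans (IsScalarTower.algebraMap_apply K L Ω a)).symm
    obtain ⟨σ, hσ⟩ := htrans Ω (Spec.map ι ≫ s0) t ht
    have hz : (ρ σ).hom.left z = z := by
      have h := congrArg (fun f => f (IsLocalRing.closedPoint Ω)) hσ
      simp only [t, Scheme.Hom.comp_apply, s0] at h
      erw [Scheme.fromSpecResidueField_apply, Scheme.fromSpecResidueField_apply] at h
      exact h
    refine ⟨⟨σ, hz⟩, ?_⟩
    have h : CommRingCat.ofHom ((φ ⟨σ, hz⟩).toAlgHom.toRingHom) ≫ ι = CommRingCat.ofHom τ.toRingHom := by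
      apply Spec.map_injective
      rw [Spec.map_comp, ← cancel_mono s0, Category.assoc, hφ, ← Category.assoc]
      exact hσ
    exact AlgHom.ext fun a => congrArg (fun f => f.hom a) h
  have hemb : Function.Surjective fun g : L ≃ₐ[K] L => (IsScalarTower.toAlgHom K L Ω).comp g.toAlgHom :=
    fun τ => let ⟨σ, hσ⟩ := hexτ τ; ⟨φ σ, hσ⟩
  have hcard : Nat.card (L →ₐ[K] Ω) = Module.finrank K L := by
    rw [Nat.card_eq_fintype_card, AlgHom.card]
  haveI : IsGalois K L := by
    refine IsGalois.of_card_aut_eq_finrank K L (le_antisymm ?_ ?_)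
    · rw [Nat.card_eq_fintype_card]; exact AlgEquiv.card_le
    · exact hcard ▸ Nat.card_le_card_of_surjective _ hemb
  refine ⟨inferInstance, inferInstance, ?_⟩
  rw [← IsGalois.card_aut_eq_finrank]
  have hψ : Function.Surjective ψ := fun g => by
    obtain ⟨σ, hσ⟩ := hexτ ((IsScalarTower.toAlgHom K L Ω).comp g.toAlgHom)
    refine ⟨σ⁻¹, (congrArg φ (inv_inv _)).trans (AlgEquiv.ext fun a => (algebraMap L Ω).injective ?_)⟩
    exact DFunLike.congr_fun hσ a
  exact (Subgroup.card_dvd_of_surjective ψ hψ).trans (Subgroup.card_subgroup_dvd_card D)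

/-- A field generated by radicals of exponents `n_i` over a field with enough roots of unity. -/
theorem isGalois_of_roots (K L : Type u) [Field K] [Field L] [Algebra K L] {ι : Type} [Fintype ι]
    (n : ι → ℕ) (y : ι → L) (c : ι → K) (hn : ∀ i, (n i : K) ≠ 0) (hc : ∀ i, c i ≠ 0)
    (hy : ∀ i, y i ^ n i = algebraMap K L (c i)) (hgen : IntermediateField.adjoin K (Set.range y) = ⊤)
    (hμ : ∀ i, ∃ ζ : K, IsPrimitiveRoot ζ (n i)) :
    FiniteDimensional K L ∧ IsGalois K L ∧ Module.finrank K L ∣ ∏ i, n i := by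
  classical
  have hn0 : ∀ i, 0 < n i := fun i => Nat.pos_of_ne_zero fun h => hn i (by simp [h])
  haveI : ∀ i, NeZero (n i) := fun i => ⟨(hn0 i).ne'⟩
  have hy0 : ∀ i, y i ≠ 0 := fun i h => by
    have := hy i
    rw [h, zero_pow (hn0 i).ne'] at this
    exact hc i ((algebraMap K L).injective (this.symm.trans (map_zero _).symm))
  have hsep : ∀ i, IsSeparable K (y i) := fun i =>
    (Polynomial.separable_X_pow_sub_C (c i) (hn i) (hc i)).of_dvd (minpoly.dvd K _ (by simp [hy i]))
  haveI hfin : FiniteDimensional K L := by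
    have h : FiniteDimensional K (IntermediateField.adjoin K (Set.range y)) :=
      IntermediateField.finiteDimensional_adjoin (by rintro _ ⟨i, rfl⟩; exact (hsep i).isIntegral)
    rw [hgen] at h
    exact Module.Finite.equiv (IntermediateField.topEquiv (F := K) (E := L)).toLinearEquiv
  haveI : Algebra.IsSeparable K L := by
    have h : Algebra.IsSeparable K (IntermediateField.adjoin K (Set.range y)) :=
      (IntermediateField.isSeparable_adjoin_iff_isSeparable (F := K) (E := L)).2 (by rintro _ ⟨i, rfl⟩; exact hsep i)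
    rw [hgen] at h
    exact AlgEquiv.Algebra.isSeparable IntermediateField.topEquiv
  let Ω := AlgebraicClosure L
  -- every embedding moves `y i` by a root of unity of `K`
  have hmove : ∀ (E : Type u) [Field E] [Algebra K E] (j τ : L →ₐ[K] E) (i : ι),
      ∃ ζ : rootsOfUnity (n i) K, τ (y i) = algebraMap K E ((ζ : Kˣ) : K) * j (y i) := by
    intro E _ _ j τ i
    obtain ⟨ζ, hζ⟩ := hμ i
    have hj0 : j (y i) ≠ 0 := by simpa using hy0 i
    have h1 : (τ (y i) / j (y i)) ^ n i = 1 := by
      rw [div_pow, ← map_pow, ← map_pow, hy, AlgHom.commutes, AlgHom.commutes, div_self]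
      simpa using hc i
    obtain ⟨k, -, hk⟩ := (hζ.map_of_injective (algebraMap K E).injective).eq_pow_of_pow_eq_one h1
    refine ⟨rootsOfUnity.mkOfPowEq (ζ ^ k) (by rw [← pow_mul, mul_comm, pow_mul, hζ.pow_eq_one, one_pow]), ?_⟩
    rw [rootsOfUnity.coe_mkOfPowEq, map_pow, hk, div_mul_cancel₀ _ hj0]
  have hext : ∀ (E : Type u) [Field E] [Algebra K E] (f g : L →ₐ[K] E), (∀ i, f (y i) = g (y i)) → f = g := by
    intro E _ _ f g hfg
    refine AlgHom.ext fun x => ?_
    have hx : x ∈ IntermediateField.adjoin K (Set.range y) := hgen ▸ trivial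
    induction hx using IntermediateField.adjoin_induction with
    | mem x hx => obtain ⟨i, rfl⟩ := hx; exact hfg i
    | algebraMap a => rw [f.commutes, g.commutes]
    | add a b _ _ ha hb => rw [map_add, map_add, ha, hb]
    | mul a b _ _ ha hb => rw [map_mul, map_mul, ha, hb]
    | inv a _ ha => rw [map_inv₀, map_inv₀, ha]
  haveI : Normal K L := by
    refine normal_iff.2 fun x => ⟨Algebra.IsIntegral.isIntegral x, ?_⟩
    refine Polynomial.Splits.of_splits_map (algebraMap L Ω) ?_ ?_
    · rw [Polynomial.map_map]; exact IsAlgClosed.splits _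
    · intro a ha
      obtain ⟨τ, hτ⟩ : ∃ τ : L →ₐ[K] Ω, τ x = a := by
        refine IntermediateField.exists_algHom_of_splits_of_aeval
          (fun s => ⟨Algebra.IsIntegral.isIntegral s, IsAlgClosed.splits _⟩) ?_
        rw [Polynomial.map_map, ← IsScalarTower.algebraMap_eq] at ha
        have h2 := Polynomial.isRoot_of_mem_roots ha
        rw [Polynomial.IsRoot, Polynomial.eval_map] at h2
        exact h2
      let R₀ := (IsScalarTower.toAlgHom K L Ω).fieldRange
      have hR : ∀ z : L, τ z ∈ R₀ := fun z => by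
        have hz : z ∈ IntermediateField.adjoin K (Set.range y) := hgen ▸ trivial
        induction hz using IntermediateField.adjoin_induction with
        | mem z hz =>
          obtain ⟨i, rfl⟩ := hz
          obtain ⟨ζ, hζ⟩ := hmove Ω (IsScalarTower.toAlgHom K L Ω) τ i
          rw [hζ]
          exact mul_mem (R₀.algebraMap_mem _) ⟨y i, rfl⟩
        | algebraMap a => rw [τ.commutes]; exact R₀.algebraMap_mem _
        | add a b _ _ ha hb => rw [map_add]; exact add_mem ha hb
        | mul a b _ _ ha hb => rw [map_mul]; exact mul_mem ha hb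
        | inv a _ ha => rw [map_inv₀]; exact inv_mem ha
      exact hτ ▸ hR x
  haveI : IsGalois K L := ⟨⟩
  refine ⟨inferInstance, inferInstance, ?_⟩
  rw [← IsGalois.card_aut_eq_finrank]
  choose χ hχ using fun (g : L ≃ₐ[K] L) (i : ι) => hmove L (AlgHom.id K L) g.toAlgHom i
  let Φ : (L ≃ₐ[K] L) →* (∀ i, rootsOfUnity (n i) K) := MonoidHom.mk' χ fun g g' => funext fun i => by
    refine Subtype.ext (Units.ext ((algebraMap K L).injective (mul_right_cancel₀ (hy0 i) ?_)))
    have h1 := hχ (g * g') i
    have h2 := hχ g i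
    have h3 := hχ g' i
    simp only [AlgEquiv.toAlgHom_apply, AlgHom.id_apply, AlgEquiv.mul_apply] at h1 h2 h3
    rw [h3, map_mul, g.commutes, h2] at h1
    rw [← h1]
    simp [mul_comm, mul_left_comm]
  have hΦ : Function.Injective Φ := fun g g' h => by
    refine AlgEquiv.coe_toAlgHom_injective (hext L _ _ fun i => ?_)
    show g.toAlgHom (y i) = g'.toAlgHom (y i)
    rw [hχ g i, hχ g' i]
    have : χ g = χ g' := h
    rw [this]
  refine (Subgroup.card_dvd_of_injective Φ hΦ).trans ?_
  rw [Nat.card_pi]
  exact dvd_of_eq (Finset.prod_congr rfl fun i _ => by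
    obtain ⟨ζ, hζ⟩ := hμ i
    rw [hζ.card_rootsOfUnity])

end Groth.Pi1Tame
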