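import Groth.Agent.Pi1Tame.KummerRing
import Groth.Agent.Pi1Tame.TameRes
import Mathlib.AlgebraicGeometry.Restrict
import Mathlib.RingTheory.RootsOfUnity.AlgebraicallyClosed

/-!
# The Kummer cover over the complement of the divisor: finite, étale, connected, tamely ramified
-/

set_option autoImplicit false
set_option linter.style.haveILetI false
universe u

open CategoryTheory CategoryTheory.Limits AlgebraicGeometry

namespace Groth.Pi1Tame.KR

variable {R : Type u} [CommRing R] {ι : Type} {a : ι → R} {n : ι → ℕ}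

/-- The complement of a divisor given by functions on an affine scheme. -/
theorem compl_eq_basicOpen {r : ℕ} (b : Fin r → R) (φ : Fin r → Γ(Spec (CommRingCat.of R), ⊤))
    (hφ : ∀ i, φ i = (Scheme.ΓSpecIso (CommRingCat.of R)).inv (b i)) :
    SGA1t.compl φ = PrimeSpectrum.basicOpen (∏ i, b i) := by
  rw [← basicOpen_eq_of_affine (R := CommRingCat.of R), map_prod]
  simp [SGA1t.compl, hφ]

/-- A product over `Fin r` of elements that are units outside a subset. -/
theorem exists_prod_eq {r : ℕ} (b : Fin r → R) (P : Fin r → Prop) (h : ∀ i, ¬ P i → IsUnit (b i)) :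
    ∃ (w : R) (l : List {i // P i}), IsUnit w ∧ (∀ i, i ∈ l) ∧
      ∏ i, b i = w * (l.map fun i => b i.1).prod := by
  classical
  refine ⟨∏ i ∈ Finset.univ.filter (fun i => ¬ P i), b i, (Finset.univ : Finset {i // P i}).toList,
    IsUnit.prod_iff.2 fun i hi => h i (Finset.mem_filter.1 hi).2, fun i => by simp, ?_⟩
  rw [Finset.prod_map_toList, ← Finset.prod_subtype (Finset.univ.filter P) (by simp) b, mul_comm,
    Finset.prod_filter_mul_prod_filter_not]

variable (a n) in
/-- The structure map of the Kummer scheme. -/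
noncomputable abbrev proj : Spec (CommRingCat.of (SGA1t.kummer R a n)) ⟶ Spec (CommRingCat.of R) :=
  Spec.map (CommRingCat.ofHom (algebraMap R (SGA1t.kummer R a n)))

theorem preimage_proj (g : R) :
    proj a n ⁻¹ᵁ (PrimeSpectrum.basicOpen g) = PrimeSpectrum.basicOpen (algebraMap R (SGA1t.kummer R a n) g) := rfl

theorem isFinite_restrict [Finite ι] (hn : ∀ i, 1 ≤ n i) (U : (Spec (CommRingCat.of R)).Opens) :
    IsFinite (proj a n ∣_ U) := by
  haveI : IsFinite (proj a n) := (IsFinite.SpecMap_iff _).2 (RingHom.finite_algebraMap.2 (module_finite hn))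
  exact MorphismProperty.of_isPullback (isPullback_morphismRestrict (proj a n) U).flip inferInstance

theorem etale_restrict [Finite ι] (hn : ∀ i, 1 ≤ n i) (hu : ∀ i, IsUnit (n i : R)) (g : R)
    (hg : ∀ i, a i ∣ g) (U : (Spec (CommRingCat.of R)).Opens) (hU : U = PrimeSpectrum.basicOpen g) :
    Etale (proj a n ∣_ U) := by
  subst hU
  let g' := algebraMap R (SGA1t.kummer R a n) g
  haveI := etale_away (a := a) hn g fun i => Or.inr ⟨hg i, hu i⟩
  have h1 : Etale (Spec.map (CommRingCat.ofHom (algebraMap R (Localization.Away g')))) :=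
    (HasRingHomProperty.Spec_iff (P := @Etale)).2 (RingHom.etale_algebraMap.2 inferInstance)
  let j := basicOpenIsoSpecAway (R := CommRingCat.of (SGA1t.kummer R a n)) g'
  have h2 : j.hom ≫ Spec.map (CommRingCat.ofHom (algebraMap R (Localization.Away g'))) =
      (proj a n ∣_ (PrimeSpectrum.basicOpen g)) ≫ Scheme.Opens.ι (X := Spec (CommRingCat.of R)) (PrimeSpectrum.basicOpen g) := by
    rw [morphismRestrict_ι, IsScalarTower.algebraMap_eq R (SGA1t.kummer R a n) (Localization.Away g'),
      CommRingCat.ofHom_comp, Spec.map_comp, ← Category.assoc]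
    exact congrArg (· ≫ proj a n) (basicOpenIsoSpecAway_hom_SpecMap (R := CommRingCat.of (SGA1t.kummer R a n)) g')
  haveI : Etale ((proj a n ∣_ (PrimeSpectrum.basicOpen g)) ≫
      Scheme.Opens.ι (X := Spec (CommRingCat.of R)) (PrimeSpectrum.basicOpen g)) := by
    rw [← h2]; exact MorphismProperty.comp_mem _ _ _ (inferInstanceAs (Etale j.hom)) h1
  exact Etale.of_comp _ (Scheme.Opens.ι (X := Spec (CommRingCat.of R)) (PrimeSpectrum.basicOpen g))

theorem connectedSpace_preimage [Finite ι] [IsLocalRing R] (hn : ∀ i, 1 ≤ n i) (hu : ∀ i, IsUnit (n i : R))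
    (ha : ∀ i, a i ∈ IsLocalRing.maximalIdeal R) {N : Ideal R} (hd : SncData R a N) (g : R)
    (hg : ∃ (w : R) (l : List ι), IsUnit w ∧ g = w * (l.map a).prod)
    (U : (Spec (CommRingCat.of R)).Opens) (hU : U = PrimeSpectrum.basicOpen g) :
    ConnectedSpace ↥(proj a n ⁻¹ᵁ U) := by
  subst hU
  have := connectedSpace hn hu ha hd g hg
  let j := basicOpenIsoSpecAway (R := CommRingCat.of (SGA1t.kummer R a n)) (algebraMap R (SGA1t.kummer R a n) g)
  haveI : ConnectedSpace ↥(Spec (CommRingCat.of (Localization.Away (algebraMap R (SGA1t.kummer R a n) g)))) := this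
  exact j.inv.homeomorph.surjective.connectedSpace j.inv.homeomorph.continuous

open SGA1t in
/-- Kummer covers are tamely ramified along the divisor. -/
theorem relTame_kummer [Finite ι] {S : Scheme.{u}} (h : Spec (CommRingCat.of R) ⟶ S) {r : ℕ}
    (φ₁ : Fin r → Γ(Spec (CommRingCat.of R), ⊤)) (hu : ∀ i, IsUnit (n i : R))
    (ha : ∀ i, SGA1t.compl φ₁ ≤ PrimeSpectrum.basicOpen (a i))
    [hF : IsFinite (proj a n ∣_ SGA1t.compl φ₁)] [hE : Etale (proj a n ∣_ SGA1t.compl φ₁)] :
    SGA1t.IsRelTame h φ₁ (MorphismProperty.Over.mk ⊤ (proj a n ∣_ SGA1t.compl φ₁) ⟨hF, hE⟩) := by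
  cases nonempty_fintype ι
  intro Ω _ _ σ _ y _ hy w hw hne
  haveI := hy
  let U := SGA1t.compl φ₁
  let pr := pullback.snd ((proj a n ∣_ U) ≫ U.ι) (pullback.fst h σ)
  let u := pr w
  let K := (pullback h σ).residueField u
  let L := (pullback ((proj a n ∣_ U) ≫ U.ι) (pullback.fst h σ)).residueField w
  letI : Algebra K L := (pr.residueFieldMap w).hom.toAlgebra
  let sw := (pullback ((proj a n ∣_ U) ≫ U.ι) (pullback.fst h σ)).fromSpecResidueField w
  let su := (pullback h σ).fromSpecResidueField u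
  have hsw : sw ≫ pr = Spec.map (pr.residueFieldMap w) ≫ su :=
    (Scheme.Hom.SpecMap_residueFieldMap_fromSpecResidueField pr w).symm
  let β : SGA1t.kummer R a n →+* L := (Spec.preimage (sw ≫ pullback.fst _ _ ≫ (proj a n ⁻¹ᵁ U).ι)).hom
  let α : R →+* K := (Spec.preimage (su ≫ pullback.fst h σ)).hom
  have hcomp : ∀ x, β (algebraMap R _ x) = algebraMap K L (α x) := by
    intro x
    have e : CommRingCat.ofHom ((algebraMap K L).comp α) =
        CommRingCat.ofHom (algebraMap R (SGA1t.kummer R a n)) ≫ CommRingCat.ofHom β := by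
      apply Spec.map_injective
      rw [Spec.map_comp]
      show Spec.map (Spec.preimage (su ≫ pullback.fst h σ) ≫ pr.residueFieldMap w) = _
      rw [Spec.map_comp, Spec.map_preimage, ← Category.assoc, ← hsw]
      show _ = Spec.map (Spec.preimage (sw ≫ pullback.fst _ _ ≫ (proj a n ⁻¹ᵁ U).ι)) ≫ proj a n
      rw [Spec.map_preimage]
      simp only [Category.assoc, ← morphismRestrict_ι]
      rw [pullback.condition]
    exact (congr($e x)).symm
  let yL : ι → L := fun i => β (T a n i)
  let c : ι → K := fun i => α (a i)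
  have hy' : ∀ i, yL i ^ n i = algebraMap K L (c i) := fun i => by
    rw [← map_pow, T_pow, hcomp]
  have hn' : ∀ i, (n i : K) ≠ 0 := fun i => by simpa using ((hu i).map α).ne_zero
  have hcU : su ≫ pullback.fst h σ = Spec.map (CommRingCat.ofHom α) := (Spec.map_preimage _).symm
  have hc : ∀ i, c i ≠ 0 := by
    intro i h0
    have hz : pullback.fst h σ u ∈ U := by
      show pullback.fst h σ (pr w) ∈ U
      rw [← Scheme.Hom.comp_apply, ← pullback.condition, Scheme.Hom.comp_apply, Scheme.Hom.comp_apply]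
      exact ((proj a n ∣_ U) _).2
    have hz2 : a i ∉ (pullback.fst h σ u).asIdeal := ha i hz
    refine hz2 ?_
    have : pullback.fst h σ u = Spec.map (CommRingCat.ofHom α) (IsLocalRing.closedPoint K) := by
      rw [← hcU, Scheme.Hom.comp_apply]
      exact congrArg (pullback.fst h σ) ((pullback h σ).fromSpecResidueField_apply u _).symm
    rw [this]
    show α (a i) ∈ IsLocalRing.maximalIdeal K
    rw [show α (a i) = 0 from h0]
    exact zero_mem _
  let ωK : Ω →+* K := (Spec.preimage (su ≫ pullback.snd h σ)).hom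
  have hμ : ∀ i, ∃ ζ : K, IsPrimitiveRoot ζ (n i) := fun i => by
    haveI : NeZero (n i : Ω) := ⟨fun h0 => hn' i (by rw [← map_natCast ωK, h0, map_zero])⟩
    obtain ⟨ζ, hζ⟩ := HasEnoughRootsOfUnity.exists_primitiveRoot Ω (n i)
    exact ⟨ωK ζ, hζ.map_of_injective ωK.injective⟩
  have hgen : IntermediateField.adjoin K (Set.range yL) = ⊤ := by
    let L₀ := IntermediateField.adjoin K (Set.range yL)
    let y₀ : ι → L₀ := fun i => ⟨yL i, IntermediateField.subset_adjoin K _ ⟨i, rfl⟩⟩
    let β₀ : SGA1t.kummer R a n →+* L₀ := lift ((algebraMap K L₀).comp α) y₀ fun i => Subtype.ext (hy' i)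
    let j : CommRingCat.of L₀ ⟶ CommRingCat.of L := CommRingCat.ofHom L₀.val.toRingHom
    have hβ : (L₀.val.toRingHom).comp β₀ = β :=
      hom_ext (fun x => by show L₀.val (β₀ _) = _; rw [lift_algebraMap]; exact (hcomp x).symm)
        fun i => by show L₀.val (β₀ _) = _; rw [lift_T]; rfl
    have hj : Spec.map j ≫ Spec.map (CommRingCat.ofHom β₀) = sw ≫ pullback.fst _ _ ≫ (proj a n ⁻¹ᵁ U).ι := by
      rw [← Spec.map_comp, ← CommRingCat.ofHom_comp, hβ]
      exact Spec.map_preimage _
    have hrange : Set.range (Spec.map (CommRingCat.ofHom β₀)) ⊆ Set.range (proj a n ⁻¹ᵁ U).ι := by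
      rintro _ ⟨z, rfl⟩
      obtain rfl : Spec.map j (IsLocalRing.closedPoint L) = z := Subsingleton.elim (α := PrimeSpectrum L₀) _ _
      exact ⟨_, (congrArg (fun m => m (IsLocalRing.closedPoint L)) hj).symm⟩
    let q₁ := IsOpenImmersion.lift (proj a n ⁻¹ᵁ U).ι (Spec.map (CommRingCat.ofHom β₀)) hrange
    have hq₁ : q₁ ≫ (proj a n ⁻¹ᵁ U).ι = Spec.map (CommRingCat.ofHom β₀) := IsOpenImmersion.lift_fac _ _ _
    let q₂ := Spec.map (CommRingCat.ofHom (algebraMap K L₀)) ≫ su
    have hq : q₁ ≫ (proj a n ∣_ U) ≫ U.ι = q₂ ≫ pullback.fst h σ := by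
      refine (congrArg (q₁ ≫ ·) (morphismRestrict_ι (proj a n) U)).trans ?_
      show q₁ ≫ (proj a n ⁻¹ᵁ U).ι ≫ proj a n = _
      rw [reassoc_of% hq₁, Category.assoc, hcU]
      rw [← Spec.map_comp, ← Spec.map_comp]
      congr 1
      ext x
      show L₀.val (β₀ (algebraMap R _ x)) = L₀.val (algebraMap K L₀ (α x))
      rw [lift_algebraMap]; rfl
    let q := pullback.lift q₁ q₂ hq
    have hjq : Spec.map j ≫ q = sw := by
      refine pullback.hom_ext ?_ ?_
      · rw [← cancel_mono (proj a n ⁻¹ᵁ U).ι, Category.assoc, Category.assoc, pullback.lift_fst_assoc, hq₁, hj]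
        simp only [Category.assoc]
      · rw [Category.assoc, pullback.lift_snd, hsw, ← Category.assoc, ← Spec.map_comp]
        congr 1
    have hqw : q (IsLocalRing.closedPoint L₀) = w := by
      rw [show IsLocalRing.closedPoint L₀ = Spec.map j (IsLocalRing.closedPoint L) from
        Subsingleton.elim (α := PrimeSpectrum L₀) _ _, ← Scheme.Hom.comp_apply, hjq,
        Scheme.fromSpecResidueField_apply]
    obtain ⟨ψ, hψ⟩ := Groth.Misc3Ram.exists_factor (L := L₀) q w hqw
    have hid : ψ ≫ j = 𝟙 _ := by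
      apply Spec.map_injective
      rw [Spec.map_comp, Spec.map_id, ← cancel_mono sw, Category.assoc, hψ, hjq]
      exact (Category.id_comp sw).symm
    refine eq_top_iff.2 fun z _ => ?_
    have := congr($hid z)
    exact (show L₀.val (ψ.hom z) = z from this) ▸ (ψ.hom z).2
  obtain ⟨hfin, hgal, hdvd⟩ := isGalois_of_roots K L n yL c hn' hc hy' hgen hμ
  letI : Algebra ((pullback h σ).presheaf.stalk y) K :=
    (((pullback h σ).residue _).hom.comp ((pullback h σ).presheaf.stalkSpecializes hw).hom).toAlgebra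
  haveI : IsFractionRing ((pullback h σ).presheaf.stalk y) K := isFractionRing_residueField hw hne
  have hn : IsUnit ((Module.finrank K L : ℕ) : (pullback h σ).presheaf.stalk y) := by
    let ρ : R →+* (pullback h σ).presheaf.stalk y :=
      (((pullback h σ).presheaf.germ ⊤ y trivial).hom.comp (pullback.fst h σ).appTop.hom).comp
        (Scheme.ΓSpecIso (CommRingCat.of R)).inv.hom
    have hprod : IsUnit ((∏ i, n i : ℕ) : R) := by
      rw [Nat.cast_prod]; exact IsUnit.prod_iff.2 fun i _ => hu i
    have := hprod.map ρ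
    rw [map_natCast] at this
    obtain ⟨k, hk⟩ := hdvd
    rw [hk, Nat.cast_mul] at this
    exact isUnit_of_mul_isUnit_left this
  exact Groth.Misc3Ram.tame_of_isGalois ((pullback h σ).presheaf.stalk y) K L hn

end Groth.Pi1Tame.KR
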