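import Groth.Agent.Pi1Tame.KummerAlg
import Mathlib.FieldTheory.Galois.Basic
import Mathlib.RingTheory.RootsOfUnity.PrimitiveRoots
import Mathlib.RingTheory.Localization.Module

/-!
# Monomials in Kummer algebras and the saturated subalgebras
-/

universe u

set_option autoImplicit false
set_option linter.style.haveILetI false
set_option linter.unusedSectionVars false
set_option backward.isDefEq.respectTransparency false

open SGA1

namespace Groth.Pi1Tame

variable {A : Type u} [CommRing A] {r : ℕ} {f : Fin r → A} {n : Fin r → ℕ}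

theorem smul_eq (c : A) (z : kummerAlg A f n) : c • z = algebraMap A (kummerAlg A f n) c * z :=
  Algebra.smul_def c z

/-- A monomial in the roots. -/
noncomputable def mono (b : ∀ i, Fin (n i)) : kummerAlg A f n := ∏ i, root A f n i ^ (b i : ℕ)

theorem mono_mul_root (b : ∀ i, Fin (n i)) (i : Fin r) :
    ∃ (c : A) (b' : ∀ i, Fin (n i)), mono (f := f) b * root A f n i = c • mono b' := by
  classical
  have hsplit : ∀ d : ∀ j, Fin (n j), mono (f := f) d =
      root A f n i ^ (d i : ℕ) * ∏ j ∈ Finset.univ.erase i, root A f n j ^ (d j : ℕ) := fun d =>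
    (Finset.mul_prod_erase _ (fun j => root A f n j ^ (d j : ℕ)) (Finset.mem_univ i)).symm
  by_cases hlt : (b i : ℕ) + 1 < n i
  · refine ⟨1, Function.update b i ⟨_, hlt⟩, ?_⟩
    rw [one_smul, hsplit, hsplit, mul_right_comm, ← pow_succ]
    congr 1
    · simp
    · exact Finset.prod_congr rfl fun j hj => by rw [Function.update_of_ne (Finset.ne_of_mem_erase hj)]
  · have hpos : 0 < n i := (b i).pos
    refine ⟨f i, Function.update b i ⟨0, hpos⟩, ?_⟩
    have hk : (b i : ℕ) + 1 = n i := by have := (b i).isLt; omega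
    rw [hsplit, hsplit, mul_right_comm, ← pow_succ, hk, root_pow, ← smul_eq]
    congr 1
    rw [Function.update_self, pow_zero, one_mul]
    exact Finset.prod_congr rfl fun j hj => by rw [Function.update_of_ne (Finset.ne_of_mem_erase hj)]

theorem span_mono (hn : ∀ i, 1 ≤ n i) :
    ⊤ ≤ Submodule.span A (Set.range (mono (f := f) (n := n))) := by
  intro z _
  refine induction_on (P := fun z => z ∈ Submodule.span A (Set.range (mono (f := f) (n := n)))) z (fun a => ?_)
    (fun u v hu hv => add_mem hu hv) (fun u i hu => ?_)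
  · rw [Algebra.algebraMap_eq_smul_one]
    exact Submodule.smul_mem _ _ (Submodule.subset_span ⟨fun i => ⟨0, hn i⟩, by simp [mono]⟩)
  · induction hu using Submodule.span_induction with
    | mem x hx =>
      obtain ⟨b, rfl⟩ := hx
      obtain ⟨c, b', hc⟩ := mono_mul_root (f := f) b i
      rw [hc]
      exact Submodule.smul_mem _ _ (Submodule.subset_span ⟨b', rfl⟩)
    | zero => simp
    | add x y _ _ hx hy => rw [add_mul]; exact add_mem hx hy
    | smul c x _ hx => rw [smul_mul_assoc]; exact Submodule.smul_mem _ c hx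

/-- The monomial basis. -/
noncomputable def monoBasis [Nontrivial A] (hn : ∀ i, 1 ≤ n i) :
    Module.Basis (∀ i, Fin (n i)) A (kummerAlg A f n) :=
  haveI := module_free (A := A) (f := f) (n := n) hn
  haveI := module_finite (A := A) (f := f) (n := n) hn
  basisOfTopLeSpanOfCardEqFinrank mono (span_mono hn) (by
    have h := (Groth.EGA41Two.MonicVars.free_finrank (polys f n)
      fun i => Polynomial.monic_X_pow_sub_C _ (by have := hn i; omega)).2
    rw [finIdeal_polys] at h
    rw [h]
    simp [polys])

@[simp]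
theorem monoBasis_apply [Nontrivial A] (hn : ∀ i, 1 ≤ n i) (b : ∀ i, Fin (n i)) :
    monoBasis (f := f) hn b = mono b := by
  simp [monoBasis]

/-- The endomorphism multiplying the roots by roots of unity. -/
noncomputable def twistHom (η : Fin r → A) (hη : ∀ i, η i ^ n i = 1) : kummerAlg A f n →ₐ[A] kummerAlg A f n :=
  { toRingHom := lift (algebraMap A _) (fun i => algebraMap A _ (η i) * root A f n i)
      (fun i => by rw [mul_pow, ← map_pow, hη, map_one, one_mul, root_pow])
    commutes' := fun a => lift_algebraMap _ _ _ a }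

theorem twistHom_root (η : Fin r → A) (hη : ∀ i, η i ^ n i = 1) (i : Fin r) :
    twistHom (f := f) η hη (root A f n i) = algebraMap A _ (η i) * root A f n i :=
  lift_root (algebraMap A _) (fun i => algebraMap A (kummerAlg A f n) (η i) * root A f n i)
    (fun i => by rw [mul_pow, ← map_pow, hη, map_one, one_mul, root_pow]) i

theorem twistHom_mono (η : Fin r → A) (hη : ∀ i, η i ^ n i = 1) (b : ∀ i, Fin (n i)) :
    twistHom (f := f) η hη (mono b) = (∏ i, η i ^ (b i : ℕ)) • mono b := by
  simp only [mono, map_prod, map_pow, twistHom_root, mul_pow, Finset.prod_mul_distrib]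
  rw [smul_eq]
  simp only [map_prod, map_pow]

/-- The automorphism multiplying the roots by roots of unity. -/
noncomputable def twist (η : Fin r → A) (hη : ∀ i, η i ^ n i = 1) (hn : ∀ i, 1 ≤ n i) :
    kummerAlg A f n ≃ₐ[A] kummerAlg A f n :=
  have hinv : ∀ i, (η i ^ (n i - 1)) ^ n i = 1 := fun i => by rw [← pow_mul, mul_comm, pow_mul, hη, one_pow]
  have h1 : ∀ i, η i ^ (n i - 1) * η i = 1 := fun i => by rw [← pow_succ, Nat.sub_add_cancel (hn i), hη]
  AlgEquiv.ofAlgHom (twistHom η hη) (twistHom (fun i => η i ^ (n i - 1)) hinv)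
    (AlgHom.ext fun z => RingHom.congr_fun (hom_ext (g := (twistHom η hη).toRingHom.comp (twistHom _ hinv).toRingHom)
      (h := RingHom.id _) (fun a => by simp) fun i => by
        simp only [RingHom.comp_apply, AlgHom.toRingHom_eq_coe, RingHom.coe_coe, RingHom.id_apply]
        rw [twistHom_root, map_mul, AlgHom.commutes, twistHom_root, ← mul_assoc, ← map_mul, h1, map_one, one_mul]) z)
    (AlgHom.ext fun z => RingHom.congr_fun (hom_ext (g := (twistHom _ hinv).toRingHom.comp (twistHom η hη).toRingHom)
      (h := RingHom.id _) (fun a => by simp) fun i => by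
        simp only [RingHom.comp_apply, AlgHom.toRingHom_eq_coe, RingHom.coe_coe, RingHom.id_apply]
        rw [twistHom_root, map_mul, AlgHom.commutes, twistHom_root, ← mul_assoc, ← map_mul, mul_comm (η i), h1,
          map_one, one_mul]) z)

section Sat

variable [IsDomain A] {n₀ : ℕ} [IsDomain (kummerAlg A f fun _ => n₀)] {ζ : A}
  (K L : Type u) [Field K] [Field L] [Algebra A K] [IsFractionRing A K] [Algebra (kummerAlg A f fun _ => n₀) L]
  [IsFractionRing (kummerAlg A f fun _ => n₀) L] [Algebra A L] [IsScalarTower A (kummerAlg A f fun _ => n₀) L]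
  [Algebra K L] [IsScalarTower A K L]

theorem exists_denominator (hn : 1 ≤ n₀) :
    FiniteDimensional K L ∧ ∀ y : L, ∃ (a : A) (z : kummerAlg A f fun _ => n₀), a ≠ 0 ∧
      algebraMap A L a * y = algebraMap _ L z := by
  let A' := kummerAlg A f fun _ => n₀
  let S := Algebra.adjoin K (Set.range fun i => algebraMap A' L (root A f _ i))
  haveI : Algebra.IsIntegral A A' :=
    haveI := module_finite (A := A) (f := f) (n := fun _ => n₀) fun _ => hn
    inferInstance
  have hint : ∀ z : A', IsIntegral K (algebraMap A' L z) := fun z =>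
    ((Algebra.IsIntegral.isIntegral (R := A) z).map (IsScalarTower.toAlgHom A A' L)).tower_top
  haveI : Module.Finite K S := by
    refine (Module.Finite.iff_fg (N := Subalgebra.toSubmodule S)).2 ?_
    exact fg_adjoin_of_finite (Set.finite_range _) (by rintro _ ⟨i, rfl⟩; exact hint _)
  have hA' : ∀ z : A', algebraMap A' L z ∈ S := fun z => by
    refine induction_on (P := fun z => algebraMap A' L z ∈ S) z (fun a => ?_) (fun u v hu hv => ?_) (fun u i hu => ?_)
    · rw [← IsScalarTower.algebraMap_apply, IsScalarTower.algebraMap_apply A K L]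
      exact S.algebraMap_mem _
    · rw [map_add]; exact add_mem hu hv
    · rw [map_mul]; exact mul_mem hu (Algebra.subset_adjoin ⟨i, rfl⟩)
  have hS : IsField S := isField_of_isIntegral_of_isField' (R := K) (Field.toIsField K)
  let E := S.toIntermediateField' hS
  have htop : S = ⊤ := by
    refine eq_top_iff.2 fun y _ => ?_
    obtain ⟨z, w, -, rfl⟩ := IsFractionRing.div_surjective A' y
    exact E.div_mem (hA' z) (hA' w)
  refine ⟨Module.Finite.of_surjective S.val.toLinearMap fun y => ⟨⟨y, htop ▸ Algebra.mem_top⟩, rfl⟩, fun y => ?_⟩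
  have hy : y ∈ S := htop ▸ Algebra.mem_top
  induction hy using Algebra.adjoin_induction with
  | mem x hx =>
    obtain ⟨i, rfl⟩ := hx
    exact ⟨1, root A f _ i, one_ne_zero, by rw [map_one, one_mul]⟩
  | algebraMap k =>
    obtain ⟨p, q, hq, rfl⟩ := IsFractionRing.div_surjective A k
    refine ⟨q, algebraMap A A' p, nonZeroDivisors.ne_zero hq, ?_⟩
    rw [← IsScalarTower.algebraMap_apply A A' L, IsScalarTower.algebraMap_apply A K L q,
      IsScalarTower.algebraMap_apply A K L p, ← map_mul]
    congr 1
    exact mul_div_cancel₀ _ ((map_ne_zero_iff _ (IsFractionRing.injective A K)).2 (nonZeroDivisors.ne_zero hq))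
  | add x y _ _ hx hy =>
    obtain ⟨a, z, ha, hz⟩ := hx
    obtain ⟨b, w, hb, hw⟩ := hy
    refine ⟨a * b, algebraMap A A' b * z + algebraMap A A' a * w, mul_ne_zero ha hb, ?_⟩
    rw [map_add, map_mul, map_mul, map_mul, ← IsScalarTower.algebraMap_apply, ← IsScalarTower.algebraMap_apply,
      ← hz, ← hw]
    ring
  | mul x y _ _ hx hy =>
    obtain ⟨a, z, ha, hz⟩ := hx
    obtain ⟨b, w, hb, hw⟩ := hy
    refine ⟨a * b, z * w, mul_ne_zero ha hb, ?_⟩
    rw [map_mul, map_mul, ← hz, ← hw]
    ring

variable (hζ : IsPrimitiveRoot ζ n₀) (hn : 1 ≤ n₀)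

include hn in
theorem linearIndependent_mono :
    LinearIndependent K fun b : Fin r → Fin n₀ => algebraMap (kummerAlg A f fun _ => n₀) L (mono b) := by
  rw [← LinearIndependent.iff_fractionRing A K]
  have h := (monoBasis (f := f) (n := fun _ : Fin r => n₀) fun _ => hn).linearIndependent
  have := h.map' (IsScalarTower.toAlgHom A (kummerAlg A f fun _ => n₀) L).toLinearMap
    (LinearMap.ker_eq_bot.2 (IsFractionRing.injective _ L))
  simpa [Function.comp_def] using this

variable (f) in
include f hζ hn in
theorem isGalois_kummer : IsGalois K L := by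
  classical
  let A' := kummerAlg A f fun _ => n₀
  obtain ⟨hfin, hden⟩ := exists_denominator (f := f) (n₀ := n₀) K L hn
  let β := monoBasis (f := f) (n := fun _ : Fin r => n₀) fun _ => hn
  refine @IsGalois.of_fixedField_eq_bot K _ L _ _ hfin (eq_bot_iff.2 fun y hy => ?_)
  rw [IntermediateField.mem_fixedField_iff] at hy
  obtain ⟨a, z, ha, hz⟩ := hden y
  have haL : algebraMap A L a ≠ 0 := by
    rw [IsScalarTower.algebraMap_apply A K L]
    exact (map_ne_zero_iff _ (algebraMap K L).injective).2 ((map_ne_zero_iff _ (IsFractionRing.injective A K)).2 ha)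
  have hzero : ∀ b : Fin r → Fin n₀, b ≠ (fun _ => ⟨0, hn⟩) → β.repr z b = 0 := by
    intro b hb
    obtain ⟨i, hi⟩ := Function.ne_iff.1 hb
    let η : Fin r → A := fun j => if j = i then ζ else 1
    have hη : ∀ j, η j ^ n₀ = 1 := fun j => by
      by_cases h : j = i <;> simp [η, h, hζ.pow_eq_one]
    have hηb : ∏ j, η j ^ (b j : ℕ) = ζ ^ (b i : ℕ) := by
      rw [Finset.prod_eq_single i (fun j _ h => by simp [η, h]) (fun h => absurd (Finset.mem_univ i) h)]
      simp [η]
    let τ : L ≃ₐ[K] L := IsFractionRing.fieldEquivOfAlgEquiv K L L (twist (f := f) η hη fun _ => hn)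
    have hfix : twist (f := f) η hη (fun _ => hn) z = z := by
      apply IsFractionRing.injective A' L
      rw [← IsFractionRing.fieldEquivOfAlgEquiv_algebraMap K L L, ← hz]
      change τ _ = _
      rw [map_mul, hy τ (Subgroup.mem_top τ), IsScalarTower.algebraMap_apply A K L, τ.commutes]
    have h0 : twistHom (f := f) η hη z = z := hfix
    have h1 := congrArg (fun w => β.repr w b) h0
    have h2 : β.repr (twistHom (f := f) η hη z) b = (∏ j, η j ^ (b j : ℕ)) * β.repr z b := by
      have hT : twistHom (f := f) η hη z = ∑ c, ((∏ j, η j ^ (c j : ℕ)) * β.repr z c) • β c := by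
        conv_lhs => rw [← β.sum_repr z]
        rw [map_sum]
        refine Finset.sum_congr rfl fun c _ => ?_
        rw [map_smul, monoBasis_apply, twistHom_mono, smul_smul, mul_comm]
      rw [hT, β.repr_sum_self]
    rw [h2, hηb] at h1
    by_contra hne
    have hi0 : (b i : ℕ) ≠ 0 := fun h => hi (Fin.ext h)
    exact hζ.pow_ne_one_of_pos_of_lt hi0 (b i).isLt ((mul_eq_right₀ hne).1 h1)
  have hz0 : z = β.repr z (fun _ => ⟨0, hn⟩) • (1 : A') := by
    conv_lhs => rw [← β.sum_repr z]
    rw [Finset.sum_eq_single (fun _ => ⟨0, hn⟩) (fun c _ hc => by rw [hzero c hc, zero_smul])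
      (fun h => absurd (Finset.mem_univ _) h)]
    simp [β, mono]
  rw [IntermediateField.mem_bot]
  refine ⟨algebraMap A K (β.repr z (fun _ => ⟨0, hn⟩)) / algebraMap A K a, ?_⟩
  rw [map_div₀, ← IsScalarTower.algebraMap_apply, ← IsScalarTower.algebraMap_apply, div_eq_iff haL, mul_comm y, hz,
    IsScalarTower.algebraMap_apply A A' L]
  conv_rhs => rw [hz0]
  rw [smul_eq, mul_one]

include K L hζ hn in
/-- A saturated subalgebra contains the monomials of its elements. -/
theorem mono_mem (B' : Subalgebra A (kummerAlg A f fun _ => n₀))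
    (hsat : ∀ (z : kummerAlg A f fun _ => n₀) (a : A), a ≠ 0 → algebraMap A _ a * z ∈ B' → z ∈ B')
    {x : kummerAlg A f fun _ => n₀} (hx : x ∈ B') (b : Fin r → Fin n₀)
    (hb : (monoBasis (f := f) (n := fun _ : Fin r => n₀) fun _ => hn).repr x b ≠ 0) : mono b ∈ B' := by
  classical
  let A' := kummerAlg A f fun _ => n₀
  obtain ⟨hfin, -⟩ := exists_denominator (f := f) (n₀ := n₀) K L hn
  haveI := isGalois_kummer f K L hζ hn
  let β := monoBasis (f := f) (n := fun _ : Fin r => n₀) fun _ => hn
  let S := Algebra.adjoin K (algebraMap A' L '' (B' : Set A'))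
  let E := S.toIntermediateField' S.isField_of_algebraic
  have hS : ∀ y ∈ S, ∃ (a : A) (w : A'), a ≠ 0 ∧ w ∈ B' ∧ algebraMap A L a * y = algebraMap A' L w := by
    intro y hy
    induction hy using Algebra.adjoin_induction with
    | mem y hy =>
      obtain ⟨w, hw, rfl⟩ := hy
      exact ⟨1, w, one_ne_zero, hw, by rw [map_one, one_mul]⟩
    | algebraMap k =>
      obtain ⟨p, q, hq, rfl⟩ := IsFractionRing.div_surjective A k
      refine ⟨q, algebraMap A A' p, nonZeroDivisors.ne_zero hq, B'.algebraMap_mem p, ?_⟩
      rw [← IsScalarTower.algebraMap_apply A A' L, IsScalarTower.algebraMap_apply A K L q,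
        IsScalarTower.algebraMap_apply A K L p, ← map_mul]
      congr 1
      exact mul_div_cancel₀ _ ((map_ne_zero_iff _ (IsFractionRing.injective A K)).2 (nonZeroDivisors.ne_zero hq))
    | add x y _ _ hx hy =>
      obtain ⟨a, z, ha, hzB, hz⟩ := hx
      obtain ⟨c, w, hc, hwB, hw⟩ := hy
      refine ⟨a * c, algebraMap A A' c * z + algebraMap A A' a * w, mul_ne_zero ha hc,
        add_mem (mul_mem (B'.algebraMap_mem c) hzB) (mul_mem (B'.algebraMap_mem a) hwB), ?_⟩
      rw [map_add, map_mul, map_mul, map_mul, ← IsScalarTower.algebraMap_apply, ← IsScalarTower.algebraMap_apply,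
        ← hz, ← hw]
      ring
    | mul x y _ _ hx hy =>
      obtain ⟨a, z, ha, hzB, hz⟩ := hx
      obtain ⟨c, w, hc, hwB, hw⟩ := hy
      refine ⟨a * c, z * w, mul_ne_zero ha hc, mul_mem hzB hwB, ?_⟩
      rw [map_mul, map_mul, ← hz, ← hw]
      ring
  have hmem : algebraMap A' L (mono b) ∈ IntermediateField.fixedField E.fixingSubgroup := by
    rw [IntermediateField.mem_fixedField_iff]
    intro τ hτ
    rw [IntermediateField.mem_fixingSubgroup_iff] at hτ
    have hroot : ∀ i, ∃ k : ℕ, τ (algebraMap A' L (root A f _ i)) =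
        algebraMap A L (ζ ^ k) * algebraMap A' L (root A f _ i) := by
      intro i
      by_cases h0 : algebraMap A' L (root A f _ i) = 0
      · exact ⟨0, by simp [h0]⟩
      haveI : NeZero n₀ := ⟨by omega⟩
      have hinj : Function.Injective (algebraMap A L) := by
        rw [IsScalarTower.algebraMap_eq A K L]
        exact (algebraMap K L).injective.comp (IsFractionRing.injective A K)
      obtain ⟨k, -, hk⟩ := (hζ.map_of_injective hinj).eq_pow_of_pow_eq_one
        (ξ := τ (algebraMap A' L (root A f _ i)) / algebraMap A' L (root A f _ i)) (by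
          rw [div_pow, ← map_pow τ, ← map_pow (algebraMap A' L), root_pow, ← IsScalarTower.algebraMap_apply,
            IsScalarTower.algebraMap_apply A K L, τ.commutes, div_self]
          rw [← IsScalarTower.algebraMap_apply, IsScalarTower.algebraMap_apply A A' L, ← root_pow, map_pow]
          exact pow_ne_zero _ h0)
      exact ⟨k, by rw [map_pow, hk, div_mul_cancel₀ _ h0]⟩
    choose k hk using hroot
    have hmono : ∀ c : Fin r → Fin n₀, τ (algebraMap A' L (mono c)) =
        algebraMap A L (∏ i, (ζ ^ k i) ^ (c i : ℕ)) * algebraMap A' L (mono c) := fun c => by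
      simp only [mono, map_prod, map_pow, hk, mul_pow, Finset.prod_mul_distrib, A']
    have hfix : τ (algebraMap A' L x) = algebraMap A' L x := hτ _ (Algebra.subset_adjoin ⟨x, hx, rfl⟩)
    have hsum : algebraMap A' L x = ∑ c, algebraMap A L (β.repr x c) * algebraMap A' L (mono c) := by
      conv_lhs => rw [← β.sum_repr x]
      rw [map_sum]
      exact Finset.sum_congr rfl fun c _ => by
        rw [monoBasis_apply, smul_eq, map_mul, ← IsScalarTower.algebraMap_apply]
    have hzero : ∑ c, (algebraMap A K (β.repr x c * ((∏ i, (ζ ^ k i) ^ (c i : ℕ)) - 1))) •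
        algebraMap A' L (mono c) = 0 := by
      have hcomm : ∀ a : A, τ (algebraMap A L a) = algebraMap A L a := fun a => by
        rw [IsScalarTower.algebraMap_apply A K L, τ.commutes]
      rw [hsum, map_sum] at hfix
      simp only [map_mul, hmono, hcomm] at hfix
      rw [← sub_eq_zero.2 hfix, ← Finset.sum_sub_distrib]
      refine Finset.sum_congr rfl fun c _ => ?_
      rw [Algebra.smul_def, ← IsScalarTower.algebraMap_apply, map_mul, map_sub, map_one]
      ring
    have hc := Fintype.linearIndependent_iff.1 (linearIndependent_mono (f := f) K L hn) _ hzero b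
    have hc' := (map_eq_zero_iff _ (IsFractionRing.injective A K)).1 hc
    rw [hmono, sub_eq_zero.1 ((mul_eq_zero.1 hc').resolve_left hb), map_one, one_mul]
  rw [IsGalois.fixedField_fixingSubgroup] at hmem
  obtain ⟨a, w, ha, hw, hwe⟩ := hS _ hmem
  refine hsat _ a ha ?_
  have : algebraMap A A' a * mono b = w := by
    apply IsFractionRing.injective A' L
    rw [map_mul, ← IsScalarTower.algebraMap_apply]
    exact hwe
  rwa [this]

end Sat

end Groth.Pi1Tame
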