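import Groth.Prelude.Def_SGA1t
import Groth.Agent.Pi1Tame.KummerGalois
import Groth.Agent.Calg4.SmoothReduced
import Mathlib.RingTheory.Smooth.Fiber
import Mathlib.AlgebraicGeometry.Morphisms.Etale

/-!
# Kummer algebras on an arbitrary finite index type: étaleness away from the branch locus, idempotents

If the `a_i` are, modulo a nil ideal, nonzerodivisors with reduced and pairwise regular quotients, then the
Kummer algebra of a local ring has no nontrivial idempotent after inverting the `a_i`.
-/

set_option autoImplicit false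
set_option linter.style.haveILetI false
universe u

open SGA1t

namespace Groth.Pi1Tame.KR

variable {A : Type u} [CommRing A] {ι : Type} {a : ι → A} {n : ι → ℕ}

/-- `T_i`. -/
noncomputable def T (a : ι → A) (n : ι → ℕ) (i : ι) : kummer A a n := Ideal.Quotient.mk _ (MvPolynomial.X i)

theorem T_pow (i : ι) : T a n i ^ n i = algebraMap A (kummer A a n) (a i) := by
  rw [T, ← map_pow]
  exact Ideal.Quotient.eq.2 (Ideal.subset_span ⟨i, rfl⟩)

/-- Evaluation at roots. -/
noncomputable def lift {S : Type*} [CommRing S] (g : A →+* S) (y : ι → S) (hy : ∀ i, y i ^ n i = g (a i)) :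
    kummer A a n →+* S :=
  Ideal.Quotient.lift _ (MvPolynomial.eval₂Hom g y) fun z hz => by
    refine (Ideal.span_le.2 ?_ : _ ≤ RingHom.ker (MvPolynomial.eval₂Hom g y)) hz
    rintro _ ⟨i, rfl⟩
    rw [SetLike.mem_coe, RingHom.mem_ker, map_sub, map_pow, MvPolynomial.eval₂Hom_X', MvPolynomial.eval₂Hom_C,
      hy, sub_self]

@[simp] theorem lift_T {S : Type*} [CommRing S] (g : A →+* S) (y : ι → S) (hy : ∀ i, y i ^ n i = g (a i)) (i : ι) :
    lift g y hy (T a n i) = y i := by
  simp [lift, T]

@[simp] theorem lift_algebraMap {S : Type*} [CommRing S] (g : A →+* S) (y : ι → S)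
    (hy : ∀ i, y i ^ n i = g (a i)) (x : A) : lift g y hy (algebraMap A (kummer A a n) x) = g x := by
  rw [show algebraMap A (kummer A a n) x = Ideal.Quotient.mk _ (MvPolynomial.C x) from rfl]
  simp [lift]

theorem induction_on {P : kummer A a n → Prop} (z : kummer A a n) (hC : ∀ x, P (algebraMap A _ x))
    (hadd : ∀ x y, P x → P y → P (x + y)) (hX : ∀ x i, P x → P (x * T a n i)) : P z := by
  obtain ⟨p, rfl⟩ := Ideal.Quotient.mk_surjective z
  induction p using MvPolynomial.induction_on with
  | C x => exact hC x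
  | add p q hp hq => rw [map_add]; exact hadd _ _ hp hq
  | mul_X p i hp => rw [map_mul]; exact hX _ i hp

theorem hom_ext {S : Type*} [CommRing S] {g h : kummer A a n →+* S}
    (h₀ : ∀ x, g (algebraMap A _ x) = h (algebraMap A _ x)) (hT : ∀ i, g (T a n i) = h (T a n i)) : g = h := by
  refine RingHom.ext fun z => ?_
  induction z using induction_on with
  | hC x => exact h₀ x
  | hadd x y hx hy => rw [map_add, map_add, hx, hy]
  | hX x i hx => rw [map_mul, map_mul, hx, hT]

/-- Comparison with the prelude's Kummer algebra on `Fin r`. -/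
noncomputable def toFinOf {r : ℕ} (e : ι ≃ Fin r) (a : ι → A) (n : ι → ℕ) :
    kummer A a n ≃ₐ[A] SGA1.kummerAlg A (a ∘ e.symm) (n ∘ e.symm) :=
  let f := lift (n := n) (algebraMap A _) (fun i => Groth.Pi1Tame.root A (a ∘ e.symm) (n ∘ e.symm) (e i))
    (fun i => by
      have := Groth.Pi1Tame.root_pow A (a ∘ e.symm) (n ∘ e.symm) (e i)
      simpa using this)
  let g := Groth.Pi1Tame.lift (A := A) (f := a ∘ e.symm) (n := n ∘ e.symm) (algebraMap A (kummer A a n)) (fun j => T a n (e.symm j))
    (fun j => T_pow (e.symm j))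
  AlgEquiv.ofRingEquiv (f := RingEquiv.ofRingHom f g
    (by
      refine Groth.Pi1Tame.hom_ext (fun x => ?_) fun j => ?_
      · simp [f, g, Groth.Pi1Tame.lift_algebraMap]
      · simp [f, g, Groth.Pi1Tame.lift_root])
    (by
      refine hom_ext (fun x => ?_) fun i => ?_
      · simp [f, g, Groth.Pi1Tame.lift_algebraMap]
      · simp [f, g, Groth.Pi1Tame.lift_root]))
    (fun x => lift_algebraMap (algebraMap A _) _
      (fun i => by simpa using Groth.Pi1Tame.root_pow A (a ∘ e.symm) (n ∘ e.symm) (e i)) x)

/-- Comparison, with the standard enumeration of the index type. -/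
noncomputable def toFin [Fintype ι] (a : ι → A) (n : ι → ℕ) :
    kummer A a n ≃ₐ[A] SGA1.kummerAlg A (a ∘ (Fintype.equivFin ι).symm) (n ∘ (Fintype.equivFin ι).symm) :=
  toFinOf (Fintype.equivFin ι) a n

theorem module_finite [Finite ι] (hn : ∀ i, 1 ≤ n i) : Module.Finite A (kummer A a n) := by
  cases nonempty_fintype ι
  haveI := Groth.Pi1Tame.module_finite (A := A) (f := a ∘ (Fintype.equivFin ι).symm) (n := n ∘ (Fintype.equivFin ι).symm) fun i => hn _
  exact Module.Finite.equiv (toFin a n).symm.toLinearEquiv

theorem module_free [Finite ι] [Nontrivial A] (hn : ∀ i, 1 ≤ n i) : Module.Free A (kummer A a n) := by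
  cases nonempty_fintype ι
  haveI := Groth.Pi1Tame.module_free (A := A) (f := a ∘ (Fintype.equivFin ι).symm) (n := n ∘ (Fintype.equivFin ι).symm) fun i => hn _
  exact Module.Free.of_equiv (toFin a n).symm.toLinearEquiv

theorem injective_algebraMap [Finite ι] [Nontrivial A] (hn : ∀ i, 1 ≤ n i) :
    Function.Injective (algebraMap A (kummer A a n)) := by
  cases nonempty_fintype ι
  intro x y h
  refine Groth.Pi1Tame.injective_algebraMap (A := A) (f := a ∘ (Fintype.equivFin ι).symm) (n := n ∘ (Fintype.equivFin ι).symm)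
    (fun i => hn _) ?_
  simpa using congrArg (toFin a n) h

theorem flat [Finite ι] (hn : ∀ i, 1 ≤ n i) : Module.Flat A (kummer A a n) := by
  rcases subsingleton_or_nontrivial A with h | h
  · infer_instance
  · haveI := module_free (a := a) hn
    infer_instance

theorem mul_eq_zero_of_nzd [Finite ι] (hn : ∀ i, 1 ≤ n i) {c : A} (hc : ∀ x, c * x = 0 → x = 0)
    {z : kummer A a n} (hz : algebraMap A _ c * z = 0) : z = 0 := by
  haveI := flat (a := a) hn
  have h : IsSMulRegular A c := fun x y hxy => sub_eq_zero.1 (hc _ (by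
    rw [mul_sub]; exact sub_eq_zero.2 hxy))
  refine h.of_flat (S := kummer A a n) ?_
  simpa using hz

theorem finitePresentation [Finite ι] : Algebra.FinitePresentation A (kummer A a n) :=
  Algebra.FinitePresentation.quotient (Submodule.fg_span (Set.finite_range _))

theorem etale_away [Finite ι] (hn : ∀ i, 1 ≤ n i) (g : A)
    (hg : ∀ i, n i = 1 ∨ (a i ∣ g ∧ IsUnit (n i : A))) :
    Algebra.Etale A (Localization.Away (algebraMap A (kummer A a n) g)) := by
  let g' := algebraMap A (kummer A a n) g
  let B := Localization.Away g'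
  haveI : Algebra.FinitePresentation A (kummer A a n) := finitePresentation
  haveI : Algebra.FinitePresentation (kummer A a n) B := IsLocalization.Away.finitePresentation g'
  haveI : Algebra.FinitePresentation A B := Algebra.FinitePresentation.trans A (kummer A a n) B
  haveI := flat (a := a) hn
  haveI : Module.Flat (kummer A a n) B := IsLocalization.flat B (Submonoid.powers g')
  haveI : Module.Flat A B := Module.Flat.trans A (kummer A a n) B
  let D := KaehlerDifferential.D A B
  have hT : ∀ i, D (algebraMap _ B (T a n i)) = 0 := by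
    intro i
    have h0 := D.leibniz_pow (algebraMap _ B (T a n i)) (n i)
    rw [← map_pow, T_pow, ← IsScalarTower.algebraMap_apply, Derivation.map_algebraMap, ← Nat.cast_smul_eq_nsmul B,
      smul_smul] at h0
    have hu : IsUnit ((n i : B) * algebraMap (kummer A a n) B (T a n i) ^ (n i - 1)) := by
      rcases hg i with h1 | ⟨⟨c, hc⟩, hu⟩
      · simp [h1]
      · refine IsUnit.mul ?_ (IsUnit.pow _ ?_)
        · simpa using hu.map (algebraMap A B)
        · have hgu : IsUnit (algebraMap (kummer A a n) B g') := IsLocalization.Away.algebraMap_isUnit g'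
          have : g' = T a n i ^ n i * algebraMap A _ c := by rw [T_pow, ← map_mul, ← hc]
          have h2 : algebraMap (kummer A a n) B g' =
              algebraMap _ B (T a n i) ^ n i * algebraMap _ B (algebraMap A _ c) :=
            (congrArg (algebraMap (kummer A a n) B) this).trans (by rw [map_mul, map_pow])
          rw [h2] at hgu
          exact (isUnit_pow_iff (by have := hn i; omega)).1 (isUnit_of_mul_isUnit_left hgu)
    exact hu.smul_eq_zero.1 h0.symm
  have hB : ∀ z : kummer A a n, D (algebraMap _ B z) = 0 := by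
    intro z
    induction z using induction_on with
    | hC x => rw [← IsScalarTower.algebraMap_apply, Derivation.map_algebraMap]
    | hadd x y hx hy => rw [map_add, map_add, hx, hy, add_zero]
    | hX x i hx => rw [map_mul, Derivation.leibniz, hx, hT, smul_zero, smul_zero, add_zero]
  have hall : ∀ x, D x = 0 := by
    intro x
    obtain ⟨⟨b, s⟩, hs⟩ := IsLocalization.surj (Submonoid.powers g') x
    have h := congrArg D hs
    rw [Derivation.leibniz, hB, hB, smul_zero, zero_add] at h
    exact (IsLocalization.map_units B s).smul_eq_zero.1 h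
  haveI : Algebra.FormallyUnramified A B := ⟨subsingleton_of_forall_eq 0 fun z => by
    have hz : z ∈ Submodule.span B (Set.range (KaehlerDifferential.D A B)) := by
      rw [KaehlerDifferential.span_range_derivation]; trivial
    have : Submodule.span B (Set.range (KaehlerDifferential.D A B)) = ⊥ :=
      Submodule.span_eq_bot.2 (by rintro _ ⟨c, rfl⟩; exact hall c)
    rwa [this, Submodule.mem_bot] at hz⟩
  exact Algebra.Etale.of_formallyUnramified_of_flat

theorem isReduced [Finite ι] [IsReduced A] (hn : ∀ i, 1 ≤ n i)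
    (ha : ∀ i, n i = 1 ∨ ((∀ x, a i * x = 0 → x = 0) ∧ IsUnit (n i : A))) : IsReduced (kummer A a n) := by
  classical
  cases nonempty_fintype ι
  let g := ∏ i, if n i = 1 then (1 : A) else a i
  have hg : ∀ i, n i = 1 ∨ (a i ∣ g ∧ IsUnit (n i : A)) := fun i => (em (n i = 1)).imp_right fun h =>
    ⟨by simpa [h] using Finset.dvd_prod_of_mem (fun i => if n i = 1 then (1 : A) else a i) (Finset.mem_univ i),
      ((ha i).resolve_left h).2⟩
  have hreg : ∀ x, g * x = 0 → x = 0 := by
    refine Finset.prod_induction (fun i => if n i = 1 then (1 : A) else a i) (fun c => ∀ x, c * x = 0 → x = 0)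
      (fun c d hc hd x hx => hd x (hc _ (by rwa [← mul_assoc]))) (by simp) fun i _ x hx => ?_
    split_ifs at hx with h
    · simpa using hx
    · exact ((ha i).resolve_left h).1 x hx
  haveI := etale_away hn g hg
  haveI := Groth.Calg4.isReduced_of_smooth A (Localization.Away (algebraMap A (kummer A a n) g))
  refine isReduced_of_injective (algebraMap (kummer A a n) (Localization.Away (algebraMap A (kummer A a n) g))) ?_
  refine IsLocalization.injective _ (M := Submonoid.powers (algebraMap A (kummer A a n) g)) ?_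
  rw [Submonoid.powers_le]
  exact mem_nonZeroDivisors_iff_left.2 fun z hz => mul_eq_zero_of_nzd hn hreg hz

/-- The conditions on the parameters: regularity and reducedness modulo a nil ideal. -/
structure SncData (A : Type u) [CommRing A] (a : ι → A) (N : Ideal A) : Prop where
  nil : ∀ x ∈ N, IsNilpotent x
  colon : ∀ i x, a i * x ∈ N → x ∈ N
  radical : ∀ i, (N ⊔ Ideal.span {a i}).IsRadical
  colon₂ : ∀ i j, i ≠ j → ∀ x, a j * x ∈ N ⊔ Ideal.span {a i} → x ∈ N ⊔ Ideal.span {a i}

theorem isLocalRing [IsLocalRing A] [Finite ι] (hn : ∀ i, 1 ≤ n i) (ha : ∀ i, a i ∈ IsLocalRing.maximalIdeal A) :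
    IsLocalRing (kummer A a n) := by
  haveI := module_finite (a := a) hn
  let ψ : kummer A a n →+* IsLocalRing.ResidueField A := lift (IsLocalRing.residue A) 0 fun i => by
    rw [Pi.zero_apply, zero_pow (by have := hn i; omega), eq_comm, IsLocalRing.residue_eq_zero_iff]
    exact ha i
  have hψ : Function.Surjective ψ := fun z => by
    obtain ⟨x, rfl⟩ := IsLocalRing.residue_surjective z
    exact ⟨algebraMap A _ x, lift_algebraMap ..⟩
  haveI := RingHom.ker_isMaximal_of_surjective ψ hψ
  refine IsLocalRing.of_unique_max_ideal ⟨RingHom.ker ψ, inferInstance, fun M hM => ?_⟩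
  have hMA : M.comap (algebraMap A (kummer A a n)) = IsLocalRing.maximalIdeal A :=
    IsLocalRing.eq_maximalIdeal (Ideal.isMaximal_comap_of_isIntegral_of_isMaximal M)
  have hmem : ∀ x ∈ IsLocalRing.maximalIdeal A, algebraMap A (kummer A a n) x ∈ M := fun x hx => by
    rw [← hMA] at hx; exact hx
  have hTM : ∀ i, T a n i ∈ M := fun i => hM.isPrime.mem_of_pow_mem (n i) (by rw [T_pow]; exact hmem _ (ha i))
  refine (Ideal.IsMaximal.eq_of_le inferInstance hM.ne_top fun z hz => ?_).symm
  suffices ∀ z, ∃ x : A, ψ z = IsLocalRing.residue A x ∧ z - algebraMap A _ x ∈ M by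
    obtain ⟨x, hx, hxM⟩ := this z
    rw [RingHom.mem_ker.1 hz, eq_comm, IsLocalRing.residue_eq_zero_iff] at hx
    simpa using M.add_mem hxM (hmem x hx)
  intro z
  induction z using induction_on with
  | hC x => exact ⟨x, lift_algebraMap .., by simp⟩
  | hadd p q hp hq =>
    obtain ⟨x, hx, hxM⟩ := hp
    obtain ⟨y, hy, hyM⟩ := hq
    refine ⟨x + y, by simp [hx, hy], ?_⟩
    rw [map_add, add_sub_add_comm]
    exact M.add_mem hxM hyM
  | hX p i _ => exact ⟨0, by simp [ψ], by simpa using M.mul_mem_left p (hTM i)⟩

section Reduced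

variable [Finite ι] (hn : ∀ i, 1 ≤ n i) (hu : ∀ i, IsUnit (n i : A))

include hn hu in
/-- Reduced case: squares in `(T_i)` come from `(T_i)`. -/
theorem sq_mem_span_T (hd : SncData A a ⊥) (i : ι) {b : kummer A a n}
    (hb : b ^ 2 ∈ Ideal.span {T a n i}) : b ∈ Ideal.span {T a n i} := by
  classical
  let C := A ⧸ ((⊥ : Ideal A) ⊔ Ideal.span {a i})
  haveI : IsReduced C := (Ideal.isRadical_iff_quotient_reduced _).1 (hd.radical i)
  let q : A →+* C := Ideal.Quotient.mk _
  let a' : ι → C := fun j => if j = i then 0 else q (a j)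
  let n' : ι → ℕ := fun j => if j = i then 1 else n j
  haveI : IsReduced (kummer C a' n') := isReduced (fun j => by dsimp [n']; split_ifs <;> simp [hn]) fun j => by
    by_cases h : j = i
    · exact Or.inl (by simp [n', h])
    · refine Or.inr ⟨fun x hx => ?_, ?_⟩
      · obtain ⟨x, rfl⟩ := Ideal.Quotient.mk_surjective x
        simp only [a', if_neg h] at hx
        rw [← map_mul] at hx
        exact Ideal.Quotient.eq_zero_iff_mem.2 (hd.colon₂ i j (Ne.symm h) x (Ideal.Quotient.eq_zero_iff_mem.1 hx))
      · simpa [n', h] using (hu j).map q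
  let φ : kummer A a n →+* kummer C a' n' := lift ((algebraMap C _).comp q) (T a' n') fun j => by
    by_cases h : j = i
    · subst h
      have hT : T a' n' j = 0 := by simpa [n', a'] using T_pow (a := a') (n := n') j
      have : q (a j) = 0 := Ideal.Quotient.eq_zero_iff_mem.2 (Ideal.mem_sup_right (Ideal.mem_span_singleton_self _))
      rw [hT, RingHom.comp_apply, this, map_zero, zero_pow (by have := hn j; omega)]
    · simpa [n', a', h] using T_pow (a := a') (n := n') j
  let p : kummer A a n →+* kummer A a n ⧸ Ideal.span {T a n i} := Ideal.Quotient.mk _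
  let c : C →+* kummer A a n ⧸ Ideal.span {T a n i} :=
    Ideal.Quotient.lift _ (p.comp (algebraMap A _)) fun x hx => by
      rw [bot_sup_eq, Ideal.mem_span_singleton] at hx
      obtain ⟨y, rfl⟩ := hx
      rw [RingHom.comp_apply, map_mul, ← T_pow]
      exact Ideal.Quotient.eq_zero_iff_mem.2 (Ideal.mul_mem_right _ _
        (Ideal.pow_mem_of_mem _ (Ideal.mem_span_singleton_self _) _ (hn i)))
  let χ : kummer C a' n' →+* kummer A a n ⧸ Ideal.span {T a n i} := lift c (fun j => p (T a n j)) fun j => by
    by_cases h : j = i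
    · subst h
      simp [n', a', p]
    · simp only [n', a', if_neg h]
      rw [← map_pow, T_pow]
      exact (Ideal.Quotient.lift_mk _ (p.comp (algebraMap A _)) _).symm
  have hχ : χ.comp φ = p := by
    refine hom_ext (S := kummer A a n ⧸ Ideal.span {T a n i}) (g := χ.comp φ) (h := p) (fun x => ?_) fun j => ?_
    · show χ (φ _) = _
      rw [lift_algebraMap, RingHom.comp_apply, lift_algebraMap]
      rfl
    · show χ (φ _) = _
      rw [lift_T, lift_T]
  have hTi : φ (T a n i) = 0 := by
    have hT : T a' n' i = 0 := by simpa [n', a'] using T_pow (a := a') (n := n') i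
    simp [φ, hT]
  rw [Ideal.mem_span_singleton] at hb
  obtain ⟨d, hd'⟩ := hb
  have : φ b = 0 := IsReduced.eq_zero _ ⟨2, by rw [← map_pow, hd', map_mul, hTi, zero_mul]⟩
  rw [← Ideal.Quotient.eq_zero_iff_mem]
  show p b = 0
  rw [← hχ, RingHom.comp_apply, this, map_zero]

include hn in
theorem T_nzd (hd : SncData A a ⊥) (i : ι) (z : kummer A a n) (h : T a n i * z = 0) : z = 0 := by
  refine mul_eq_zero_of_nzd hn (c := a i) (fun x hx => by simpa using hd.colon i x (by simpa using hx)) ?_
  rw [← T_pow, ← Nat.succ_pred_eq_of_pos (hn i), pow_succ, mul_assoc, h, mul_zero]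

variable [IsLocalRing A] (ha : ∀ i, a i ∈ IsLocalRing.maximalIdeal A) (g : A)
  (hg : ∃ (w : A) (l : List ι), IsUnit w ∧ g = w * (l.map a).prod)

include hn hg in
theorem g_nzd (hd : SncData A a ⊥) (z : kummer A a n) (h : algebraMap A _ g * z = 0) : z = 0 := by
  obtain ⟨w, l, hw, rfl⟩ := hg
  rw [map_mul, mul_assoc, (hw.map _).mul_right_eq_zero] at h
  induction l with
  | nil => simpa using h
  | cons i l ih =>
    rw [List.map_cons, List.prod_cons, map_mul, mul_assoc] at h
    exact ih (mul_eq_zero_of_nzd hn (fun x hx => by simpa using hd.colon i x (by simpa using hx)) h)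

include hn hu ha hg in
theorem idem_reduced (hd : SncData A a ⊥) (e : Localization.Away (algebraMap A (kummer A a n) g))
    (he : IsIdempotentElem e) : e = 0 ∨ e = 1 := by
  haveI := isLocalRing hn ha
  let g' := algebraMap A (kummer A a n) g
  let B := kummer A a n
  let Bg := Localization.Away g'
  have hinj : Function.Injective (algebraMap B Bg) := IsLocalization.injective _ (M := Submonoid.powers g') (by
    rw [Submonoid.powers_le]
    exact mem_nonZeroDivisors_iff_left.2 fun z hz => g_nzd hn g hg hd z hz)
  -- clear denominators one root at a time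
  have key : ∀ m : List ι, (∃ b : B, e * algebraMap B Bg (m.map (T a n)).prod = algebraMap B Bg b) →
      ∃ b : B, e = algebraMap B Bg b := by
    intro m
    induction m with
    | nil => rintro ⟨b, hb⟩; exact ⟨b, by simpa using hb⟩
    | cons i m ih =>
      rintro ⟨b, hb⟩
      refine ih ?_
      rw [List.map_cons, List.prod_cons] at hb
      have hsq : b ^ 2 = T a n i * ((m.map (T a n)).prod * b) := hinj (by
        simp only [map_pow, map_mul] at hb ⊢
        rw [← hb]
        linear_combination (algebraMap B Bg (T a n i) * algebraMap B Bg (m.map (T a n)).prod) ^ 2 * he.eq)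
      obtain ⟨c, hc⟩ := Ideal.mem_span_singleton.1
        (sq_mem_span_T hn hu hd i (Ideal.mem_span_singleton.2 ⟨_, hsq⟩))
      refine ⟨c, ?_⟩
      -- `T_i` is a nonzerodivisor of the localization
      have hreg : ∀ z : Bg, algebraMap B Bg (T a n i) * z = 0 → z = 0 := fun z hz => by
        obtain ⟨⟨w, s⟩, hs⟩ := IsLocalization.surj (Submonoid.powers g') z
        have : algebraMap B Bg (T a n i * w) = 0 := by rw [map_mul, ← hs, ← mul_assoc, hz, zero_mul]
        rw [T_nzd hn hd i w (hinj (by rw [this, map_zero])), map_zero] at hs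
        exact (IsLocalization.map_units Bg s).mul_left_eq_zero.1 hs
      refine sub_eq_zero.1 (hreg _ ?_)
      rw [hc] at hb
      simp only [map_mul] at hb ⊢
      linear_combination hb
  obtain ⟨⟨b₀, s⟩, hs⟩ := IsLocalization.surj (Submonoid.powers g') e
  obtain ⟨k, hk⟩ := s.2
  simp only at hk
  obtain ⟨b, hb⟩ : ∃ b : B, e = algebraMap B Bg b := by
    obtain ⟨w, l, hw, hgl⟩ := hg
    -- `g'` is a unit times a product of the `T_i`
    have hmon : ∀ l : List ι, ∃ m : List ι, (m.map (T a n)).prod = algebraMap A B (l.map a).prod := by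
      intro l
      induction l with
      | nil => exact ⟨[], by simp⟩
      | cons i l ih =>
        obtain ⟨m, hm⟩ := ih
        refine ⟨List.replicate (n i) i ++ m, ?_⟩
        rw [List.map_append, List.prod_append, List.map_replicate, List.prod_replicate, hm, T_pow,
          List.map_cons, List.prod_cons]
        exact (map_mul (algebraMap A (kummer A a n)) _ _).symm
    have hmono : ∃ m : List ι, (m.map (T a n)).prod = algebraMap A B ((l.map a).prod ^ k) := by
      obtain ⟨m, hm⟩ := hmon ((List.replicate k l).flatten)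
      refine ⟨m, hm.trans (congrArg _ ?_)⟩
      simp [List.map_flatten, List.prod_flatten]
    obtain ⟨m, hm⟩ := hmono
    obtain ⟨v, hv⟩ := (hw.map (algebraMap A B)).pow k
    refine key m ⟨(↑v⁻¹ : B) * b₀, ?_⟩
    have hgk : (s : B) = (v : B) * (m.map (T a n)).prod := by
      rw [← hk, hm, hv, show g' = algebraMap A B g from rfl, hgl, map_mul, mul_pow, map_pow]
    rw [show (m.map (T a n)).prod = ↑v⁻¹ * (s : B) by rw [hgk, Units.inv_mul_cancel_left], map_mul, map_mul, ← hs]
    ring
  have hb2 : IsIdempotentElem b := hinj (by rw [map_mul, ← hb]; exact he.eq)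
  rcases IsLocalRing.isUnit_or_isUnit_one_sub_self b with hb' | hb'
  · exact Or.inr (by rw [hb, (IsIdempotentElem.iff_eq_one_of_isUnit hb').1 hb2, map_one]) 
  · have := (IsIdempotentElem.iff_eq_one_of_isUnit hb').1 hb2.one_sub
    exact Or.inl (by rw [hb, show b = 0 by linear_combination -this, map_zero])

include hn hu ha hg in
theorem nontrivial_reduced (hd : SncData A a ⊥) :
    Nontrivial (Localization.Away (algebraMap A (kummer A a n) g)) := by
  haveI := isLocalRing hn ha
  refine (IsLocalization.injective _ (M := Submonoid.powers (algebraMap A (kummer A a n) g)) ?_ :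
    Function.Injective (algebraMap (kummer A a n) (Localization.Away (algebraMap A (kummer A a n) g)))).nontrivial
  rw [Submonoid.powers_le]
  exact mem_nonZeroDivisors_iff_left.2 fun z hz => g_nzd hn g hg hd z hz

end Reduced

theorem connectedSpace [Finite ι] [IsLocalRing A] (hn : ∀ i, 1 ≤ n i) (hu : ∀ i, IsUnit (n i : A))
    (ha : ∀ i, a i ∈ IsLocalRing.maximalIdeal A) {N : Ideal A} (hd : SncData A a N) (g : A)
    (hg : ∃ (w : A) (l : List ι), IsUnit w ∧ g = w * (l.map a).prod) :
    ConnectedSpace (PrimeSpectrum (Localization.Away (algebraMap A (kummer A a n) g))) := by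
  have hNm : N ≤ IsLocalRing.maximalIdeal A := fun x hx => (IsLocalRing.mem_maximalIdeal x).2 fun hxu =>
    hxu.not_isNilpotent (hd.nil x hx)
  let q : A →+* A ⧸ N := Ideal.Quotient.mk N
  haveI : Nontrivial (A ⧸ N) := Ideal.Quotient.nontrivial_iff.2 fun h =>
    IsLocalRing.maximalIdeal.isMaximal A |>.ne_top (top_le_iff.1 (h ▸ hNm))
  haveI : IsLocalRing (A ⧸ N) := IsLocalRing.of_surjective' q Ideal.Quotient.mk_surjective
  let a' : ι → A ⧸ N := q ∘ a
  have hd' : SncData (A ⧸ N) a' ⊥ := by
    have hsup : ∀ i, ((⊥ : Ideal (A ⧸ N)) ⊔ Ideal.span {a' i}).comap q = N ⊔ Ideal.span {a i} := fun i => by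
      rw [bot_sup_eq, show Ideal.span {a' i} = (Ideal.span {a i}).map q by
        rw [Ideal.map_span, Set.image_singleton]; rfl,
        Ideal.comap_map_of_surjective q Ideal.Quotient.mk_surjective, sup_comm]
      congr 1
      exact Ideal.mk_ker
    refine ⟨fun x hx => by simp [Ideal.mem_bot.1 hx], fun i x hx => ?_, fun i x hx => ?_, fun i j hij x hx => ?_⟩
    · obtain ⟨x, rfl⟩ := Ideal.Quotient.mk_surjective x
      rw [Ideal.mem_bot] at hx ⊢
      exact Ideal.Quotient.eq_zero_iff_mem.2 (hd.colon i x (Ideal.Quotient.eq_zero_iff_mem.1 (by simpa [a', q] using hx)))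
    · obtain ⟨x, rfl⟩ := Ideal.Quotient.mk_surjective x
      obtain ⟨k, hk⟩ := hx
      rw [← Ideal.mem_comap, hsup]
      exact hd.radical i ⟨k, by rw [← hsup, Ideal.mem_comap, map_pow]; exact hk⟩
    · obtain ⟨x, rfl⟩ := Ideal.Quotient.mk_surjective x
      rw [← Ideal.mem_comap, hsup]
      exact hd.colon₂ i j hij x (by rw [← hsup, Ideal.mem_comap, map_mul]; exact hx)
  have ha' : ∀ i, a' i ∈ IsLocalRing.maximalIdeal (A ⧸ N) := fun i =>
    (IsLocalRing.mem_maximalIdeal _).2 fun h => by
      haveI : IsLocalHom q := .of_surjective _ Ideal.Quotient.mk_surjective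
      exact (IsLocalRing.mem_maximalIdeal _).1 (ha i) (isUnit_of_map_unit q _ h)
  have hu' : ∀ i, IsUnit (n i : A ⧸ N) := fun i => by simpa using (hu i).map q
  have hg' : ∃ (w : A ⧸ N) (l : List ι), IsUnit w ∧ q g = w * (l.map a').prod := by
    obtain ⟨w, l, hw, rfl⟩ := hg
    exact ⟨q w, l, hw.map q, by rw [map_mul, map_list_prod, List.map_map]⟩
  haveI := nontrivial_reduced hn hu' ha' (q g) hg' hd'
  let ρ : kummer A a n →+* kummer (A ⧸ N) a' n :=
    lift ((algebraMap (A ⧸ N) _).comp q) (T a' n) fun i => T_pow i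
  let g₁ := algebraMap A (kummer A a n) g
  let g₂ := algebraMap (A ⧸ N) (kummer (A ⧸ N) a' n) (q g)
  have hρg : ρ g₁ = g₂ := lift_algebraMap ..
  let ρg : Localization.Away g₁ →+* Localization.Away g₂ :=
    IsLocalization.map (M := Submonoid.powers g₁) (T := Submonoid.powers g₂) _ ρ
      (Submonoid.powers_le.2 ⟨1, by simp [hρg]⟩)
  have hker : RingHom.ker ρ ≤ N.map (algebraMap A (kummer A a n)) := by
    let c : A ⧸ N →+* (kummer A a n) ⧸ N.map (algebraMap A (kummer A a n)) :=
      Ideal.Quotient.lift N ((Ideal.Quotient.mk _).comp (algebraMap A (kummer A a n)))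
        (fun x hx => Ideal.Quotient.eq_zero_iff_mem.2 (Ideal.mem_map_of_mem _ hx))
    let χ : kummer (A ⧸ N) a' n →+* (kummer A a n) ⧸ N.map (algebraMap A (kummer A a n)) :=
      lift c (fun i => Ideal.Quotient.mk _ (T a n i)) fun i => by
        rw [← map_pow, T_pow]
        rfl
    have hχ : χ.comp ρ = Ideal.Quotient.mk (N.map (algebraMap A (kummer A a n))) :=
      hom_ext (S := (kummer A a n) ⧸ N.map (algebraMap A (kummer A a n))) (g := χ.comp ρ)
        (h := Ideal.Quotient.mk (N.map (algebraMap A (kummer A a n))))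
        (fun x => by show χ (ρ _) = _; rw [lift_algebraMap, RingHom.comp_apply, lift_algebraMap]; rfl)
        fun i => by show χ (ρ _) = _; rw [lift_T, lift_T]
    intro z hz
    rw [← Ideal.Quotient.eq_zero_iff_mem, ← hχ, RingHom.comp_apply, RingHom.mem_ker.1 hz, map_zero]
  have hNB : ∀ z ∈ N.map (algebraMap A (kummer A a n)), IsNilpotent z := fun z hz => by
    rw [← mem_nilradical]
    refine (Ideal.map_le_iff_le_comap.2 fun x hx => ?_) hz
    rw [Ideal.mem_comap, mem_nilradical]
    exact (hd.nil x hx).map _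
  have hρnil : ∀ x : Localization.Away g₁, ρg x = 0 → IsNilpotent x := by
    intro x hx
    obtain ⟨⟨b, s⟩, hs⟩ := IsLocalization.surj (Submonoid.powers g₁) x
    have h1 : algebraMap _ (Localization.Away g₂) (ρ b) = 0 := by
      have := congrArg ρg hs
      rw [map_mul, hx, zero_mul] at this
      rw [show ρg = _ from rfl, IsLocalization.map_eq] at this
      exact this.symm
    obtain ⟨⟨_, m, rfl⟩, hm⟩ := (IsLocalization.map_eq_zero_iff (Submonoid.powers g₂) _ _).1 h1
    have h2 : IsNilpotent (g₁ ^ m * b) := hNB _ (hker (by simpa [hρg] using hm))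
    have h3 := h2.map (algebraMap (kummer A a n) (Localization.Away g₁))
    rw [map_mul, map_pow, ← hs, ← mul_assoc, mul_comm, ← mul_assoc] at h3
    obtain ⟨u, hu⟩ := (IsLocalization.map_units (Localization.Away g₁) s).mul
      ((IsLocalization.Away.algebraMap_isUnit g₁ (S := Localization.Away g₁)).pow m)
    obtain ⟨p, hp⟩ := h3
    refine ⟨p, ?_⟩
    rw [mul_pow] at hp
    exact ((u.isUnit.pow p).mul_right_eq_zero).1 (by rw [hu, ← mul_pow]; rw [← hp]; ring)
  haveI : Nontrivial (Localization.Away g₁) := ρg.domain_nontrivial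
  rw [connectedSpace_iff_clopen]
  refine ⟨inferInstance, fun s hs => ?_⟩
  obtain ⟨e, he, rfl⟩ := PrimeSpectrum.isClopen_iff.mp hs
  have h01 : e = 0 ∨ e = 1 := by
    rcases idem_reduced hn hu' ha' (q g) hg' hd' (ρg e) (he.map ρg) with h | h
    · obtain ⟨p, hp⟩ := hρnil e h
      left
      cases p with
      | zero => exact absurd (hp : (1 : Localization.Away g₁) = 0) one_ne_zero
      | succ p => rwa [he.pow_succ_eq] at hp
    · obtain ⟨p, hp⟩ := hρnil (1 - e) (by rw [map_sub, map_one, h, sub_self])
      right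
      cases p with
      | zero => exact absurd (hp : (1 : Localization.Away g₁) = 0) one_ne_zero
      | succ p => rw [he.one_sub.pow_succ_eq, sub_eq_zero] at hp; exact hp.symm
  rcases h01 with rfl | rfl <;> simp

end Groth.Pi1Tame.KR
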