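import Groth.Agent.Pi1Tame.KummerGalois
import Groth.Agent.Pi1Tame.Params
import Mathlib.RingTheory.UniqueFactorizationDomain.Basic
import Mathlib.RingTheory.UniqueFactorizationDomain.Ideal
import Mathlib.RingTheory.Localization.FractionRing

/-!
# Factorial normal subalgebras of Kummer algebras are Kummer algebras
-/

universe u

set_option autoImplicit false
set_option linter.style.haveILetI false
set_option linter.unusedSectionVars false
set_option backward.isDefEq.respectTransparency false

open SGA1 IsLocalRing

namespace Groth.Pi1Tame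

variable {A : Type u} [CommRing A] [IsDomain A] [IsRegularLocalRing A] {r : ℕ} {f : Fin r → A}
  {hm : ∀ i, f i ∈ maximalIdeal A}

theorem root_notMem_span_root {n : Fin r → ℕ}
    (hf : LinearIndependent (ResidueField A) (fun i => (maximalIdeal A).toCotangent ⟨f i, hm i⟩))
    (hn : ∀ i, 2 ≤ n i) {i j : Fin r} (hij : j ≠ i) :
    root A f n j ∉ Ideal.span {root A f n i} := by
  classical
  haveI := (kummer_regular hf hn).1
  obtain ⟨hT, hli⟩ := (kummer_regular hf hn).2
  intro h
  obtain ⟨c, hc⟩ := Ideal.mem_span_singleton.1 h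
  let m := maximalIdeal (kummerAlg A f n)
  have h1 : m.toCotangent ⟨root A f n j, hT j⟩ =
      residue _ c • m.toCotangent ⟨root A f n i, hT i⟩ := by
    change _ = c • m.toCotangent _
    rw [← map_smul]
    congr 1
    exact Subtype.ext (by simp [hc, mul_comm])
  have hz : ∑ k, (Pi.single j 1 - Pi.single i (residue _ c) : Fin r → ResidueField (kummerAlg A f n)) k •
      m.toCotangent ⟨root A f n k, hT k⟩ = 0 := by
    simp only [Pi.sub_apply, sub_smul, Finset.sum_sub_distrib]
    rw [Finset.sum_eq_single j (fun k _ hk => by simp [hk]) (fun h => absurd (Finset.mem_univ j) h),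
      Finset.sum_eq_single i (fun k _ hk => by simp [hk]) (fun h => absurd (Finset.mem_univ i) h)]
    simp [h1]
  have := Fintype.linearIndependent_iff.1 hli _ hz j
  simp [hij] at this

section

variable {n₀ : ℕ}

theorem repr_mul_root_pow (hn : 1 ≤ n₀) (i : Fin r) {a : ℕ} (ha : a < n₀) (z : kummerAlg A f fun _ => n₀) :
    (monoBasis (f := f) (n := fun _ : Fin r => n₀) fun _ => hn).repr (z * root A f _ i ^ a)
        (Function.update (fun _ => ⟨0, hn⟩) i ⟨a, ha⟩) =
      (monoBasis (f := f) (n := fun _ : Fin r => n₀) fun _ => hn).repr z (fun _ => ⟨0, hn⟩) := by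
  classical
  let n : Fin r → ℕ := fun _ => n₀
  let β := monoBasis (f := f) (n := n) fun _ => hn
  let o : Fin r → Fin n₀ := fun _ => ⟨0, hn⟩
  have hsplit : ∀ d : Fin r → Fin n₀, mono (f := f) (n := n) d =
      root A f n i ^ (d i : ℕ) * ∏ j ∈ Finset.univ.erase i, root A f n j ^ (d j : ℕ) := fun d =>
    (Finset.mul_prod_erase _ (fun j => root A f n j ^ (d j : ℕ)) (Finset.mem_univ i)).symm
  have hup : ∀ (d : Fin r → Fin n₀) (k : Fin n₀), mono (f := f) (n := n) (Function.update d i k) =
      root A f n i ^ (k : ℕ) * ∏ j ∈ Finset.univ.erase i, root A f n j ^ (d j : ℕ) := fun d k => by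
    rw [hsplit, Function.update_self]
    congr 1
    exact Finset.prod_congr rfl fun j hj => by rw [Function.update_of_ne (Finset.ne_of_mem_erase hj)]
  have hni : n i = n₀ := rfl
  suffices h : (Finsupp.lapply (Function.update o i ⟨a, ha⟩)).comp
      (β.repr.toLinearMap.comp (LinearMap.mulRight A (root A f n i ^ a))) =
      (Finsupp.lapply o).comp β.repr.toLinearMap from LinearMap.congr_fun h z
  refine β.ext fun b => ?_
  change β.repr (β b * root A f n i ^ a) (Function.update o i ⟨a, ha⟩) = β.repr (β b) o
  rw [β.repr_self b, monoBasis_apply]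
  by_cases hb : b = o
  · subst hb
    have : mono (f := f) (n := n) o * root A f n i ^ a = β (Function.update o i ⟨a, ha⟩) := by
      rw [monoBasis_apply, hup, hsplit]
      simp [o, mul_comm]
    rw [this, β.repr_self, Finsupp.single_eq_same, Finsupp.single_eq_same]
  · rw [Finsupp.single_eq_of_ne (Ne.symm hb)]
    by_cases hlt : (b i : ℕ) + a < n₀
    · have : mono (f := f) (n := n) b * root A f n i ^ a = β (Function.update b i ⟨_, hlt⟩) := by
        rw [monoBasis_apply, hup, hsplit, mul_right_comm, ← pow_add]
      rw [this, β.repr_self]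
      refine Finsupp.single_eq_of_ne fun he => hb ?_
      funext j
      by_cases hj : j = i
      · subst hj
        have h' := congrArg Fin.val (congrFun he j)
        simp only [Function.update_self] at h'
        exact Fin.ext (by simp only [o]; omega)
      · simpa [hj] using (congrFun he j).symm
    · have hlt' : (b i : ℕ) + a - n₀ < n₀ := by have := (b i).isLt; omega
      have : mono (f := f) (n := n) b * root A f n i ^ a = f i • β (Function.update b i ⟨_, hlt'⟩) := by
        rw [monoBasis_apply, hup, hsplit, smul_eq, ← root_pow, mul_right_comm, ← pow_add, ← mul_assoc, ← pow_add]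
        congr 2
        change _ = n₀ + ((b i : ℕ) + a - n₀)
        omega
      rw [this, map_smul, β.repr_self, Finsupp.smul_apply]
      rw [Finsupp.single_eq_of_ne, smul_zero]
      intro he
      have h' := congrArg Fin.val (congrFun he i)
      simp only [Function.update_self] at h'
      have := (b i).isLt
      omega

variable {ζ : A} {B : Type u} [CommRing B] [IsDomain B] [Algebra A B] [IsIntegrallyClosed B]
  [UniqueFactorizationMonoid B]

/-- A factorial normal subalgebra of a Kummer algebra is a Kummer algebra. -/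
theorem nonempty_algEquiv_kummer [∀ i, (Ideal.span {f i}).IsPrime]
    (hf : LinearIndependent (ResidueField A) (fun i => (maximalIdeal A).toCotangent ⟨f i, hm i⟩))
    (hn₀ : 2 ≤ n₀) (hζ : IsPrimitiveRoot ζ n₀) (ι : B →ₐ[A] kummerAlg A f fun _ => n₀)
    (hι : Function.Injective ι) :
    ∃ e : Fin r → ℕ, (∀ i, 1 ≤ e i) ∧ (∀ i, e i ∣ n₀) ∧ Nonempty (B ≃ₐ[A] kummerAlg A f e) := by
  classical
  let n : Fin r → ℕ := fun _ => n₀
  let A' := kummerAlg A f n
  have hn : ∀ _ : Fin r, 2 ≤ n₀ := fun _ => hn₀
  have hn1 : 1 ≤ n₀ := le_trans one_le_two hn₀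
  haveI : IsDomain A' := isDomain_kummer hf hn
  haveI : IsRegularLocalRing A' := (kummer_regular hf hn).1
  haveI : Module.Finite A A' := module_finite fun _ => hn1
  haveI : Algebra.IsIntegral A A' := inferInstance
  let K := FractionRing A
  let L := FractionRing A'
  haveI : FaithfulSMul A L := by
    rw [faithfulSMul_iff_algebraMap_injective, IsScalarTower.algebraMap_eq A A' L]
    exact (IsFractionRing.injective A' L).comp (injective_algebraMap fun _ => hn1)
  letI : Algebra K L := FractionRing.liftAlgebra A L
  let β := monoBasis (f := f) (n := n) fun _ => hn1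
  let o : Fin r → Fin n₀ := fun _ => ⟨0, hn1⟩
  have hf0 : ∀ i, f i ≠ 0 := param_ne_zero hf
  let B' := ι.range
  -- saturation
  have hsat : ∀ (z : A') (a : A), a ≠ 0 → algebraMap A A' a * z ∈ B' → z ∈ B' := by
    intro z a ha hmem
    obtain ⟨w, hw⟩ := (AlgHom.mem_range ι).1 hmem
    let g : B →ₐ[A] L := (IsScalarTower.toAlgHom A A' L).comp ι
    have hg : Function.Injective g := (IsFractionRing.injective A' L).comp hι
    let G : FractionRing B →ₐ[A] L := IsFractionRing.liftAlgHom hg
    have hab : algebraMap A B a ≠ 0 := fun h => by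
      have := congrArg ι h
      rw [AlgHom.commutes, map_zero] at this
      exact ha ((map_eq_zero_iff _ (injective_algebraMap fun _ => hn1)).1 this)
    have hGB : ∀ y : B, G (algebraMap B _ y) = algebraMap A' L (ι y) := fun y =>
      IsFractionRing.lift_algebraMap (K := FractionRing B) hg y
    let q := algebraMap B (FractionRing B) w / algebraMap B (FractionRing B) (algebraMap A B a)
    have hGq : G q = algebraMap A' L z := by
      rw [map_div₀, hGB, hGB, hw, AlgHom.commutes, map_mul, mul_div_cancel_left₀]
      exact (map_ne_zero_iff _ (IsFractionRing.injective A' L)).2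
        ((map_ne_zero_iff _ (injective_algebraMap fun _ => hn1)).2 ha)
    have hint : IsIntegral A q := (isIntegral_algHom_iff G G.toRingHom.injective).1
      (hGq ▸ (Algebra.IsIntegral.isIntegral (R := A) z).map (IsScalarTower.toAlgHom A A' L))
    obtain ⟨y, hy⟩ := IsIntegrallyClosed.isIntegral_iff.1 (hint.tower_top (A := B))
    refine (AlgHom.mem_range ι).2 ⟨y, IsFractionRing.injective A' L ?_⟩
    rw [← hGB, hy, hGq]
  have hfactor : ∀ x ∈ B', ∀ b, β.repr x b ≠ 0 → mono (f := f) (n := n) b ∈ B' := fun x hx b hb =>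
    mono_mem (f := f) K L hζ hn1 B' hsat hx b hb
  -- the primes below the roots
  have hprime : ∀ i, (Ideal.span {root A f n i}).IsPrime := isPrime_span_root hf hn
  have hpr : ∀ i, Prime (root A f n i) := fun i =>
    (Ideal.span_singleton_prime (root_ne_zero hf hn i)).1 (hprime i)
  have hP : ∀ i, ∃ π : B, Prime π ∧ root A f n i ∣ ι π := fun i => by
    haveI := hprime i
    let P := (Ideal.span {root A f n i}).comap ι.toRingHom
    have hfP : algebraMap A B (f i) ∈ P := by
      change ι (algebraMap A B (f i)) ∈ Ideal.span {root A f n i}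
      rw [AlgHom.commutes, ← root_pow]
      exact Ideal.pow_mem_of_mem _ (Ideal.mem_span_singleton_self _) _ hn1
    have hne : P ≠ ⊥ := fun h => by
      rw [h, Ideal.mem_bot] at hfP
      have := congrArg ι hfP
      rw [AlgHom.commutes, map_zero] at this
      exact hf0 i ((map_eq_zero_iff _ (injective_algebraMap fun _ => hn1)).1 this)
    obtain ⟨π, hπP, hπ⟩ := (inferInstance : P.IsPrime).exists_mem_prime_of_ne_bot hne
    exact ⟨π, hπ, Ideal.mem_span_singleton.1 hπP⟩
  choose π hπ hTπ using hP
  have hdvd : ∀ i (y : B), root A f n i ∣ ι y → π i ∣ y := by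
    intro i y hy
    -- `π i` divides `f i`: some prime factor of `f i` lies below the root
    haveI := hprime i
    let P := (Ideal.span {root A f n i}).comap ι.toRingHom
    have hfP : algebraMap A B (f i) ∈ P := by
      change ι (algebraMap A B (f i)) ∈ Ideal.span {root A f n i}
      rw [AlgHom.commutes, ← root_pow]
      exact Ideal.pow_mem_of_mem _ (Ideal.mem_span_singleton_self _) _ hn1
    have hfB : algebraMap A B (f i) ≠ 0 := fun h => by
      have := congrArg ι h
      rw [AlgHom.commutes, map_zero] at this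
      exact hf0 i ((map_eq_zero_iff _ (injective_algebraMap fun _ => hn1)).1 this)
    obtain ⟨s, hs, hsf⟩ := UniqueFactorizationMonoid.exists_prime_factors _ hfB
    obtain ⟨u, hu⟩ := hsf
    have hsP : s.prod ∈ P := by
      have : s.prod = algebraMap A B (f i) * ↑u⁻¹ := by rw [← hu, mul_assoc, Units.mul_inv, mul_one]
      rw [this]; exact P.mul_mem_right _ hfP
    obtain ⟨p, hps, hpP⟩ := (Ideal.IsPrime.multiset_prod_mem_iff_exists_mem inferInstance s).1 hsP
    have hpr' := hs p hps
    have hpf : p ∣ algebraMap A B (f i) := by rw [← hu]; exact (Multiset.dvd_prod hps).mul_right _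
    obtain ⟨c, hc⟩ := hpf
    have hTp : root A f n i ∣ ι p := Ideal.mem_span_singleton.1 hpP
    -- every element divisible by the root is divisible by `p`
    have key : ∀ y : B, root A f n i ∣ ι y → p ∣ y := by
      intro y hy
      obtain ⟨a, -, hassoc⟩ := (dvd_prime_pow (hpr i) n₀).1 (show ι p ∣ root A f n i ^ n₀ by
        rw [show root A f n i ^ n₀ = algebraMap A A' (f i) from root_pow A f n i, ← AlgHom.commutes ι, hc, map_mul]
        exact dvd_mul_right _ _)
      obtain ⟨z, hz⟩ : ι p ∣ ι (y ^ a) := by
        rw [map_pow]; exact hassoc.dvd.trans (pow_dvd_pow_of_dvd hy a)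
      have hzB : z ∈ B' := hsat z (f i) (hf0 i) ((AlgHom.mem_range ι).2 ⟨c * y ^ a, by
        rw [← AlgHom.commutes ι, hc, map_mul, map_mul, hz]; ring⟩)
      obtain ⟨z', rfl⟩ := (AlgHom.mem_range ι).1 hzB
      exact hpr'.dvd_of_dvd_pow ⟨z', hι (by rw [hz, map_mul])⟩
    exact ((hpr'.irreducible.associated_of_dvd (hπ i).irreducible (key _ (hTπ i))).dvd_iff_dvd_left).1 (key y hy)
  have hassoc : ∀ i, ∃ a, 1 ≤ a ∧ a ≤ n₀ ∧ Associated (ι (π i)) (root A f n i ^ a) := fun i => by
    obtain ⟨a, ha, h⟩ := (dvd_prime_pow (hpr i) n₀).1 (show ι (π i) ∣ root A f n i ^ n₀ by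
      rw [show root A f n i ^ n₀ = algebraMap A A' (f i) from root_pow A f n i, ← AlgHom.commutes ι]
      exact map_dvd ι (hdvd i _ (by
        rw [AlgHom.commutes, ← root_pow]
        exact dvd_pow_self _ (by change n₀ ≠ 0; omega))))
    refine ⟨a, Nat.one_le_iff_ne_zero.2 fun h0 => ?_, ha, h⟩
    rw [h0, pow_zero] at h
    exact (hpr i).not_unit (isUnit_of_dvd_unit (hTπ i) (associated_one_iff_isUnit.1 h))
  choose a ha1 han hassoc using hassoc
  have hord : ∀ i (m : ℕ) (y : B) (rest : A'), ¬ root A f n i ∣ rest → ι y = root A f n i ^ m * rest → a i ∣ m := by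
    intro i m
    induction m using Nat.strong_induction_on with
    | _ m ih =>
      intro y rest hrest hy
      rcases Nat.eq_zero_or_pos m with rfl | hm0
      · exact dvd_zero _
      obtain ⟨y', rfl⟩ := hdvd i y (by rw [hy]; exact (dvd_pow_self _ hm0.ne').mul_right _)
      obtain ⟨v, hv⟩ := (hassoc i).symm
      rw [map_mul, ← hv] at hy
      by_cases ham : a i ≤ m
      · have h1 : ι y' = root A f n i ^ (m - a i) * (rest * ↑v⁻¹) := by
          refine mul_left_cancel₀ (a := root A f n i ^ a i * ↑v) (mul_ne_zero (pow_ne_zero _ (hpr i).ne_zero) v.ne_zero) ?_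
          rw [hy, show root A f n i ^ m = root A f n i ^ a i * root A f n i ^ (m - a i) from by
            rw [← pow_add, Nat.add_sub_cancel' ham]]
          linear_combination (root A f n i ^ a i * root A f n i ^ (m - a i) * rest) * (Units.mul_inv v).symm
        have h2 := ih (m - a i) (by have := ha1 i; omega) y' _ (fun h => hrest (Units.dvd_mul_right.1 h)) h1
        have := Nat.dvd_add h2 (dvd_refl (a i))
        rwa [Nat.sub_add_cancel ham] at this
      · exfalso
        refine hrest ⟨root A f n i ^ (a i - m - 1) * (↑v * ι y'), mul_left_cancel₀ (pow_ne_zero m (hpr i).ne_zero) ?_⟩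
        rw [← hy, ← mul_assoc (root A f n i), ← pow_succ', ← mul_assoc (root A f n i ^ m), ← pow_add,
          show m + (a i - m - 1 + 1) = a i by omega]
        ring
  have han' : ∀ i, a i ∣ n₀ := fun i => hord i n₀ (algebraMap A B (f i)) 1
    (fun h => (hpr i).not_unit (isUnit_of_dvd_one h)) (by rw [mul_one, AlgHom.commutes, ← root_pow])
  -- the powers of the roots in the subalgebra
  have hpow : ∀ i, root A f n i ^ a i ∈ B' := fun i => by
    rcases Nat.lt_or_ge (a i) n₀ with hlt | hge
    · obtain ⟨v, hv⟩ := (hassoc i).symm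
      have hx : ι (π i) ∈ B' := (AlgHom.mem_range ι).2 ⟨_, rfl⟩
      have hmem := hfactor _ hx (Function.update o i ⟨a i, hlt⟩) (by
        rw [← hv, mul_comm, repr_mul_root_pow hn1 i hlt]
        intro h0
        obtain ⟨hT, -⟩ := (kummer_regular hf hn).2
        refine (mem_maximalIdeal _).1 ?_ v.isUnit
        rw [← β.sum_repr (v : A')]
        refine Ideal.sum_mem _ fun b _ => ?_
        by_cases hb : b = o
        · rw [hb, h0, zero_smul]; exact zero_mem _
        · obtain ⟨k, hk⟩ := Function.ne_iff.1 hb
          rw [smul_eq, monoBasis_apply]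
          refine Ideal.mul_mem_left _ _ (Ideal.prod_mem (i := k) (maximalIdeal A') (Finset.mem_univ k) ?_)
          exact Ideal.pow_mem_of_mem _ (hT k) _ (Nat.pos_of_ne_zero fun h => hk (Fin.ext h)))
      have hmo : mono (f := f) (n := n) (Function.update o i ⟨a i, hlt⟩) = root A f n i ^ a i := by
        rw [mono, Finset.prod_eq_single i (fun j _ hj => by simp [o, hj]) (fun h => absurd (Finset.mem_univ i) h)]
        simp
      rwa [hmo] at hmem
    · rw [le_antisymm (han i) hge, show root A f n i ^ n₀ = algebraMap A A' (f i) from root_pow A f n i]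
      exact B'.algebraMap_mem _
  let e : Fin r → ℕ := fun i => n₀ / a i
  have hea : ∀ i, a i * e i = n₀ := fun i => Nat.mul_div_cancel' (han' i)
  have he1 : ∀ i, 1 ≤ e i := fun i => Nat.div_pos (han i) (ha1 i)
  let φ : kummerAlg A f e →ₐ[A] A' :=
    { toRingHom := lift (algebraMap A A') (fun i => root A f n i ^ a i) (fun i => by
        rw [← pow_mul, hea]; exact root_pow A f n i)
      commutes' := fun c => lift_algebraMap _ _ _ c }
  have hφroot : ∀ i, φ (root A f e i) = root A f n i ^ a i := fun i =>
    lift_root (algebraMap A A') (fun i => root A f n i ^ a i) (fun i => by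
      rw [← pow_mul, hea]; exact root_pow A f n i) i
  have hlt : ∀ (b : ∀ i, Fin (e i)) i, a i * (b i : ℕ) < n₀ := fun b i => by
    rw [← hea i]; exact Nat.mul_lt_mul_of_pos_left (b i).isLt (ha1 i)
  have hφmono : ∀ b : (∀ i, Fin (e i)), φ (mono b) = mono (n := n) fun i => ⟨a i * (b i : ℕ), hlt b i⟩ := fun b => by
    simp only [mono, map_prod, map_pow, hφroot, ← pow_mul]
  have hφinj : Function.Injective φ := by
    let γ := monoBasis (f := f) (n := e) he1
    refine (injective_iff_map_eq_zero φ).2 fun z hz => γ.repr.map_eq_zero_iff.1 (Finsupp.ext fun b => ?_)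
    have hinj : Function.Injective fun (b : ∀ i, Fin (e i)) => (fun i => (⟨a i * (b i : ℕ), hlt b i⟩ : Fin n₀)) :=
      fun b c hbc => funext fun i => Fin.ext (Nat.eq_of_mul_eq_mul_left (ha1 i) (congrArg Fin.val (congrFun hbc i)))
    refine Fintype.linearIndependent_iff.1 (β.linearIndependent.comp _ hinj) (fun b => γ.repr z b) ?_ b
    rw [← hz]
    conv_rhs => rw [← γ.sum_repr z, map_sum]
    exact Finset.sum_congr rfl fun c _ => by rw [Function.comp_apply, monoBasis_apply, map_smul, monoBasis_apply, hφmono]
  have hrange : φ.range = B' := by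
    refine le_antisymm ?_ fun x hx => ?_
    · rintro _ ⟨z, rfl⟩
      refine induction_on (P := fun z => φ z ∈ B') z (fun c => ?_) (fun u v hu hv => ?_) (fun u i hu => ?_)
      · rw [AlgHom.commutes]; exact B'.algebraMap_mem _
      · rw [map_add]; exact add_mem hu hv
      · rw [map_mul, hφroot]; exact mul_mem hu (hpow i)
    · rw [← β.sum_repr x]
      refine Subalgebra.sum_mem _ fun b _ => ?_
      by_cases hb : β.repr x b = 0
      · rw [hb, zero_smul]; exact zero_mem _
      refine Subalgebra.smul_mem _ ?_ _
      obtain ⟨y, hy⟩ := (AlgHom.mem_range ι).1 (hfactor x hx b hb)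
      have hdiv : ∀ i, a i ∣ (b i : ℕ) := fun i => by
        refine hord i _ y (∏ j ∈ Finset.univ.erase i, root A f n j ^ (b j : ℕ)) (fun h => ?_)
          (hy.trans (Finset.mul_prod_erase _ (fun j => root A f n j ^ (b j : ℕ)) (Finset.mem_univ i)).symm)
        obtain ⟨j, hj, hdj⟩ := (hpr i).exists_mem_finset_dvd h
        exact root_notMem_span_root hf hn (Finset.ne_of_mem_erase hj)
          (Ideal.mem_span_singleton.2 ((hpr i).dvd_of_dvd_pow hdj))
      rw [monoBasis_apply]
      refine (AlgHom.mem_range φ).2 ⟨∏ i, root A f e i ^ ((b i : ℕ) / a i), ?_⟩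
      simp only [mono, map_prod, map_pow, hφroot, ← pow_mul, Nat.mul_div_cancel' (hdiv _)]
  refine ⟨e, he1, fun i => Dvd.intro_left _ (hea i), ⟨?_⟩⟩
  exact (AlgEquiv.ofInjective ι hι).trans ((Subalgebra.equivOfEq _ _ hrange.symm).trans (AlgEquiv.ofInjective φ hφinj).symm)

end

end Groth.Pi1Tame
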