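import Groth.Agent.S0516
import Groth.Agent.Hensel1.Finite
import Groth.Agent.Ega4Algebra1.RegularLocal
import Mathlib

/-!
# Covers trivialised by adjoining a `p`-th root descend to the split cover

If `B` is finite étale over `A[1/f]` and becomes split over `A[1/f][t]/(t^p - f)`, and `p` is not a
unit in `A[1/f]`, then every point `B → A[1/f][t]/(t^p - f)` lands in `A[1/f]`: two such points
conjugate by a root of unity agree modulo a prime over `p`, so agree by unramifiedness.
-/

universe u

set_option autoImplicit false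
set_option linter.style.haveILetI false

open Polynomial IsLocalRing TensorProduct

namespace Groth.Pi1Tame

/-- Homomorphisms from an unramified algebra to a domain which agree modulo a proper ideal are equal. -/
theorem algHom_eq_of_sub_mem {S B D : Type u} [CommRing S] [CommRing B] [CommRing D] [IsDomain D] [Algebra S B]
    [Algebra S D] [Algebra.EssFiniteType S B] [Algebra.FormallyUnramified S B] {M : Ideal D} (hM : M ≠ ⊤)
    {g h : B →ₐ[S] D} (hgh : ∀ b, g b - h b ∈ M) : g = h := by
  obtain ⟨t, ht, ht1⟩ := Algebra.FormallyUnramified.iff_exists_tensorProduct.1 ‹Algebra.FormallyUnramified S B›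
  let ψ : B ⊗[S] B →ₐ[S] D := Algebra.TensorProduct.lift g h fun _ _ => Commute.all _ _
  let ψ' : B ⊗[S] B →ₐ[S] D := Algebra.TensorProduct.lift h h fun _ _ => Commute.all _ _
  have hψ : ψ' = h.comp (Algebra.TensorProduct.lmul' S) := by
    ext x <;> simp [ψ']
  have hq : (Ideal.Quotient.mkₐ S M).comp ψ = (Ideal.Quotient.mkₐ S M).comp ψ' := by
    ext x
    · simpa [ψ, ψ', Ideal.Quotient.eq] using hgh x
    · simp [ψ, ψ']
  have hu : ψ t ≠ 0 := by
    intro h0
    have := DFunLike.congr_fun hq t
    simp only [AlgHom.comp_apply, h0, map_zero, hψ, ht1, map_one] at this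
    exact hM ((Ideal.eq_top_iff_one M).2 (Ideal.Quotient.eq_zero_iff_mem.1 (by simpa using this.symm)))
  ext b
  have := congrArg ψ (ht b)
  simp only [ψ, map_mul, map_sub, map_zero, Algebra.TensorProduct.lift_tmul, map_one, one_mul, mul_one] at this
  exact (sub_eq_zero.1 ((mul_eq_zero.1 this).resolve_right hu)).symm

/-- A finite étale algebra over a strictly henselian local ring is split. -/
theorem exists_algEquiv_pi (R : Type u) [CommRing R] [HenselianLocalRing R] [IsSepClosed (ResidueField R)]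
    (C : Type u) [CommRing C] [Algebra R C] [Module.Finite R C] [Algebra.Etale R C] :
    ∃ (ι : Type u) (_ : Fintype ι), Nonempty (C ≃ₐ[R] (ι → R)) := by
  classical
  obtain ⟨ι, _, A, _, _, B, _, _, hA, hB, ⟨e⟩⟩ := Groth.Agent.S0516.result R C
  haveI : Module.Finite R ((∀ i, A i) × B) := Module.Finite.equiv e.toLinearEquiv
  haveI : Module.Finite R B :=
    Module.Finite.of_surjective (LinearMap.snd R (∀ i, A i) B) Prod.snd_surjective
  haveI : Subsingleton B := by
    have h1 : (maximalIdeal R) • (⊤ : Submodule R B) = ⊤ := by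
      rw [Ideal.smul_top_eq_map, hB]
      rfl
    have h2 := Submodule.eq_bot_of_le_smul_of_le_jacobson_bot (maximalIdeal R) (⊤ : Submodule R B)
      Module.Finite.fg_top h1.ge (maximalIdeal_le_jacobson _)
    exact ⟨fun x y => by
      rw [(Submodule.mem_bot R).1 (h2 ▸ Submodule.mem_top : x ∈ (⊥ : Submodule R B)),
        (Submodule.mem_bot R).1 (h2 ▸ Submodule.mem_top : y ∈ (⊥ : Submodule R B))]⟩
  haveI : Module.Flat R C := inferInstance
  haveI : Module.Flat R ((∀ i, A i) × B) := Module.Flat.of_linearEquiv e.symm.toLinearEquiv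
  have hproj : ∀ i, Nontrivial (A i) → Function.Bijective (algebraMap R (A i)) := by
    intro i _
    haveI : Module.Finite R (A i) := Module.Finite.of_surjective (Algebra.linearMap R (A i)) (hA i)
    haveI : Module.Flat R (A i) := Module.Flat.of_retract
      ((LinearMap.inl R (∀ i, A i) B).comp (LinearMap.single R A i))
      ((LinearMap.proj i).comp (LinearMap.fst R (∀ i, A i) B)) (by ext; simp)
    haveI : Module.Free R (A i) := Module.free_of_flat_of_isLocalRing
    exact ⟨FaithfulSMul.algebraMap_injective R (A i), hA i⟩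
  refine ⟨{i // Nontrivial (A i)}, inferInstance, ⟨e.trans ?_⟩⟩
  let Φ : ({i // Nontrivial (A i)} → R) →ₐ[R] (∀ i, A i) × B :=
    AlgHom.prod (AlgHom.pi fun i => if h : Nontrivial (A i) then
      (Algebra.ofId R (A i)).comp (Pi.evalAlgHom R (fun _ => R) ⟨i, h⟩) else
      haveI : Subsingleton (A i) := not_nontrivial_iff_subsingleton.1 h
      { toFun := fun _ => 0
        map_one' := Subsingleton.elim _ _
        map_mul' := fun _ _ => Subsingleton.elim _ _
        map_zero' := rfl
        map_add' := fun _ _ => Subsingleton.elim _ _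
        commutes' := fun _ => Subsingleton.elim _ _ })
      { toFun := fun _ => 0
        map_one' := Subsingleton.elim _ _
        map_mul' := fun _ _ => Subsingleton.elim _ _
        map_zero' := rfl
        map_add' := fun _ _ => Subsingleton.elim _ _
        commutes' := fun _ => Subsingleton.elim _ _ }
  refine (AlgEquiv.ofBijective Φ ⟨fun x y hxy => funext fun ⟨i, hi⟩ => ?_, fun z => ?_⟩).symm
  · have := congrFun (congrArg Prod.fst hxy) i
    simp [Φ, hi] at this
    exact (hproj i hi).1 this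
  · refine ⟨fun i => Function.surjInv (hA i.1) (z.1 i.1), Prod.ext (funext fun i => ?_) (Subsingleton.elim _ _)⟩
    by_cases hi : Nontrivial (A i)
    · simp [Φ, hi, Function.surjInv_eq]
    · haveI : Subsingleton (A i) := not_nontrivial_iff_subsingleton.1 hi
      exact Subsingleton.elim _ _

section

variable {A : Type u} [CommRing A] [IsDomain A] (p : ℕ) [hp0 : Fact p.Prime] {f : A}

local notation "R" => AdjoinRoot (X ^ p - C f)
local notation "Af" => Localization.Away f
local notation "Q" => Localization.Away (AdjoinRoot.of (X ^ p - C f) f)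

/-- Points of an unramified algebra with values in `A[1/f][t]/(t^p - f)` lie in `A[1/f]`. -/
theorem exists_eq_map (hf : f ≠ 0) (hpA : (p : A) ≠ 0) (hunit : ¬ IsUnit (p : Af))
    (B : Type u) [CommRing B] [Algebra A B] [Algebra Af B] [IsScalarTower A Af B] [Algebra.EssFiniteType Af B]
    [Algebra.FormallyUnramified Af B] [Algebra Af Q] [IsScalarTower A Af Q] (φ : B →ₐ[A] Q) (b : B) :
    ∃ c : Af, φ b = algebraMap Af Q c := by
  classical
  let L := AlgebraicClosure (FractionRing A)
  have hinjA : Function.Injective (algebraMap A L) := by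
    rw [IsScalarTower.algebraMap_eq A (FractionRing A) L]
    exact (algebraMap (FractionRing A) L).injective.comp (IsFractionRing.injective A _)
  have hfu : IsUnit (algebraMap A L f) := isUnit_iff_ne_zero.2 ((map_ne_zero_iff _ hinjA).2 hf)
  letI : Algebra Af L := (IsLocalization.Away.lift f hfu).toAlgebra
  haveI : IsScalarTower A Af L :=
    IsScalarTower.of_algebraMap_eq fun a => (IsLocalization.Away.lift_eq f hfu a).symm
  let D := integralClosure Af L
  haveI : FaithfulSMul A L := (faithfulSMul_iff_algebraMap_injective A L).2 hinjA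
  -- the roots
  let rts := ((X ^ p - C f : A[X]).aroots L).toFinset
  have hsep : (X ^ p - C (algebraMap A L f)).Separable := by
    refine separable_X_pow_sub_C _ ?_ hfu.ne_zero
    rw [← map_natCast (algebraMap A L)]
    exact (map_ne_zero_iff _ hinjA).2 hpA
  have hcard : rts.card = p := by
    rw [Multiset.toFinset_card_of_nodup, IsAlgClosed.card_aroots_eq_natDegree_of_leadingCoeff_ne_zero,
      natDegree_X_pow_sub_C]
    · rw [(monic_X_pow_sub_C f hp0.out.ne_zero).leadingCoeff, map_one]
      exact one_ne_zero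
    · apply nodup_roots
      rw [Polynomial.map_sub, Polynomial.map_pow, map_X, map_C]
      exact hsep
  have hroot : ∀ ρ ∈ rts, ρ ^ p = algebraMap A L f := fun ρ hρ => by
    have := (mem_aroots.1 (Multiset.mem_toFinset.1 hρ)).2
    rwa [map_sub, map_pow, aeval_X, aeval_C, sub_eq_zero] at this
  have hint : ∀ ρ ∈ rts, ρ ∈ D := fun ρ hρ => by
    refine ⟨X ^ p - C (algebraMap A Af f), monic_X_pow_sub_C _ hp0.out.ne_zero, ?_⟩
    rw [eval₂_sub, eval₂_X_pow, eval₂_C, ← IsScalarTower.algebraMap_apply A Af L, hroot ρ hρ, sub_self]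
  have hfD : IsUnit (algebraMap A D f) := by
    rw [IsScalarTower.algebraMap_apply A Af D]
    exact (IsLocalization.Away.algebraMap_isUnit f).map _
  let θ₀ : ∀ ρ ∈ rts, R →ₐ[A] D := fun ρ hρ =>
    AdjoinRoot.liftAlgHom _ (Algebra.ofId A D) ⟨ρ, hint ρ hρ⟩ (Subtype.ext (by
      simp [eval₂_sub, hroot ρ hρ]))
  have hθf : ∀ ρ hρ, IsUnit (θ₀ ρ hρ (AdjoinRoot.of _ f)) := fun ρ hρ => by
    rw [← AdjoinRoot.algebraMap_eq, AlgHom.commutes]
    exact hfD
  let θ : ∀ ρ ∈ rts, Q →ₐ[A] D := fun ρ hρ =>
    { IsLocalization.Away.lift (AdjoinRoot.of (X ^ p - C f) f) (g := (θ₀ ρ hρ).toRingHom) (hθf ρ hρ) with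
      commutes' := fun a => by
        rw [IsScalarTower.algebraMap_apply A R Q]
        exact (IsLocalization.Away.lift_eq _ _ _).trans ((θ₀ ρ hρ).commutes a) }
  have hθ : ∀ ρ hρ (r : R), θ ρ hρ (algebraMap R Q r) = θ₀ ρ hρ r := fun ρ hρ r =>
    IsLocalization.Away.lift_eq (AdjoinRoot.of (X ^ p - C f) f) (g := (θ₀ ρ hρ).toRingHom) (hθf ρ hρ) r
  -- a prime over `p`
  obtain ⟨q, hq, hpq⟩ := Ideal.exists_le_maximal (Ideal.span {(p : Af)})
    (fun h => hunit (Ideal.span_singleton_eq_top.1 h))
  haveI := hq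
  obtain ⟨M, hM, hMq⟩ : ∃ M : Ideal D, M.IsPrime ∧ M.comap (algebraMap Af D) = q := by
    haveI : Algebra.IsIntegral Af D := inferInstance
    have hinj : Function.Injective (algebraMap Af D) := by
      refine (injective_iff_map_eq_zero _).2 fun x hx => ?_
      obtain ⟨⟨a, s⟩, hs⟩ := IsLocalization.surj (Submonoid.powers f) x
      have h1 : algebraMap A L a = 0 := by
        rw [IsScalarTower.algebraMap_apply A Af L, ← hs, map_mul]
        rw [show algebraMap Af L x = 0 from congrArg Subtype.val hx, zero_mul]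
      rw [(map_eq_zero_iff _ hinjA).1 h1, map_zero] at hs
      exact (IsLocalization.map_units Af s).mul_left_eq_zero.1 hs
    obtain ⟨M, -, hM, hMq⟩ := Ideal.exists_ideal_over_prime_of_isIntegral q (⊥ : Ideal D) (by
      rw [← RingHom.ker_eq_comap_bot, (RingHom.injective_iff_ker_eq_bot _).1 hinj]; exact bot_le)
    exact ⟨M, hM, hMq⟩
  haveI := hM
  have hpM : ((p : ℕ) : D ⧸ M) = 0 := by
    have : (p : Af) ∈ M.comap (algebraMap Af D) := hMq.symm ▸ hpq (Ideal.mem_span_singleton_self _)
    rw [Ideal.mem_comap, map_natCast] at this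
    rwa [← map_natCast (Ideal.Quotient.mk M), Ideal.Quotient.eq_zero_iff_mem]
  haveI : CharP (D ⧸ M) p := by
    haveI : Nontrivial (D ⧸ M) := Ideal.Quotient.nontrivial_iff.2 hM.ne_top
    exact (CharP.charP_iff_prime_eq_zero hp0.out).2 hpM
  have hagree : ∀ ρ hρ σ hσ (x : Q), θ ρ hρ x - θ σ hσ x ∈ M := by
    intro ρ hρ σ hσ x
    rw [← Ideal.Quotient.eq]
    refine DFunLike.congr_fun (?_ : ((Ideal.Quotient.mkₐ A M).comp (θ ρ hρ)).toRingHom =
      ((Ideal.Quotient.mkₐ A M).comp (θ σ hσ)).toRingHom) x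
    refine IsLocalization.ringHom_ext (Submonoid.powers (AdjoinRoot.of (X ^ p - C f) f)) ?_
    have : ((Ideal.Quotient.mkₐ A M).comp (θ₀ ρ hρ)) = ((Ideal.Quotient.mkₐ A M).comp (θ₀ σ hσ)) := by
      refine AdjoinRoot.algHom_ext ?_
      simp only [AlgHom.comp_apply, θ₀, AdjoinRoot.liftAlgHom_root, Ideal.Quotient.mkₐ_eq_mk]
      refine frobenius_inj (D ⧸ M) p ?_
      rw [frobenius_def, frobenius_def, ← map_pow, ← map_pow]
      refine congrArg _ (Subtype.ext ?_)
      simp [hroot ρ hρ, hroot σ hσ]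
    refine RingHom.ext fun r => ?_
    simp only [RingHom.comp_apply, AlgHom.toRingHom_eq_coe, RingHom.coe_coe, AlgHom.comp_apply, hθ]
    exact DFunLike.congr_fun this r
  -- the values do not depend on the root
  have hext : ∀ (g : B →ₐ[A] D) (s : Af), g (algebraMap Af B s) = algebraMap Af D s := fun g s => by
    have : (g.toRingHom.comp (algebraMap Af B)) = algebraMap Af D := by
      refine IsLocalization.ringHom_ext (Submonoid.powers f) ?_
      ext a
      simp [← IsScalarTower.algebraMap_apply]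
    exact DFunLike.congr_fun this s
  let G : ∀ ρ ∈ rts, B →ₐ[Af] D := fun ρ hρ =>
    { (θ ρ hρ).comp φ with commutes' := hext ((θ ρ hρ).comp φ) }
  have hG : ∀ ρ hρ σ hσ, θ ρ hρ (φ b) = θ σ hσ (φ b) := fun ρ hρ σ hσ =>
    DFunLike.congr_fun (algHom_eq_of_sub_mem hM.ne_top (g := G ρ hρ) (h := G σ hσ)
      fun x => hagree ρ hρ σ hσ (φ x)) b
  -- coefficients
  obtain ⟨⟨r, ⟨_, N, rfl⟩⟩, hr⟩ := IsLocalization.surj (Submonoid.powers (AdjoinRoot.of (X ^ p - C f) f)) (φ b)
  simp only at hr
  obtain ⟨P, rfl⟩ := AdjoinRoot.mk_surjective r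
  set P' := P %ₘ (X ^ p - C f)
  have hmon : (X ^ p - C f).Monic := monic_X_pow_sub_C f hp0.out.ne_zero
  have hPP' : AdjoinRoot.mk (X ^ p - C f) P = AdjoinRoot.mk (X ^ p - C f) P' := by
    rw [AdjoinRoot.mk_eq_mk]
    exact ⟨P /ₘ (X ^ p - C f), sub_eq_of_eq_add' (modByMonic_add_div P (X ^ p - C f)).symm⟩
  have hdeg : P'.natDegree < p :=
    lt_of_lt_of_eq (natDegree_modByMonic_lt P hmon (fun h => by
      have := congrArg natDegree h
      rw [natDegree_X_pow_sub_C, natDegree_one] at this
      exact hp0.out.ne_zero this)) (natDegree_X_pow_sub_C)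
  obtain ⟨ρ₀, hρ₀⟩ : rts.Nonempty := Finset.card_pos.1 (hcard ▸ hp0.out.pos)
  have hval : ∀ ρ (hρ : ρ ∈ rts), aeval ρ P' = ((θ ρ₀ hρ₀ (φ b)) : L) * algebraMap A L f ^ N := by
    intro ρ hρ
    have h1 := congrArg (θ ρ hρ) hr
    have hof : θ₀ ρ hρ (AdjoinRoot.of (X ^ p - C f) f) = algebraMap A D f := (θ₀ ρ hρ).commutes f
    rw [hθ ρ hρ, map_mul, hθ ρ hρ, map_pow, hof, hG ρ hρ ρ₀ hρ₀, hPP'] at h1
    have h2 := congrArg (Subalgebra.val D) h1
    rw [map_mul, map_pow] at h2
    refine Eq.trans ?_ h2.symm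
    change _ = ((Subalgebra.val D).restrictScalars A).comp (θ₀ ρ hρ) (AdjoinRoot.mk _ P')
    rw [← AdjoinRoot.aeval_eq, ← aeval_algHom_apply]
    simp [θ₀]
  have hconst : P' = C (P'.coeff 0) := by
    have hz : P'.map (algebraMap A L) - C (((θ ρ₀ hρ₀ (φ b)) : L) * algebraMap A L f ^ N) = 0 := by
      refine eq_zero_of_natDegree_lt_card_of_eval_eq_zero' _ rts (fun ρ hρ => ?_) ?_
      · rw [eval_sub, eval_C, eval_map_algebraMap, hval ρ hρ, sub_self]
      · rw [hcard, natDegree_sub_C, natDegree_map_eq_of_injective hinjA]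
        exact hdeg
    refine eq_C_of_natDegree_eq_zero ?_
    rw [← natDegree_map_eq_of_injective hinjA, sub_eq_zero.1 hz, natDegree_C]
  let sN : Submonoid.powers f := ⟨f ^ N, N, rfl⟩
  refine ⟨IsLocalization.mk' Af (P'.coeff 0) sN, ?_⟩
  have hu : IsUnit (algebraMap A Q f ^ N) := by
    rw [IsScalarTower.algebraMap_apply A R Q, AdjoinRoot.algebraMap_eq]
    exact (IsLocalization.Away.algebraMap_isUnit _).pow N
  refine hu.mul_right_cancel ?_
  have hC : ∀ a : A, algebraMap R Q (AdjoinRoot.of (X ^ p - C f) a) = algebraMap A Q a := fun a =>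
    (IsScalarTower.algebraMap_apply A R Q a).symm
  rw [map_pow, hC, hPP', hconst, AdjoinRoot.mk_C, hC] at hr
  rw [hr, IsScalarTower.algebraMap_apply A Af Q, IsScalarTower.algebraMap_apply A Af Q f, ← map_pow,
    ← map_mul, ← map_pow, show f ^ N = (sN : A) from rfl, IsLocalization.mk'_spec]

end

/-- Inverting a scalar in a split algebra. -/
noncomputable def awayPi {S C : Type u} [CommRing S] [CommRing C] [Algebra S C] {ι : Type u} [Fintype ι]
    [DecidableEq ι] (e : C ≃ₐ[S] (ι → S)) (r : S) :
    Localization.Away (algebraMap S C r) ≃ₐ[S] (ι → Localization.Away r) :=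
  ((IsLocalization.Away.tensorEquiv (R := S) C r (Localization.Away r)).symm.restrictScalars S).trans
    ((Algebra.TensorProduct.congr e AlgEquiv.refl).trans ((Algebra.TensorProduct.comm S _ _).trans
      ((Algebra.TensorProduct.piScalarRight S S (Localization.Away r) ι).restrictScalars S)))

end Groth.Pi1Tame
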