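import Groth.Agent.Pi1Tame.KummerRing
import Groth.Agent.SmoothSlice.Slice
import Groth.Agent.EtaleAlgebra.AbsFlat
import Groth.Agent.Ega4Algebra2.StrictStage

/-!
# The parameters of a relative strict normal crossings divisor on local rings and their strict henselizations
-/

set_option autoImplicit false
set_option linter.style.haveILetI false
universe u

open CategoryTheory AlgebraicGeometry TensorProduct MvPolynomial

namespace Groth.Pi1Tame.KR

/-- Colon ideals commute with flat extension. -/
theorem colon_map_of_flat {P A : Type u} [CommRing P] [CommRing A] [Algebra P A] [Module.Flat P A]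
    (I : Ideal P) (t : P) (h : ∀ p, t * p ∈ I → p ∈ I) {y : A}
    (hy : algebraMap P A t * y ∈ I.map (algebraMap P A)) : y ∈ I.map (algebraMap P A) := by
  let e := Algebra.TensorProduct.quotIdealMapEquivTensorQuot A I
  have hinj : Function.Injective (LinearMap.lsmul P (P ⧸ I) t) := by
    rw [injective_iff_map_eq_zero]
    intro z hz
    obtain ⟨p, rfl⟩ := Ideal.Quotient.mk_surjective z
    exact Ideal.Quotient.eq_zero_iff_mem.2 (h p (Ideal.Quotient.eq_zero_iff_mem.1 (by simpa [Algebra.smul_def] using hz)))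
  have h2 := Module.Flat.lTensor_preserves_injective_linearMap (M := A) _ hinj
  rw [← Ideal.Quotient.eq_zero_iff_mem]
  refine e.injective (h2 ?_)
  rw [map_zero, map_zero]
  have h3 : e (Ideal.Quotient.mk _ (algebraMap P A t * y)) = 0 := by
    rw [Ideal.Quotient.eq_zero_iff_mem.2 hy, map_zero]
  rw [Algebra.TensorProduct.quotIdealMapEquivTensorQuot_mk] at h3 ⊢
  rw [LinearMap.lTensor_tmul, LinearMap.lsmul_apply, ← h3, tmul_smul, smul_tmul', Algebra.smul_def]

theorem isRadical_map_of_smooth {P C : Type u} [CommRing P] [CommRing C] [Algebra P C] [Algebra.Smooth P C]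
    (I : Ideal P) (h : I.IsRadical) : (I.map (algebraMap P C)).IsRadical := by
  haveI := (Ideal.isRadical_iff_quotient_reduced I).1 h
  haveI := Groth.Calg4.isReduced_of_smooth (P ⧸ I) ((P ⧸ I) ⊗[P] C)
  exact (Ideal.isRadical_iff_quotient_reduced _).2 (isReduced_of_injective
    (Algebra.TensorProduct.quotIdealMapEquivQuotTensor C I).toRingEquiv.toRingHom
    (Algebra.TensorProduct.quotIdealMapEquivQuotTensor C I).injective)

theorem isRadical_map_of_weaklyEtale {P C : Type u} [CommRing P] [CommRing C] [Algebra P C]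
    [Algebra.WeaklyEtale P C] (I : Ideal P) (h : I.IsRadical) : (I.map (algebraMap P C)).IsRadical := by
  haveI := (Ideal.isRadical_iff_quotient_reduced I).1 h
  haveI := Groth.EtaleAlgebra.isReduced_of_weaklyEtale (P ⧸ I) ((P ⧸ I) ⊗[P] C)
  exact (Ideal.isRadical_iff_quotient_reduced _).2 (isReduced_of_injective
    (Algebra.TensorProduct.quotIdealMapEquivQuotTensor C I).toRingEquiv.toRingHom
    (Algebra.TensorProduct.quotIdealMapEquivQuotTensor C I).injective)

theorem isRadical_map_of_localization {C A : Type u} [CommRing C] [CommRing A] [Algebra C A] (M : Submonoid C)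
    [IsLocalization M A] (I : Ideal C) (h : I.IsRadical) : (I.map (algebraMap C A)).IsRadical := by
  rintro x ⟨k, hk⟩
  obtain ⟨c, s, rfl⟩ := IsLocalization.exists_mk'_eq M x
  rw [← IsLocalization.mk'_pow, IsLocalization.mk'_mem_map_algebraMap_iff] at hk
  rw [IsLocalization.mk'_mem_map_algebraMap_iff]
  obtain ⟨u, hu, hu'⟩ := hk
  refine ⟨u, hu, h ⟨k + 1, ?_⟩⟩
  rw [show (u * c) ^ (k + 1) = (u ^ k * c) * (u * c ^ k) by ring]
  exact I.mul_mem_left _ hu'

variable {ι : Type}

/-- The data after a flat base change preserving the radical ideals in sight. -/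
theorem SncData.baseChange {A R : Type u} [CommRing A] [CommRing R] [Algebra A R] [Module.Flat A R]
    {a : ι → A} {N : Ideal A} (hd : SncData A a N)
    (hrad : ∀ I : Ideal A, I.IsRadical → (I.map (algebraMap A R)).IsRadical) :
    SncData R (algebraMap A R ∘ a) (N.map (algebraMap A R)) := by
  have hsup : ∀ i, N.map (algebraMap A R) ⊔ Ideal.span {algebraMap A R (a i)} =
      (N ⊔ Ideal.span {a i}).map (algebraMap A R) := fun i => by
    rw [Ideal.map_sup, Ideal.map_span, Set.image_singleton]
  refine ⟨fun x hx => ?_, fun i x hx => colon_map_of_flat N (a i) (hd.colon i) hx, fun i => ?_,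
    fun i j hij x hx => ?_⟩
  · rw [← mem_nilradical]
    refine (Ideal.map_le_iff_le_comap.2 fun z hz => ?_) hx
    rw [Ideal.mem_comap, mem_nilradical]
    exact (hd.nil z hz).map _
  · rw [Function.comp_apply, hsup]
    exact hrad _ (hd.radical i)
  · rw [Function.comp_apply, hsup] at hx ⊢
    exact colon_map_of_flat _ (a j) (hd.colon₂ i j hij) hx

theorem SncData.strictHensel {A R : Type u} [CommRing A] [IsLocalRing A] [CommRing R] [IsLocalRing R]
    [Algebra A R] [IsLocalHom (algebraMap A R)] [Hensel.IsStrictHenselization A R] {a : ι → A} {N : Ideal A}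
    (hd : SncData A a N) : SncData R (algebraMap A R ∘ a) (N.map (algebraMap A R)) := by
  haveI := Groth.Ega4Algebra2.StrictStage.weaklyEtale (A := A) (S := R)
  exact hd.baseChange fun I hI => isRadical_map_of_weaklyEtale I hI

/-- Distinct coordinates of a polynomial ring, read in an algebra that is a localization of an étale one. -/
theorem exists_sncData_of_chart {R C A : Type u} {σ : Type u} [CommRing R] [CommRing C] [CommRing A]
    [Algebra (MvPolynomial σ R) C] [Algebra.Etale (MvPolynomial σ R) C] [Algebra (MvPolynomial σ R) A]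
    [Algebra C A] [IsScalarTower (MvPolynomial σ R) C A] (M : Submonoid C) [IsLocalization M A]
    (e : ι → σ) (he : Function.Injective e) (a : ι → A)
    (ha : ∀ i, a i = algebraMap (MvPolynomial σ R) A (X (e i))) : ∃ N, SncData A a N := by
  classical
  haveI : Module.Flat C A := IsLocalization.flat A M
  haveI : Module.Flat (MvPolynomial σ R) A := Module.Flat.trans _ C A
  let q : R →+* R ⧸ nilradical R := Ideal.Quotient.mk _
  haveI : IsReduced (R ⧸ nilradical R) := (Ideal.isRadical_iff_quotient_reduced _).1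
    (fun x hx => by
      obtain ⟨k, hk⟩ := hx
      rw [mem_nilradical] at hk ⊢
      exact hk.of_pow)
  let π : MvPolynomial σ R →+* MvPolynomial σ (R ⧸ nilradical R) := MvPolynomial.map q
  let ψ : ι → (MvPolynomial σ R →+* MvPolynomial σ (R ⧸ nilradical R)) := fun i =>
    MvPolynomial.eval₂Hom (MvPolynomial.C.comp q) (fun s => if s = e i then 0 else X s)
  haveI : IsReduced (MvPolynomial σ (R ⧸ nilradical R)) := inferInstance
  have hker : ∀ i, RingHom.ker (ψ i) = RingHom.ker π ⊔ Ideal.span {X (e i)} := by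
    intro i
    refine le_antisymm (fun p hp => ?_) (sup_le (fun p hp => ?_) ?_)
    · let κ : MvPolynomial σ R →+* MvPolynomial σ R :=
        MvPolynomial.eval₂Hom MvPolynomial.C (fun s => if s = e i then 0 else X s)
      have h1 : π.comp κ = ψ i := by
        refine MvPolynomial.ringHom_ext (fun r => by simp [π, κ, ψ]) fun s => ?_
        by_cases h : s = e i <;> simp [π, κ, ψ, h]
      have h2 : ∀ p, p - κ p ∈ Ideal.span {X (e i)} := by
        intro p
        induction p using MvPolynomial.induction_on with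
        | C r => simp [κ]
        | add p q hp hq => rw [map_add, add_sub_add_comm]; exact add_mem hp hq
        | mul_X p s hp =>
          by_cases h : s = e i
          · subst h
            simp only [map_mul, κ, eval₂Hom_X', if_pos, mul_zero, sub_zero]
            exact Ideal.mul_mem_left _ _ (Ideal.mem_span_singleton_self _)
          · rw [map_mul, show κ (X s) = X s by simp [κ, h], ← sub_mul]
            exact Ideal.mul_mem_right _ _ hp
      rw [show p = κ p + (p - κ p) by ring]
      exact Submodule.add_mem_sup (by rw [RingHom.mem_ker, ← RingHom.comp_apply, h1]; exact hp) (h2 p)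
    · have h1 : ψ i = (MvPolynomial.eval₂Hom MvPolynomial.C (fun s => if s = e i then 0 else X s)).comp π := by
        refine MvPolynomial.ringHom_ext (fun r => by simp [π, ψ]) fun s => ?_
        simp [π, ψ]
      rw [RingHom.mem_ker, h1, RingHom.comp_apply, RingHom.mem_ker.1 hp, map_zero]
    · rw [Ideal.span_le, Set.singleton_subset_iff, SetLike.mem_coe, RingHom.mem_ker]
      simp [ψ]
  have hXreg : ∀ (s : σ) (z : MvPolynomial σ (R ⧸ nilradical R)), X s * z = 0 → z = 0 := fun s z hz =>
    isRegular_X.left (hz.trans (mul_zero _).symm)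
  let g := algebraMap (MvPolynomial σ R) A
  have hN : ∀ i, (RingHom.ker π).map g ⊔ Ideal.span {a i} = (RingHom.ker (ψ i)).map g := fun i => by
    rw [hker, Ideal.map_sup, Ideal.map_span, Set.image_singleton, ← ha]
  refine ⟨(RingHom.ker π).map g, fun x hx => ?_, fun i x hx => ?_, fun i => ?_, fun i j hij x hx => ?_⟩
  · rw [← mem_nilradical]
    refine (Ideal.map_le_iff_le_comap.2 fun z hz => ?_) hx
    rw [Ideal.mem_comap, mem_nilradical]
    refine IsNilpotent.map ?_ _
    rw [MvPolynomial.ker_map, Ideal.mk_ker] at hz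
    have : (nilradical R).map (MvPolynomial.C : R →+* MvPolynomial σ R) ≤ nilradical _ :=
      Ideal.map_le_iff_le_comap.2 fun r hr => by
        rw [Ideal.mem_comap, mem_nilradical]
        exact (mem_nilradical.1 hr).map _
    exact mem_nilradical.1 (this hz)
  · rw [ha] at hx
    refine colon_map_of_flat _ (X (e i)) (fun p hp => ?_) hx
    rw [RingHom.mem_ker, map_mul] at hp
    exact hXreg (e i) _ (by simpa [π] using hp)
  · rw [hN, show g = (algebraMap C A).comp (algebraMap (MvPolynomial σ R) C) from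
      IsScalarTower.algebraMap_eq _ _ _, ← Ideal.map_map]
    exact isRadical_map_of_localization M _ (isRadical_map_of_smooth _ (fun z ⟨k, hk⟩ => RingHom.mem_ker.2 (IsReduced.eq_zero _ ⟨k, by rw [← map_pow]; exact hk⟩)))
  · rw [hN] at hx ⊢
    rw [ha] at hx
    refine colon_map_of_flat _ (X (e j)) (fun p hp => ?_) hx
    rw [RingHom.mem_ker, map_mul] at hp
    refine hXreg (e j) _ ?_
    simpa [ψ, if_neg (he.ne (Ne.symm hij))] using hp

open SGA1t in
/-- The local equations at a point of a relative strict normal crossings divisor. -/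
theorem exists_sncData {X S : Scheme.{u}} (f : X ⟶ S) {r : ℕ} (φ : Fin r → Γ(X, ⊤))
    (hD : SGA1t.IsRelSNC f φ) (x : X) (hx : Nonempty (SGA1t.vanishingAt φ x)) :
    ∃ N : Ideal (X.presheaf.stalk x),
      SncData (X.presheaf.stalk x)
        (fun i : SGA1t.vanishingAt φ x => (X.presheaf.germ ⊤ x trivial).hom (φ i.1)) N := by
  let A := X.presheaf.stalk x
  obtain ⟨W, hxW, d, v, e, he, het, hv⟩ := hD x hx
  obtain ⟨U, hU, hfU, -⟩ := exists_isAffineOpen_mem_and_subset (U := (⊤ : S.Opens)) (x := f x) trivial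
  obtain ⟨W', hW', hxW', hW'le⟩ := exists_isAffineOpen_mem_and_subset (U := W ⊓ f ⁻¹ᵁ U) (x := x) ⟨hxW, hfU⟩
  have hWW : W' ≤ W := fun z hz => (hW'le hz).1
  have hWU : W' ≤ f ⁻¹ᵁ U := fun z hz => (hW'le hz).2
  let ψ := f.appLE U W' hWU
  have hl0 : Set.range hW'.fromSpec ⊆ Set.range W.ι := by
    rw [hW'.range_fromSpec, Scheme.Opens.range_ι]; exact hWW
  let l := IsOpenImmersion.lift W.ι hW'.fromSpec hl0
  have hl : l ≫ W.ι = hW'.fromSpec := IsOpenImmersion.lift_fac _ _ _
  have : IsOpenImmersion l := by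
    have : IsOpenImmersion (l ≫ W.ι) := hl ▸ inferInstance
    exact IsOpenImmersion.of_comp l W.ι
  let c : ULift.{u} (Fin d) → Γ(X, W') := fun j => (Scheme.ΓSpecIso _).hom (l.appTop (v j))
  have hc : (fun j => (Scheme.ΓSpecIso _).inv (c j)) = l.appTop ∘ v := funext fun j => by
    show ((Scheme.ΓSpecIso _).hom ≫ (Scheme.ΓSpecIso _).inv) (l.appTop (v j)) = _
    rw [Iso.hom_inv_id]; rfl
  let θ := MvPolynomial.eval₂Hom ψ.hom c
  have hθ : θ.Etale := by
    have h1 : Etale (l ≫ AffineSpace.homOfVector (W.ι ≫ f) v) := inferInstance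
    rw [AffineSpace.comp_homOfVector, ← Category.assoc, hl, ← hU.SpecMap_appLE_fromSpec f hW' hWU, ← hc,
      ← Groth.SmoothSlice.homOfVector_map, Groth.SmoothSlice.homOfVector_Spec] at h1
    haveI : IsOpenImmersion (AffineSpace.map (ULift.{u} (Fin d)) hU.fromSpec) :=
      MorphismProperty.of_isPullback (AffineSpace.isPullback_map hU.fromSpec).flip
        (inferInstanceAs (IsOpenImmersion hU.fromSpec))
    haveI := h1
    haveI : Etale (Spec.map (CommRingCat.ofHom θ) ≫ (AffineSpace.SpecIso (ULift.{u} (Fin d)) Γ(S, U)).inv) :=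
      Etale.of_comp _ (AffineSpace.map _ hU.fromSpec)
    have h2 : Etale (Spec.map (CommRingCat.ofHom θ)) := Etale.of_comp _ (AffineSpace.SpecIso _ Γ(S, U)).inv
    exact (HasRingHomProperty.Spec_iff (P := @Etale)).1 h2
  let germA : Γ(X, W') →+* A := (X.presheaf.germ W' x hxW').hom
  letI : Algebra Γ(X, W') A := germA.toAlgebra
  haveI : IsLocalization.AtPrime A (hW'.primeIdealOf ⟨x, hxW'⟩).asIdeal := hW'.isLocalization_stalk ⟨x, hxW'⟩
  letI : Algebra (MvPolynomial (ULift.{u} (Fin d)) Γ(S, U)) Γ(X, W') := θ.toAlgebra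
  letI : Algebra (MvPolynomial (ULift.{u} (Fin d)) Γ(S, U)) A := (germA.comp θ).toAlgebra
  haveI : IsScalarTower (MvPolynomial (ULift.{u} (Fin d)) Γ(S, U)) Γ(X, W') A :=
    IsScalarTower.of_algebraMap_eq fun r => rfl
  haveI : Algebra.Etale (MvPolynomial (ULift.{u} (Fin d)) Γ(S, U)) Γ(X, W') := hθ
  refine exists_sncData_of_chart (R := Γ(S, U)) (σ := ULift.{u} (Fin d)) (C := Γ(X, W'))
    (hW'.primeIdealOf ⟨x, hxW'⟩).asIdeal.primeCompl (fun i => ULift.up (e i))
    (fun i j h => he (congrArg ULift.down h)) _ fun i => ?_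
  show (X.presheaf.germ ⊤ x trivial) (φ i.1) = germA (θ (MvPolynomial.X _))
  rw [MvPolynomial.eval₂Hom_X']
  show _ = germA ((Scheme.ΓSpecIso _).hom (l.appTop (v (ULift.up (e i)))))
  rw [hv i]
  have key : ∀ s : Γ(X, ⊤), (Scheme.ΓSpecIso Γ(X, W')).hom (l.appTop (W.topIso.inv (X.presheaf.map (homOfLE le_top).op s))) =
      X.presheaf.map (homOfLE le_top).op s := by
    intro s
    have h1 : hW'.fromSpec.appTop = X.presheaf.map (homOfLE le_top).op ≫ (Scheme.ΓSpecIso Γ(X, W')).inv :=
      by rw [Scheme.Hom.appTop, hW'.fromSpec_app_of_le ⊤ le_top]; simp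
    have h2 : X.presheaf.map (homOfLE le_top).op ≫ W.topIso.inv = W.ι.appTop := by
      simp [Scheme.Opens.topIso]
      refine (X.presheaf.map_comp _ _).symm.trans ?_
      rfl
    have h3 : X.presheaf.map (homOfLE (le_top : W ≤ ⊤)).op ≫ W.topIso.inv ≫ l.appTop ≫ (Scheme.ΓSpecIso Γ(X, W')).hom =
        X.presheaf.map (homOfLE le_top).op := by
      rw [reassoc_of% h2, ← Category.assoc W.ι.appTop, ← Scheme.Hom.comp_appTop, hl, h1, Category.assoc,
        Iso.inv_hom_id, Category.comp_id]
    exact congr($h3 s)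
  rw [key]
  exact (TopCat.Presheaf.germ_res_apply X.presheaf _ x hxW' _).symm

end Groth.Pi1Tame.KR
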