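import Groth.Agent.Pi1Tame.Abhyankar
import Groth.Agent.EtaleBase.Rigidity

/-!
# Kummer coverings dominate tame covers over strictly henselian rings
-/

universe u

set_option autoImplicit false
set_option linter.style.haveILetI false
set_option linter.unusedSectionVars false
set_option backward.isDefEq.respectTransparency false
set_option backward.defeqAttrib.useBackward true

open CategoryTheory CategoryTheory.Limits AlgebraicGeometry SGA1 IsLocalRing CommAlgCat

namespace Groth.Pi1Tame

variable {A : Type u} [CommRing A] [IsDomain A] [IsRegularLocalRing A] [HenselianLocalRing A]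
  [IsSepClosed (ResidueField A)] {r : ℕ} {f : Fin r → A} {hm : ∀ i, f i ∈ maximalIdeal A}
  [∀ i, (Ideal.span {f i}).IsPrime]
  (hf : LinearIndependent (ResidueField A) (fun i => (maximalIdeal A).toCotangent ⟨f i, hm i⟩))
  {n : Fin r → ℕ} (hn : ∀ i, 2 ≤ n i)

include hf hn in
theorem henselian_kummer : HenselianLocalRing (kummerAlg A f n) := by
  haveI := (kummer_regular hf hn).1
  haveI := module_finite (A := A) (f := f) (n := n) fun l => le_trans one_le_two (hn l)
  exact Groth.EtaleAlgebra.henselianLocalRing_of_isIntegral A (kummerAlg A f n)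

include hf hn in
theorem isSepClosed_residue_kummer [IsLocalRing (kummerAlg A f n)] :
    IsSepClosed (ResidueField (kummerAlg A f n)) := by
  haveI := module_finite (A := A) (f := f) (n := n) fun l => le_trans one_le_two (hn l)
  haveI : IsLocalHom (algebraMap A (kummerAlg A f n)) := ⟨fun a ha => by
    by_contra hu
    have h1 : (maximalIdeal (kummerAlg A f n)).comap (algebraMap A _) = maximalIdeal A :=
      IsLocalRing.eq_maximalIdeal (Ideal.isMaximal_comap_of_isIntegral_of_isMaximal _)
    exact (mem_maximalIdeal _).1 (h1.ge ((mem_maximalIdeal a).2 hu)) ha⟩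
  have hres : Function.Surjective (algebraMap (ResidueField A) (ResidueField (kummerAlg A f n))) := by
    intro z
    obtain ⟨w, rfl⟩ := residue_surjective z
    have hex : ∀ w : kummerAlg A f n, ∃ a : A, w - algebraMap A _ a ∈ maximalIdeal (kummerAlg A f n) := fun w =>
      induction_on (P := fun w => ∃ a : A, w - algebraMap A _ a ∈ maximalIdeal (kummerAlg A f n)) w
        (fun a => ⟨a, by rw [sub_self]; exact zero_mem _⟩)
        (fun u v ⟨a, ha⟩ ⟨b, hb⟩ => ⟨a + b, by rw [map_add, add_sub_add_comm]; exact add_mem ha hb⟩)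
        (fun u l _ => ⟨0, by
          rw [map_zero, sub_zero]
          refine Ideal.mul_mem_left _ _ ?_
          rw [maximalIdeal_kummer (hm := hm) hn]
          exact Ideal.mem_sup_right (Ideal.subset_span ⟨l, rfl⟩)⟩)
    obtain ⟨a, ha⟩ := hex w
    refine ⟨residue A a, ?_⟩
    rw [ResidueField.algebraMap_residue, eq_comm, ← sub_eq_zero, ← map_sub, residue_eq_zero_iff]
    exact ha
  let eres : ResidueField A ≃+* ResidueField (kummerAlg A f n) :=
    RingEquiv.ofBijective (algebraMap (ResidueField A) _) ⟨RingHom.injective _, hres⟩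
  exact IsSepClosed.of_exists_root _ fun P hP hirr hsep => by
    obtain ⟨x, hx⟩ := IsSepClosed.exists_root (P.map eres.symm.toRingHom)
      (by rw [Polynomial.degree_map]; exact (Polynomial.degree_pos_of_irreducible hirr).ne')
      hsep.map
    refine ⟨eres x, eres.symm.injective ?_⟩
    rw [map_zero, ← hx, Polynomial.eval_map, ← RingEquiv.coe_toRingHom, Polynomial.eval, Polynomial.hom_eval₂,
      RingHom.comp_id]
    change Polynomial.eval₂ _ (eres.symm (eres x)) P = _
    rw [RingEquiv.symm_apply_apply]
    rfl

include hf hn in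
/-- A point of a finite étale cover of the Kummer scheme over the generic point gives a section. -/
theorem exists_section_of_point (W : FEt.Cat (Spec (CommRingCat.of (kummerAlg A f n)))) {M : Type u} [Field M]
    (g : kummerAlg A f n →+* M) (hg : Function.Injective g)
    (s : Spec (CommRingCat.of M) ⟶ W.left) (hs : s ≫ W.hom = Spec.map (CommRingCat.ofHom g)) :
    ∃ σ : Spec (CommRingCat.of (kummerAlg A f n)) ⟶ W.left, σ ≫ W.hom = 𝟙 _ := by
  haveI := (kummer_regular hf hn).1
  haveI := henselian_kummer hf hn
  haveI : IsSepClosed (ResidueField (kummerAlg A f n)) := isSepClosed_residue_kummer hf hn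
  let A' := kummerAlg A f n
  let E := (Pi1FEt.specFun A').objPreimage W
  let eW : (Pi1FEt.specFun A').obj E ≅ W := (Pi1FEt.specFun A').objObjPreimageIso W
  have hw : eW.hom.left ≫ W.hom = Spec.map (CommRingCat.ofHom (algebraMap A' E.unop.obj)) :=
    MorphismProperty.Over.w eW.hom
  have hw' : eW.inv.left ≫ Spec.map (CommRingCat.ofHom (algebraMap A' E.unop.obj)) = W.hom :=
    MorphismProperty.Over.w eW.inv
  obtain ⟨χ, hχ⟩ := Spec.map_surjective (s ≫ eW.inv.left)
  have hcomp : CommRingCat.ofHom (algebraMap A' E.unop.obj) ≫ χ = CommRingCat.ofHom g := by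
    apply Spec.map_injective
    rw [Spec.map_comp, hχ, Category.assoc, hw', hs]
  letI : Algebra A' M := g.toAlgebra
  let χ' : E.unop.obj →ₐ[A'] M :=
    { toRingHom := χ.hom, commutes' := fun a => congrArg (fun φ => φ.hom a) hcomp }
  haveI : Module.Finite A' χ'.range :=
    Module.Finite.of_surjective χ'.rangeRestrict.toLinearMap χ'.rangeRestrict_surjective
  haveI : Algebra.FormallyUnramified A' χ'.range :=
    Algebra.FormallyUnramified.of_surjective χ'.rangeRestrict χ'.rangeRestrict_surjective
  have hbot : χ'.range = ⊥ := subalgebra_eq_bot_of_henselian _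
  let e := Algebra.botEquivOfInjective (R := A') (A := M) hg
  let π : E.unop.obj →ₐ[A'] A' :=
    e.toAlgHom.comp ((Subalgebra.equivOfEq _ _ hbot).toAlgHom.comp χ'.rangeRestrict)
  refine ⟨Spec.map (CommRingCat.ofHom π.toRingHom) ≫ eW.hom.left, ?_⟩
  rw [Category.assoc, hw, ← Spec.map_comp]
  rw [show CommRingCat.ofHom (algebraMap A' E.unop.obj) ≫ CommRingCat.ofHom π.toRingHom = 𝟙 _ from
    CommRingCat.hom_ext (RingHom.ext fun a => π.commutes a), Spec.map_id]

end Groth.Pi1Tame
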