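import Groth.Agent.Pi1Tame.KummerSub
import Groth.Agent.Pi1Tame.DominatingKummer
import Groth.Agent.PicAux.RegularUFD
import Mathlib.RingTheory.Polynomial.Cyclotomic.Roots
import Mathlib.RingTheory.SurjectiveOnStalks
import Mathlib.RingTheory.Localization.BaseChange

/-!
# Regular tame covers of strictly henselian rings
-/

universe u

set_option autoImplicit false
set_option linter.style.haveILetI false
set_option linter.unusedSectionVars false
set_option backward.isDefEq.respectTransparency false
set_option backward.defeqAttrib.useBackward true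

open CategoryTheory CategoryTheory.Limits AlgebraicGeometry SGA1 IsLocalRing EtRam

namespace Groth.Pi1Tame

/-- Roots of unity of order invertible in the residue field. -/
theorem exists_isPrimitiveRoot (A : Type u) [CommRing A] [IsDomain A] [HenselianLocalRing A]
    [IsSepClosed (ResidueField A)] {n : ℕ} (hn : 1 ≤ n) (hu : IsUnit (n : ResidueField A)) :
    ∃ ζ : A, IsPrimitiveRoot ζ n := by
  haveI : NeZero (n : ResidueField A) := ⟨hu.ne_zero⟩
  haveI : NeZero (n : A) := ⟨fun h => hu.ne_zero (by rw [← map_natCast (residue A), h, map_zero])⟩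
  have hsep := Polynomial.separable_cyclotomic n (ResidueField A)
  obtain ⟨x, hx⟩ := IsSepClosed.exists_root (Polynomial.cyclotomic n (ResidueField A))
    (by rw [Polynomial.degree_cyclotomic]; exact_mod_cast (Nat.totient_pos.2 hn).ne') hsep
  obtain ⟨a₀, rfl⟩ := residue_surjective x
  obtain ⟨a, ha, -⟩ := HenselianLocalRing.is_henselian (Polynomial.cyclotomic n A) (Polynomial.cyclotomic.monic n A) a₀
    (by rw [← residue_eq_zero_iff, ← Polynomial.eval₂_hom, ← Polynomial.eval_map, Polynomial.map_cyclotomic]; exact hx)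
    (by
      rw [← IsLocalRing.notMem_maximalIdeal, ← residue_eq_zero_iff, ← Polynomial.eval₂_hom, ← Polynomial.eval_map,
        ← Polynomial.derivative_map, Polynomial.map_cyclotomic]
      exact hsep.eval₂_derivative_ne_zero (RingHom.id _) (by rw [Polynomial.eval₂_id]; exact hx))
  exact ⟨a, Polynomial.isRoot_cyclotomic_iff.1 ha⟩

/-- Tame ramification only depends on the field up to isomorphism. -/
theorem isTamelyRamified_equiv {R : Type u} [CommRing R] [IsLocalRing R] {L L' : Type u} [Field L] [Field L']
    (g : R →+* L) (e : L ≃+* L') (g' : R →+* L') (hg : ∀ a, g' a = e (g a)) (h : IsTamelyRamified R g) :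
    IsTamelyRamified R g' := by
  intro V hV
  let V₀ := V.comap e.toRingHom
  letI : Algebra R V := (RingHom.codRestrict g' V hV.1).toAlgebra
  intro _
  let ψr : V₀ ≃+* V :=
    { toFun := fun x => ⟨e x, x.2⟩
      invFun := fun y => ⟨e.symm y, by change e (e.symm y) ∈ V; rw [e.apply_symm_apply]; exact y.2⟩
      left_inv := fun x => Subtype.ext (e.symm_apply_apply x)
      right_inv := fun y => Subtype.ext (e.apply_symm_apply y)
      map_mul' := fun x y => Subtype.ext (map_mul e (x : L) y)
      map_add' := fun x y => Subtype.ext (map_add e (x : L) y) }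
  have hmem : ∀ a, g a ∈ V₀ := fun a => by change e (g a) ∈ V; rw [← hg]; exact hV.1 a
  have hV₀ : Dominates R g V₀ := by
    refine ⟨hmem, fun a ha => ?_⟩
    refine (ValuationSubring.valuation_lt_one_iff V₀ ⟨g a, hmem a⟩).1 ?_
    rw [mem_maximalIdeal, mem_nonunits_iff, ← isUnit_map_iff ψr, ← mem_nonunits_iff, ← mem_maximalIdeal,
      ValuationSubring.valuation_lt_one_iff]
    change V.valuation (e (g a)) < 1
    rw [← hg]
    exact hV.2 a ha
  letI : Algebra R V₀ := (RingHom.codRestrict g V₀ hV₀.1).toAlgebra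
  let ψ : V₀ ≃ₐ[R] V := AlgEquiv.ofRingEquiv (f := ψr) fun a => Subtype.ext (hg a).symm
  haveI : IsLocalHom (algebraMap R V₀) := ⟨fun a ha => by
    have := (isUnit_map_iff ψr (algebraMap R V₀ a)).2 ha
    rw [show ψr (algebraMap R V₀ a) = algebraMap R V a from ψ.commutes a] at this
    exact IsLocalHom.map_nonunit a this⟩
  obtain ⟨hsep, hdiv⟩ := h V₀ hV₀
  refine ⟨AlgEquiv.Algebra.isSeparable (ResidueField.mapAlgEquiv' ψ), fun p hp hchar => ?_⟩
  have heq : (maximalIdeal V).comap ψ = maximalIdeal V₀ := by
    ext x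
    rw [Ideal.mem_comap, mem_maximalIdeal, mem_maximalIdeal, mem_nonunits_iff, mem_nonunits_iff]
    exact (isUnit_map_iff ψ x).not
  rw [← Ideal.ramificationIdx'_comap_eq (p := maximalIdeal R) ψ (maximalIdeal V), heq]
  exact hdiv p hp hchar

/-- Tameness passes to maps which are surjective on stalks. -/
theorem isTameAlong_comp {A B C : Type u} [CommRing A] [CommRing B] [CommRing C] {r : ℕ} {f : Fin r → A}
    [∀ i, (Ideal.span {f i}).IsPrime] (φ : A →+* B) (ψ : B →+* C) (hψ : ψ.SurjectiveOnStalks)
    (h : IsTameAlong f φ) : IsTameAlong f (ψ.comp φ) := by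
  intro i q _ hq
  let p := q.comap ψ
  have hp : p.comap φ = ⊥ := by rw [Ideal.comap_comap]; exact hq
  let e : p.ResidueField ≃+* q.ResidueField :=
    RingEquiv.ofBijective _ (hψ.residueFieldMap_bijective p q rfl)
  refine isTamelyRamified_equiv _ e _ (fun a => RingHom.congr_fun
    (g := e.toRingHom.comp (genericResidueMap φ (Ideal.span {f i}) p hp)) ?_ a) (h i p hp)
  refine IsLocalization.ringHom_ext (Ideal.span {f i}).primeCompl (RingHom.ext fun a => ?_)
  simp only [RingHom.comp_apply]
  rw [genericResidueMap, genericResidueMap, IsLocalization.lift_eq, IsLocalization.lift_eq]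
  exact (Ideal.ResidueField.map_algebraMap p q ψ rfl (φ a)).symm

/-- Integral domains mapping to the fraction field of a normal ring map into that ring. -/
theorem exists_algHom_of_field {A A' L B : Type u} [CommRing A] [IsDomain A] [CommRing A'] [IsDomain A'] [IsIntegrallyClosed A']
    [Field L] [CommRing B] [IsDomain B] [Algebra A A'] [Algebra A' L] [IsFractionRing A' L] [Algebra A L]
    [IsScalarTower A A' L] [Algebra A B] [Algebra.IsIntegral A B] (hAL : Function.Injective (algebraMap A L))
    (jA : B →ₐ[A] L) : ∃ ι : B →ₐ[A] A', Function.Injective ι := by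
  have hjinj : Function.Injective jA := by
    rw [← AlgHom.coe_toRingHom, RingHom.injective_iff_ker_eq_bot]
    haveI : (RingHom.ker jA.toRingHom).IsPrime := RingHom.ker_isPrime _
    refine Ideal.eq_bot_of_comap_eq_bot (R := A) ?_
    rw [RingHom.comap_ker]
    exact (RingHom.injective_iff_ker_eq_bot _).1 (fun x y h => hAL (by simpa using h))
  have hrange : ∀ b : B, ∃ z : A', algebraMap A' L z = jA b := fun b =>
    IsIntegrallyClosed.isIntegral_iff.1 (((Algebra.IsIntegral.isIntegral (R := A) b).map jA).tower_top (A := A'))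
  choose z hz using hrange
  have hzinj := IsFractionRing.injective A' L
  refine ⟨{ toFun := z
            map_one' := hzinj (by rw [hz, map_one, map_one])
            map_mul' := fun x y => hzinj (by rw [hz, map_mul, map_mul, hz, hz])
            map_zero' := hzinj (by rw [hz, map_zero, map_zero])
            map_add' := fun x y => hzinj (by rw [hz, map_add, map_add, hz, hz])
            commutes' := fun a => hzinj (by rw [hz, jA.commutes, ← IsScalarTower.algebraMap_apply]) },
    fun x y h => hjinj (by rw [← hz x, ← hz y]; exact congrArg (algebraMap A' L) h)⟩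

variable (A : Type u) [CommRing A] [IsRegularLocalRing A] [IsDomain A] [HenselianLocalRing A]
  [IsSepClosed (ResidueField A)] {r : ℕ} {f : Fin r → A} {hm : ∀ i, f i ∈ maximalIdeal A}
  [∀ i, (Ideal.span {f i}).IsPrime] (B : Type u) [CommRing B] [IsDomain B] [Algebra A B] [Module.Finite A B]

/-- An embedding of a tame cover into a Kummer algebra. -/
theorem exists_embedding
    (hf : LinearIndependent (ResidueField A) (fun i => (maximalIdeal A).toCotangent ⟨f i, hm i⟩))
    (hinj : Function.Injective (algebraMap A B))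
    [Algebra.Etale (Localization.Away (∏ i, f i)) (TensorProduct A (Localization.Away (∏ i, f i)) B)]
    (htame : IsTameAlong f (algebraMap A B)) :
    ∃ n₀ : ℕ, 2 ≤ n₀ ∧ IsUnit (n₀ : ResidueField A) ∧
      ∃ ι : B →ₐ[A] kummerAlg A f (fun _ => n₀), Function.Injective ι := by
  let F₀ := ∏ i, f i
  let S := Localization.Away F₀
  let C := TensorProduct A S B
  letI : Algebra B C := Algebra.TensorProduct.rightAlgebra
  haveI : IsScalarTower A B C := IsScalarTower.of_algebraMap_eq fun a => by
    change algebraMap A C a = (1 : S) ⊗ₜ[A] algebraMap A B a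
    rw [Algebra.algebraMap_eq_smul_one (A := B), TensorProduct.tmul_smul, Algebra.algebraMap_eq_smul_one]
    rfl
  haveI hloc : IsLocalization (Algebra.algebraMapSubmonoid B (Submonoid.powers F₀)) C :=
    IsLocalization.tensorRight S (Submonoid.powers F₀)
  have hF0 : F₀ ≠ 0 := Finset.prod_ne_zero_iff.2 fun i _ => param_ne_zero hf i
  haveI : IsDomain C := IsLocalization.isDomain_of_le_nonZeroDivisors C (M := Algebra.algebraMapSubmonoid B (Submonoid.powers F₀))
    (by
      rintro _ ⟨s, ⟨k, rfl⟩, rfl⟩
      exact mem_nonZeroDivisors_of_ne_zero ((map_ne_zero_iff _ hinj).2 (pow_ne_zero k hF0)))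
  let U := specBasicOpen A F₀
  let e := basicOpenIsoSpecAway (R := CommRingCat.of A) F₀
  let v : Spec (CommRingCat.of C) ⟶ (U : Scheme.{u}) := Spec.map (CommRingCat.ofHom (algebraMap S C)) ≫ e.inv
  haveI : IsFinite v := by
    haveI : IsFinite (Spec.map (CommRingCat.ofHom (algebraMap S C))) :=
      (IsFinite.SpecMap_iff _).2 (RingHom.finite_algebraMap.2 inferInstance)
    infer_instance
  haveI : Etale v := by
    haveI : Etale (Spec.map (CommRingCat.ofHom (algebraMap S C))) :=
      (HasRingHomProperty.Spec_iff (P := @Etale)).2 (RingHom.etale_algebraMap.2 inferInstance)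
    infer_instance
  let V : FEt.Cat (U : Scheme.{u}) := MorphismProperty.Over.mk ⊤ v ⟨‹_›, ‹_›⟩
  haveI : IrreducibleSpace (PrimeSpectrum C) := PrimeSpectrum.irreducibleSpace
  haveI : ConnectedSpace V.left := IrreducibleSpace.connectedSpace (PrimeSpectrum C)
  have hι : v ≫ U.ι = Spec.map (CommRingCat.ofHom (algebraMap A C)) := by
    have h1 : e.inv ≫ U.ι = Spec.map (CommRingCat.ofHom (algebraMap A S)) := by
      rw [Iso.inv_comp_eq]; exact (basicOpenIsoSpecAway_hom_SpecMap (R := CommRingCat.of A) F₀).symm
    rw [Category.assoc, h1, ← Spec.map_comp, ← CommRingCat.ofHom_comp, ← IsScalarTower.algebraMap_eq]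
  let ψ : B →+* Γ(Spec (CommRingCat.of C), ⊤) :=
    (Scheme.ΓSpecIso (CommRingCat.of C)).inv.hom.comp (algebraMap B C)
  have hψ : ψ.SurjectiveOnStalks :=
    (RingHom.surjectiveOnStalks_of_surjective fun z => ⟨(Scheme.ΓSpecIso (CommRingCat.of C)).hom.hom z,
      Iso.hom_inv_id_apply (Scheme.ΓSpecIso (CommRingCat.of C)) z⟩).comp
      (RingHom.surjectiveOnStalks_of_isLocalization (M := Algebra.algebraMapSubmonoid B (Submonoid.powers F₀)) C)
  have hcover : coverHom V = ψ.comp (algebraMap A B) := by
    have h := Scheme.ΓSpecIso_inv_naturality (CommRingCat.ofHom (algebraMap A C))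
    change ((v ≫ U.ι).appTop).hom.comp (Scheme.ΓSpecIso (CommRingCat.of A)).inv.hom = _
    rw [hι, RingHom.comp_assoc, ← IsScalarTower.algebraMap_eq]
    exact (congrArg CommRingCat.Hom.hom h).symm
  have htameV : IsTameAlong f (coverHom V) := hcover ▸ isTameAlong_comp (algebraMap A B) ψ hψ htame
  obtain ⟨n₀, h2, hu, φ, hφ, -⟩ := exists_dominating_kummer A r f hm hf V htameV
  refine ⟨n₀, h2, hu, ?_⟩
  have hn : ∀ _ : Fin r, 2 ≤ n₀ := fun _ => h2
  have hn1 : ∀ _ : Fin r, 1 ≤ n₀ := fun _ => le_trans one_le_two h2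
  let A' := kummerAlg A f fun _ => n₀
  haveI : IsDomain A' := isDomain_kummer hf hn
  haveI : IsRegularLocalRing A' := (kummer_regular hf hn).1
  haveI : IsIntegrallyClosed A' := Groth.Ega4Algebra1.isIntegrallyClosed_of_isRegularLocalRing A'
  let L := FractionRing A'
  let q := Spec.map (CommRingCat.ofHom (algebraMap A A'))
  have hAL : Function.Injective (algebraMap A L) := by
    rw [IsScalarTower.algebraMap_eq A A' L]
    exact (IsFractionRing.injective A' L).comp (injective_algebraMap hn1)
  let gS : S →+* L := IsLocalization.Away.lift F₀ (g := algebraMap A L)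
    (isUnit_iff_ne_zero.2 ((map_ne_zero_iff _ hAL).2 hF0))
  let tA : Spec (CommRingCat.of L) ⟶ Spec (CommRingCat.of A') := Spec.map (CommRingCat.ofHom (algebraMap A' L))
  let tU : Spec (CommRingCat.of L) ⟶ (U : Scheme.{u}) := Spec.map (CommRingCat.ofHom gS) ≫ e.inv
  have htU : tU ≫ U.ι = tA ≫ q := by
    have h1 : e.inv ≫ U.ι = Spec.map (CommRingCat.ofHom (algebraMap A S)) := by
      rw [Iso.inv_comp_eq]; exact (basicOpenIsoSpecAway_hom_SpecMap (R := CommRingCat.of A) F₀).symm
    rw [Category.assoc, h1, ← Spec.map_comp, ← Spec.map_comp, ← CommRingCat.ofHom_comp, ← CommRingCat.ofHom_comp,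
      IsLocalization.Away.lift_comp, ← IsScalarTower.algebraMap_eq]
  let t' : Spec (CommRingCat.of L) ⟶ (q ⁻¹ᵁ U : Scheme.{u}) := (isPullback_morphismRestrict q U).lift tU tA htU
  obtain ⟨j, hj⟩ := Spec.map_surjective (t' ≫ φ ≫ Spec.map (CommRingCat.ofHom (algebraMap B C)))
  have hjA : CommRingCat.ofHom (algebraMap A B) ≫ j = CommRingCat.ofHom (algebraMap A L) := by
    apply Spec.map_injective
    rw [Spec.map_comp, hj]
    simp only [Category.assoc]
    rw [← Spec.map_comp, ← CommRingCat.ofHom_comp, ← IsScalarTower.algebraMap_eq, ← hι]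
    change t' ≫ φ ≫ V.hom ≫ U.ι = _
    rw [reassoc_of% hφ, ← Category.assoc, IsPullback.lift_fst, htU, ← Spec.map_comp, ← CommRingCat.ofHom_comp,
      ← IsScalarTower.algebraMap_eq]
  exact exists_algHom_of_field (A' := A') hAL (L := L)
    { toRingHom := j.hom, commutes' := fun a => congrArg (fun g => g.hom a) hjA }

end Groth.Pi1Tame
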